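import Mathlib
import Cfsg.Agent.Mrg.Omega.NO1.Beta.Meet

section


/-!
# The `F`-structure on `Q/R` (types (beta) and (gamma))

`Q` of class 2 with `Q' , Φ(Q) ≤ R = Z(Q)`, `R ≅ F` (coordinate `ρ`), `K` normalises `Q` and centralises `R`, `Q` is
generated by the `K`-conjugates of `E`, and the maps `[x, ·]`, `x ∈ E`, are closed under multiplication by
elements of `F`.  Then `Q/R` is an `F`-space `M` (the space of all functions `ρ [x, ·]`), with the quadratic form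
`s = ρ (x²)` with polar form `f = ρ [x, y]`, and `K` acts `F`-linearly as a group of isometries.
-/

set_option autoImplicit false

namespace Cfsg.Agent.Omega.NOne.FStr

open scoped commutatorElement

/-- The input without the generation hypothesis. -/
structure Pre (F : Type*) [Field F] (G : Type*) [Group G] where
  K : Subgroup G
  Q : Subgroup G
  R : Subgroup G
  E : Subgroup G
  ρ : G → F
  two : (2 : F) = 0
  R_le : R ≤ Q
  Q_le : Q ≤ K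
  E_le : E ≤ Q
  norm : ∀ k ∈ K, ∀ x ∈ Q, k * x * k⁻¹ ∈ Q
  cent : ∀ k ∈ K, ∀ r ∈ R, k * r = r * k
  comm : ∀ x ∈ Q, ∀ y ∈ Q, ⁅x, y⁆ ∈ R
  sq : ∀ x ∈ Q, x * x ∈ R
  R_sq : ∀ r ∈ R, r * r = 1
  center : ∀ x ∈ Q, (∀ y ∈ Q, x * y = y * x) → x ∈ R
  ρ_mul : ∀ r ∈ R, ∀ r' ∈ R, ρ (r * r') = ρ r + ρ r'
  ρ_inj : ∀ r ∈ R, ρ r = 0 → r = 1
  E_sq : ∀ x ∈ E, x * x = 1
  sc : ∀ a : F, ∀ x ∈ E, ∃ y ∈ E, ∀ z ∈ Q, ρ ⁅y, z⁆ = a * ρ ⁅x, z⁆

/-- The input. -/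
structure Inp (F : Type*) [Field F] (G : Type*) [Group G] extends Pre F G where
  gen : Q ≤ Subgroup.closure {y | ∃ k ∈ K, ∃ x ∈ E, y = k * x * k⁻¹}

namespace Pre

variable {F : Type*} [Field F] {G : Type*} [Group G] (D : Pre F G)

include D in
theorem dbl (a : F) : a + a = 0 := by
  rw [← two_mul, D.two, zero_mul]

theorem ρ_one : D.ρ 1 = 0 := by
  have h := D.ρ_mul 1 D.R.one_mem 1 D.R.one_mem
  rw [mul_one] at h
  linear_combination -h

theorem R_K {r : G} (hr : r ∈ D.R) {k : G} (hk : k ∈ D.K) : k * r * k⁻¹ = r := by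
  rw [D.cent k hk r hr, mul_inv_cancel_right]

/-- `R` is central in `Q` -/
theorem R_comm {r : G} (hr : r ∈ D.R) {x : G} (hx : x ∈ D.Q) : x * r = r * x := D.cent x (D.Q_le hx) r hr

theorem inv_R {r : G} (hr : r ∈ D.R) : r⁻¹ = r := by
  rw [inv_eq_iff_mul_eq_one]; exact D.R_sq r hr

theorem comm_mul_left {x y z : G} (hx : x ∈ D.Q) (hy : y ∈ D.Q) (hz : z ∈ D.Q) :
    ⁅x * y, z⁆ = ⁅x, z⁆ * ⁅y, z⁆ := by
  have h1 : ⁅x * y, z⁆ = x * ⁅y, z⁆ * x⁻¹ * ⁅x, z⁆ := by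
    simp only [commutatorElement_def]; group
  have h2 := D.comm y hy z hz
  have h3 := D.comm x hx z hz
  rw [h1, D.R_K h2 (D.Q_le hx), D.R_comm h3 (D.R_le h2)]

theorem comm_symm {x y : G} (hx : x ∈ D.Q) (hy : y ∈ D.Q) : ⁅x, y⁆ = ⁅y, x⁆ := by
  rw [← commutatorElement_inv, D.inv_R (D.comm y hy x hx)]

theorem comm_mul_right {x y z : G} (hx : x ∈ D.Q) (hy : y ∈ D.Q) (hz : z ∈ D.Q) :
    ⁅x, y * z⁆ = ⁅x, y⁆ * ⁅x, z⁆ := by
  rw [D.comm_symm hx (D.Q.mul_mem hy hz), D.comm_mul_left hy hz hx, D.comm_symm hx hy, D.comm_symm hx hz]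

/-- the function `ρ [x, ·]` -/
def fn (x : G) : D.Q → F := fun z => D.ρ ⁅x, (z : G)⁆

theorem fn_mul {x y : G} (hx : x ∈ D.Q) (hy : y ∈ D.Q) : D.fn (x * y) = D.fn x + D.fn y := by
  funext z
  change D.ρ _ = D.ρ _ + D.ρ _
  rw [D.comm_mul_left hx hy z.2, D.ρ_mul _ (D.comm x hx z z.2) _ (D.comm y hy z z.2)]

theorem fn_one : D.fn 1 = 0 := by
  funext z
  change D.ρ _ = 0
  rw [commutatorElement_one_left, D.ρ_one]

theorem fn_inv {x : G} (hx : x ∈ D.Q) : D.fn x⁻¹ = D.fn x := by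
  have h := D.fn_mul hx (D.Q.inv_mem hx)
  rw [mul_inv_cancel, D.fn_one] at h
  funext z
  have h1 := congrFun h z
  simp only [Pi.zero_apply, Pi.add_apply] at h1
  linear_combination -h1 - D.fn x z * D.two

theorem fn_eq_zero {x : G} (hx : x ∈ D.Q) : D.fn x = 0 ↔ x ∈ D.R := by
  constructor
  · intro h
    refine D.center x hx fun y hy => ?_
    have h1 : D.ρ ⁅x, y⁆ = 0 := congrFun h ⟨y, hy⟩
    have h2 := D.ρ_inj _ (D.comm x hx y hy) h1
    rwa [commutatorElement_eq_one_iff_mul_comm] at h2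
  · intro h
    funext z
    change D.ρ ⁅x, (z : G)⁆ = 0
    rw [commutatorElement_eq_one_iff_mul_comm.2 (D.R_comm h z.2).symm, D.ρ_one]

/-- conjugation by `k⁻¹` on `Q` -/
theorem conj_mem {k : G} (hk : k ∈ D.K) (z : D.Q) : k⁻¹ * (z : G) * k ∈ D.Q := by
  have := D.norm k⁻¹ (D.K.inv_mem hk) z z.2
  rwa [inv_inv] at this

theorem fn_conj {k x : G} (hk : k ∈ D.K) (hx : x ∈ D.Q) (z : D.Q) :
    D.fn (k * x * k⁻¹) z = D.fn x ⟨k⁻¹ * z * k, by
      have := D.norm k⁻¹ (D.K.inv_mem hk) z z.2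
      rwa [inv_inv] at this⟩ := by
  change D.ρ _ = D.ρ _
  congr 1
  have h1 : k⁻¹ * (z : G) * k ∈ D.Q := by
    have := D.norm k⁻¹ (D.K.inv_mem hk) z z.2
    rwa [inv_inv] at this
  rw [← D.R_K (D.comm x hx _ h1) hk]
  simp only [commutatorElement_def]
  group

/-- the subgroup generated by the `K`-conjugates of `E` -/
def Y : Subgroup G := Subgroup.closure {y | ∃ k ∈ D.K, ∃ x ∈ D.E, y = k * x * k⁻¹}

theorem Y_le : D.Y ≤ D.Q := by
  rw [Y, Subgroup.closure_le]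
  rintro _ ⟨k, hk, e, he, rfl⟩
  exact D.norm k hk e (D.E_le he)

theorem conj_mem_Y {k : G} (hk : k ∈ D.K) {x : G} (hx : x ∈ D.Y) : k * x * k⁻¹ ∈ D.Y := by
  have h : D.Y ≤ D.Y.comap (MulAut.conj k).toMonoidHom := by
    conv_lhs => rw [Y]
    rw [Subgroup.closure_le]
    rintro _ ⟨l, hl, e, he, rfl⟩
    refine Subgroup.subset_closure ⟨k * l, D.K.mul_mem hk hl, e, he, ?_⟩
    simp only [MulEquiv.coe_toMonoidHom, MulAut.conj_apply]
    group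
  exact h hx

/-- closure of the functions under scalars -/
theorem fn_smul_Y (a : F) {x : G} (hx : x ∈ D.Y) : ∃ y ∈ D.Y, D.fn y = a • D.fn x := by
  have h : ∀ x ∈ Subgroup.closure {y | ∃ k ∈ D.K, ∃ x ∈ D.E, y = k * x * k⁻¹},
      x ∈ D.Q ∧ ∃ y ∈ D.Y, D.fn y = a • D.fn x := by
    intro x hx
    induction hx using Subgroup.closure_induction with
    | mem x hx =>
      obtain ⟨k, hk, e, he, rfl⟩ := hx
      refine ⟨D.norm k hk e (D.E_le he), ?_⟩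
      obtain ⟨y, hy, h1⟩ := D.sc a e he
      refine ⟨k * y * k⁻¹, Subgroup.subset_closure ⟨k, hk, y, hy, rfl⟩, ?_⟩
      funext z
      rw [D.fn_conj hk (D.E_le hy), Pi.smul_apply, D.fn_conj hk (D.E_le he)]
      exact h1 _ (D.conj_mem hk z)
    | one => exact ⟨D.Q.one_mem, 1, D.Y.one_mem, by rw [D.fn_one, smul_zero]⟩
    | mul x x' _ _ h1 h2 =>
      obtain ⟨h1, y, hy, h3⟩ := h1
      obtain ⟨h2, y', hy', h4⟩ := h2
      exact ⟨D.Q.mul_mem h1 h2, y * y', D.Y.mul_mem hy hy', by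
        rw [D.fn_mul (D.Y_le hy) (D.Y_le hy'), D.fn_mul h1 h2, h3, h4, smul_add]⟩
    | inv x _ h1 =>
      obtain ⟨h1, y, hy, h3⟩ := h1
      exact ⟨D.Q.inv_mem h1, y, hy, by rw [D.fn_inv h1, h3]⟩
  exact (h x hx).2

/-- the `F`-space of the functions of the elements of `Y` -/
def W : Submodule F (D.Q → F) where
  carrier := {m | ∃ x ∈ D.Y, D.fn x = m}
  add_mem' := by
    rintro _ _ ⟨x, hx, rfl⟩ ⟨y, hy, rfl⟩
    exact ⟨x * y, D.Y.mul_mem hx hy, D.fn_mul (D.Y_le hx) (D.Y_le hy)⟩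
  zero_mem' := ⟨1, D.Y.one_mem, D.fn_one⟩
  smul_mem' := by
    rintro a _ ⟨x, hx, rfl⟩
    exact D.fn_smul_Y a hx

/-- the hom `Y → W` -/
def homY : D.Y →* Multiplicative D.W where
  toFun x := Multiplicative.ofAdd ⟨D.fn x, x, x.2, rfl⟩
  map_one' := congrArg Multiplicative.ofAdd (Subtype.ext D.fn_one)
  map_mul' x y := congrArg Multiplicative.ofAdd (Subtype.ext (D.fn_mul (D.Y_le x.2) (D.Y_le y.2)))

theorem homY_surj : Function.Surjective D.homY := by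
  rintro m
  obtain ⟨m', hm'⟩ := Multiplicative.ofAdd.surjective m
  obtain ⟨w, x, hx, h⟩ := m'
  refine ⟨⟨x, hx⟩, ?_⟩
  rw [← hm']
  exact congrArg Multiplicative.ofAdd (Subtype.ext h)

theorem homY_ker {x : D.Y} : x ∈ D.homY.ker ↔ (x : G) ∈ D.R := by
  rw [MonoidHom.mem_ker, ← D.fn_eq_zero (D.Y_le x.2)]
  constructor
  · intro h
    exact congrArg Subtype.val (Multiplicative.ofAdd.injective h)
  · intro h
    exact congrArg Multiplicative.ofAdd (Subtype.ext h)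

/-- evaluation `Q → W*` -/
def homQ : D.Q →* Multiplicative (Module.Dual F D.W) where
  toFun y := Multiplicative.ofAdd ((LinearMap.proj y).comp D.W.subtype)
  map_one' := by
    refine congrArg Multiplicative.ofAdd (LinearMap.ext ?_)
    rintro ⟨w, x, hx, rfl⟩
    change D.ρ ⁅x, ((1 : D.Q) : G)⁆ = 0
    rw [OneMemClass.coe_one, commutatorElement_one_right, D.ρ_one]
  map_mul' y z := by
    refine congrArg Multiplicative.ofAdd (LinearMap.ext ?_)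
    rintro ⟨w, x, hx, rfl⟩
    change D.ρ ⁅x, ((y * z : D.Q) : G)⁆ = D.ρ ⁅x, (y : G)⁆ + D.ρ ⁅x, (z : G)⁆
    have hx' := D.Y_le hx
    rw [Subgroup.coe_mul, D.comm_mul_right hx' y.2 z.2, D.ρ_mul _ (D.comm x hx' y y.2) _ (D.comm x hx' z z.2)]

theorem homQ_ker {y : D.Q} (h : y ∈ D.homQ.ker) : ∀ x ∈ D.Y, (y : G) * x = x * y := by
  intro x hx
  rw [MonoidHom.mem_ker] at h
  have h1 := LinearMap.congr_fun (Multiplicative.ofAdd.injective h) ⟨D.fn x, x, hx, rfl⟩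
  have h2 : D.ρ ⁅x, (y : G)⁆ = 0 := h1
  have h3 := D.ρ_inj _ (D.comm x (D.Y_le hx) y y.2) h2
  rw [commutatorElement_eq_one_iff_mul_comm] at h3
  exact h3.symm

/-- **Generation**: if `C_Q(Y) = R ≤ E`, then `Q = Y`. -/
theorem gen_of [Finite G] [Finite F] (hRE : D.R ≤ D.E)
    (h : ∀ z ∈ D.Q, (∀ y ∈ D.Y, z * y = y * z) → z ∈ D.R) : D.Q ≤ D.Y := by
  have hRY : D.R ≤ D.Y := by
    intro r hr
    exact Subgroup.subset_closure ⟨1, D.K.one_mem, r, hRE hr, by group⟩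
  have hfin : Finite D.W := inferInstance
  have hfin' : Finite (Module.Dual F D.W) :=
    Finite.of_injective (fun f : Module.Dual F D.W => (f : D.W → F)) DFunLike.coe_injective
  have c1 : Nat.card (Module.Dual F D.W) = Nat.card D.W := by
    have := Module.Finite.of_finite (R := F) (M := D.W)
    have := Fintype.ofFinite F
    have := Fintype.ofFinite D.W
    have e := (Module.Free.chooseBasis F D.W).toDualEquiv
    exact Nat.card_congr e.symm.toEquiv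
  have k1 : Nat.card D.homQ.ker ≤ Nat.card D.R := by
    refine Nat.card_le_card_of_injective (fun x => (⟨(x : D.Q), h _ (x : D.Q).2 (D.homQ_ker x.2)⟩ : D.R)) ?_
    intro x y hxy
    have h1 : ((x : D.Q) : G) = ((y : D.Q) : G) := congrArg (fun r : D.R => (r : G)) hxy
    exact Subtype.ext (Subtype.ext h1)
  have k2 : Nat.card D.homY.ker = Nat.card D.R := by
    refine Nat.card_congr ⟨fun x => ⟨(x : D.Y), D.homY_ker.1 x.2⟩, fun r => ⟨⟨r, hRY r.2⟩, D.homY_ker.2 r.2⟩,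
      fun x => rfl, fun r => rfl⟩
  have c2 : Nat.card D.Q ≤ Nat.card D.W * Nat.card D.R := by
    rw [← D.homQ.ker.index_mul_card, Subgroup.index_ker]
    refine Nat.mul_le_mul ?_ k1
    rw [← c1]
    exact Nat.card_le_card_of_injective (fun x : D.homQ.range => Multiplicative.toAdd (x : Multiplicative _))
      fun x y hxy => Subtype.ext (Multiplicative.toAdd.injective hxy)
  have c3 : Nat.card D.Y = Nat.card D.W * Nat.card D.R := by
    rw [← D.homY.ker.index_mul_card, Subgroup.index_ker, k2]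
    congr 1
    rw [MonoidHom.range_eq_top.2 D.homY_surj, Subgroup.card_top]
    exact Nat.card_congr Multiplicative.toAdd
  have c4 : Nat.card D.Q ≤ Nat.card D.Y := by rw [c3]; exact c2
  exact (Subgroup.eq_of_le_of_card_ge D.Y_le c4).ge

end Pre

namespace Inp

variable {F : Type*} [Field F] {G : Type*} [Group G] (D : Inp F G)

theorem fn_smul (a : F) {x : G} (hx : x ∈ D.Q) : ∃ y ∈ D.Q, D.fn y = a • D.fn x := by
  obtain ⟨y, hy, h⟩ := D.fn_smul_Y a (D.gen hx)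
  exact ⟨y, D.Y_le hy, h⟩

/-- **The `F`-space `M = Q/R`.** -/
def M : Submodule F (D.Q → F) where
  carrier := {m | ∃ x ∈ D.Q, D.fn x = m}
  add_mem' := by
    rintro _ _ ⟨x, hx, rfl⟩ ⟨y, hy, rfl⟩
    exact ⟨x * y, D.Q.mul_mem hx hy, D.fn_mul hx hy⟩
  zero_mem' := ⟨1, D.Q.one_mem, D.fn_one⟩
  smul_mem' := by
    rintro a _ ⟨x, hx, rfl⟩
    exact D.fn_smul a hx

/-- the projection `Q → M` -/
def π (x : G) (hx : x ∈ D.Q) : D.M := ⟨D.fn x, x, hx, rfl⟩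

theorem π_surj (m : D.M) : ∃ x, ∃ hx : x ∈ D.Q, D.π x hx = m := by
  obtain ⟨m, x, hx, h⟩ := m
  exact ⟨x, hx, Subtype.ext h⟩

theorem π_mul {x y : G} (hx : x ∈ D.Q) (hy : y ∈ D.Q) :
    D.π (x * y) (D.Q.mul_mem hx hy) = D.π x hx + D.π y hy := Subtype.ext (D.fn_mul hx hy)

theorem π_eq_zero {x : G} (hx : x ∈ D.Q) : D.π x hx = 0 ↔ x ∈ D.R := by
  rw [← D.fn_eq_zero hx, ← Submodule.coe_eq_zero]
  rfl

theorem π_inv {x : G} (hx : x ∈ D.Q) : D.π x⁻¹ (D.Q.inv_mem hx) = D.π x hx := Subtype.ext (D.fn_inv hx)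

theorem π_eq_iff {x y : G} (hx : x ∈ D.Q) (hy : y ∈ D.Q) : D.π x hx = D.π y hy ↔ x⁻¹ * y ∈ D.R := by
  rw [← D.π_eq_zero (D.Q.mul_mem (D.Q.inv_mem hx) hy), D.π_mul (D.Q.inv_mem hx) hy, D.π_inv hx]
  constructor
  · intro h
    rw [h, ← two_smul F, D.two, zero_smul]
  · intro h
    rw [← sub_eq_zero, sub_eq_add_neg]
    rw [add_eq_zero_iff_eq_neg] at h
    rw [h]
    have : D.π y hy + D.π y hy = 0 := by rw [← two_smul F, D.two, zero_smul]
    rw [← neg_add, this, neg_zero]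

theorem π_apply {x : G} (hx : x ∈ D.Q) (z : D.Q) : (D.π x hx : D.Q → F) z = D.ρ ⁅x, (z : G)⁆ := rfl

theorem symm' {x y : G} (hx : x ∈ D.Q) (hy : y ∈ D.Q) :
    (D.π x hx : D.Q → F) ⟨y, hy⟩ = (D.π y hy : D.Q → F) ⟨x, hx⟩ := by
  rw [D.π_apply, D.π_apply]
  exact congrArg D.ρ (D.comm_symm hx hy)

/-- a representative in `Q` of an element of `M` -/
noncomputable def rep (m : D.M) : D.Q := ⟨(D.π_surj m).choose, (D.π_surj m).choose_spec.choose⟩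

theorem π_rep (m : D.M) : D.π (D.rep m) (D.rep m).2 = m := (D.π_surj m).choose_spec.choose_spec

/-- evaluation depends on the class only -/
theorem eval_eq (m : D.M) {y : G} (hy : y ∈ D.Q) :
    (m : D.Q → F) (D.rep (D.π y hy)) = (m : D.Q → F) ⟨y, hy⟩ := by
  obtain ⟨x, hx, rfl⟩ := D.π_surj m
  rw [show D.rep (D.π y hy) = ⟨(D.rep (D.π y hy) : G), (D.rep (D.π y hy)).2⟩ from rfl,
    D.symm' hx (D.rep (D.π y hy)).2, D.π_rep, D.symm']

/-- **The polar form.** -/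
noncomputable def f : D.M →ₗ[F] D.M →ₗ[F] F :=
  LinearMap.mk₂ F (fun m n => (m : D.Q → F) (D.rep n)) (fun _ _ _ => rfl) (fun _ _ _ => rfl)
    (fun m n n' => by
      obtain ⟨x, hx, rfl⟩ := D.π_surj m
      obtain ⟨y, hy, rfl⟩ := D.π_surj n
      obtain ⟨y', hy', rfl⟩ := D.π_surj n'
      rw [← D.π_mul hy hy', D.eval_eq, D.eval_eq, D.eval_eq, D.symm', D.symm' hx hy, D.symm' hx hy', D.π_mul hy hy']
      rfl)
    (fun a m n => by
      obtain ⟨x, hx, rfl⟩ := D.π_surj m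
      obtain ⟨z, hz, h⟩ := D.π_surj (a • n)
      obtain ⟨y, hy, rfl⟩ := D.π_surj n
      rw [← h, D.eval_eq, D.eval_eq, D.symm' hx hz, h, D.symm' hx hy]
      rfl)

theorem f_π {x y : G} (hx : x ∈ D.Q) (hy : y ∈ D.Q) : D.f (D.π x hx) (D.π y hy) = D.ρ ⁅x, y⁆ :=
  D.eval_eq (D.π x hx) hy

theorem nondeg (m : D.M) (h : ∀ m', D.f m m' = 0) : m = 0 := by
  ext z
  have h1 := h (D.π z z.2)
  obtain ⟨x, hx, rfl⟩ := D.π_surj m
  rw [D.f_π hx z.2] at h1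
  exact h1

/-- **The quadratic form.** -/
noncomputable def s (m : D.M) : F := D.ρ ((D.rep m : G) * D.rep m)

theorem s_π {x : G} (hx : x ∈ D.Q) : D.s (D.π x hx) = D.ρ (x * x) := by
  have h1 := (D.π_eq_iff hx (D.rep (D.π x hx)).2).1 (D.π_rep _).symm
  change D.ρ ((D.rep (D.π x hx) : G) * D.rep (D.π x hx)) = _
  congr 1
  set y : G := (D.rep (D.π x hx) : G) with hy
  have h2 : y = x * (x⁻¹ * y) := by group
  have h3 := D.R_comm h1 hx
  rw [h2]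
  set r := x⁻¹ * y
  calc x * r * (x * r) = x * (r * x) * r := by group
    _ = x * (x * r) * r := by rw [h3]
    _ = x * x * (r * r) := by group
    _ = x * x := by rw [D.R_sq r h1, mul_one]

theorem s_add (m n : D.M) : D.s (m + n) = D.s m + D.s n + D.f m n := by
  obtain ⟨x, hx, rfl⟩ := D.π_surj m
  obtain ⟨y, hy, rfl⟩ := D.π_surj n
  rw [← D.π_mul hx hy, D.s_π, D.s_π, D.s_π, D.f_π]
  have h1 := D.comm x hx y hy
  have h2 := D.sq x hx
  have h3 := D.sq y hy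
  have h4 : x * y * (x * y) = x * x * (y * y) * ⁅x, y⁆ := by
    have e1 : y * x = x * y * ⁅x, y⁆ := by
      have : y * x = ⁅y, x⁆ * (x * y) := by simp only [commutatorElement_def]; group
      rw [this, D.comm_symm hy hx, D.R_comm h1 (D.Q.mul_mem hx hy)]
    calc x * y * (x * y) = x * (y * x) * y := by group
      _ = x * (x * y * ⁅x, y⁆) * y := by rw [e1]
      _ = x * x * y * (⁅x, y⁆ * y) := by group
      _ = x * x * y * (y * ⁅x, y⁆) := by rw [D.R_comm h1 hy]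
      _ = x * x * (y * y) * ⁅x, y⁆ := by group
  rw [h4, D.ρ_mul _ (D.R.mul_mem h2 h3) _ h1, D.ρ_mul _ h2 _ h3]

theorem act_mem (k : D.K) (m : D.M) :
    (fun z : D.Q => (m : D.Q → F) ⟨k⁻¹ * (z : G) * k, D.conj_mem k.2 z⟩) ∈ D.M := by
  obtain ⟨x, hx, rfl⟩ := D.π_surj m
  refine ⟨k * x * k⁻¹, D.norm k k.2 x hx, ?_⟩
  funext z
  exact D.fn_conj k.2 hx z

/-- the action of `K` as linear maps -/
def actL (k : D.K) : D.M →ₗ[F] D.M where
  toFun m := ⟨fun z => (m : D.Q → F) ⟨k⁻¹ * (z : G) * k, D.conj_mem k.2 z⟩, D.act_mem k m⟩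
  map_add' _ _ := rfl
  map_smul' _ _ := rfl

theorem actL_π (k : D.K) {x : G} (hx : x ∈ D.Q) :
    D.actL k (D.π x hx) = D.π (k * x * (k : G)⁻¹) (D.norm k k.2 x hx) := by
  refine Subtype.ext ?_
  funext z
  exact (D.fn_conj k.2 hx z).symm

theorem actL_mul (k l : D.K) (m : D.M) : D.actL (k * l) m = D.actL k (D.actL l m) := by
  obtain ⟨x, hx, rfl⟩ := D.π_surj m
  rw [D.actL_π, D.actL_π, D.actL_π]
  refine Subtype.ext (congrArg D.fn ?_)
  push_cast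
  group

theorem actL_one (m : D.M) : D.actL 1 m = m := by
  obtain ⟨x, hx, rfl⟩ := D.π_surj m
  rw [D.actL_π]
  refine Subtype.ext (congrArg D.fn ?_)
  simp

/-- **The action of `K` on `M`.** -/
def act : D.K →* (D.M ≃ₗ[F] D.M) where
  toFun k := LinearEquiv.ofLinearMap (D.actL k) (D.actL k⁻¹)
    (LinearMap.ext fun m => by
      rw [LinearMap.comp_apply, ← D.actL_mul, mul_inv_cancel, D.actL_one, LinearMap.id_apply])
    (LinearMap.ext fun m => by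
      rw [LinearMap.comp_apply, ← D.actL_mul, inv_mul_cancel, D.actL_one, LinearMap.id_apply])
  map_one' := LinearEquiv.ext fun m => D.actL_one m
  map_mul' k l := LinearEquiv.ext fun m => D.actL_mul k l m

theorem act_π (k : D.K) {x : G} (hx : x ∈ D.Q) :
    D.act k (D.π x hx) = D.π (k * x * (k : G)⁻¹) (D.norm k k.2 x hx) := D.actL_π k hx

theorem isom (k : D.K) (m : D.M) : D.s (D.act k m) = D.s m := by
  obtain ⟨x, hx, rfl⟩ := D.π_surj m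
  rw [D.act_π, D.s_π, D.s_π]
  congr 1
  rw [show (k : G) * x * (k : G)⁻¹ * (k * x * (k : G)⁻¹) = k * (x * x) * (k : G)⁻¹ by group,
    D.R_K (D.sq x hx) k.2]

/-- the kernel of the action -/
theorem act_eq_one {k : D.K} : D.act k = 1 ↔ ∀ x ∈ D.Q, ⁅(k : G), x⁆ ∈ D.R := by
  constructor
  · intro h x hx
    have h1 : D.act k (D.π x hx) = D.π x hx := by rw [h]; rfl
    rw [D.act_π, D.π_eq_iff] at h1
    have h2 := D.R.inv_mem h1
    have h3 : ((k * x * (k : G)⁻¹)⁻¹ * x)⁻¹ = x⁻¹ * ⁅(k : G), x⁆ * x := by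
      simp only [commutatorElement_def]; group
    rw [h3] at h2
    have h4 := D.R_comm h2 hx
    have h5 : ⁅(k : G), x⁆ = x⁻¹ * ⁅(k : G), x⁆ * x := by
      have : x * (x⁻¹ * ⁅(k : G), x⁆ * x) = ⁅(k : G), x⁆ * x := by group
      rw [this] at h4
      exact mul_right_cancel h4
    rw [h5]
    exact h2
  · intro h
    refine LinearEquiv.ext fun m => ?_
    obtain ⟨x, hx, rfl⟩ := D.π_surj m
    change _ = D.π x hx
    rw [D.act_π, D.π_eq_iff]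
    have h1 := h x hx
    have h3 : (k * x * (k : G)⁻¹)⁻¹ * x = x⁻¹ * ⁅(k : G), x⁆⁻¹ * x := by
      simp only [commutatorElement_def]; group
    rw [h3]
    have h4 := D.R_comm (D.R.inv_mem h1) (D.Q.inv_mem hx)
    rw [h4, inv_mul_cancel_right]
    exact D.R.inv_mem h1

/-- `s (a m) = a² s m` -/
theorem s_smul (a : F) (m : D.M) : D.s (a • m) = a ^ 2 * D.s m := by
  obtain ⟨x, hx, rfl⟩ := D.π_surj m
  have key : ∀ x ∈ Subgroup.closure {y | ∃ k ∈ D.K, ∃ x ∈ D.E, y = k * x * k⁻¹},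
      ∃ hx : x ∈ D.Q, D.s (a • D.π x hx) = a ^ 2 * D.s (D.π x hx) := by
    intro x hx
    induction hx using Subgroup.closure_induction with
    | mem x hx =>
      obtain ⟨k, hk, e, he, rfl⟩ := hx
      refine ⟨D.norm k hk e (D.E_le he), ?_⟩
      obtain ⟨y, hy, h1⟩ := D.sc a e he
      have h2 : a • D.π e (D.E_le he) = D.π y (D.E_le hy) := by
        refine Subtype.ext ?_
        funext z
        exact (h1 _ z.2).symm
      have h3 := D.act_π ⟨k, hk⟩ (D.E_le he)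
      change D.act ⟨k, hk⟩ (D.π e (D.E_le he)) = D.π (k * e * k⁻¹) _ at h3
      rw [← h3, ← map_smul, D.isom, D.isom, h2, D.s_π, D.s_π, D.E_sq y hy, D.E_sq e he, D.ρ_one, mul_zero]
    | one =>
      refine ⟨D.Q.one_mem, ?_⟩
      have h1 : D.π 1 D.Q.one_mem = 0 := (D.π_eq_zero _).2 D.R.one_mem
      rw [h1, smul_zero, ← h1, D.s_π, one_mul, D.ρ_one, mul_zero]
    | mul x x' _ _ h1 h2 =>
      obtain ⟨h1, h3⟩ := h1
      obtain ⟨h2, h4⟩ := h2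
      refine ⟨D.Q.mul_mem h1 h2, ?_⟩
      rw [D.π_mul h1 h2, smul_add, D.s_add, D.s_add, h3, h4]
      simp only [map_smul, LinearMap.smul_apply, smul_eq_mul]
      ring
    | inv x _ h1 =>
      obtain ⟨h1, h3⟩ := h1
      exact ⟨D.Q.inv_mem h1, by rw [D.π_inv h1, h3]⟩
  exact (key x (D.gen hx)).2

/-! ### Elements normalising `Q` and `R` -/

/-- An element of `G` which normalises `Q` and acts on `R ≅ F` as multiplication by `c`. -/
structure Nor (g : G) (c : F) : Prop where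
  Q₁ : ∀ x ∈ D.Q, g * x * g⁻¹ ∈ D.Q
  Q₂ : ∀ x ∈ D.Q, g⁻¹ * x * g ∈ D.Q
  R₁ : ∀ r ∈ D.R, g * r * g⁻¹ ∈ D.R ∧ D.ρ (g * r * g⁻¹) = c * D.ρ r

variable {D} in
theorem Nor.fn {g : G} {c : F} (h : D.Nor g c) {x : G} (hx : x ∈ D.Q) (z : D.Q) :
    D.fn (g * x * g⁻¹) z = c * D.fn x ⟨g⁻¹ * z * g, h.Q₂ z z.2⟩ := by
  change D.ρ _ = c * D.ρ _
  rw [← (h.R₁ _ (D.comm x hx _ (h.Q₂ z z.2))).2]
  congr 1
  simp only [commutatorElement_def]
  group

variable {D} in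
theorem Nor.inv {g : G} {c : F} (h : D.Nor g c) (hc : c ≠ 0) (hR : ∀ r ∈ D.R, g⁻¹ * r * g ∈ D.R) :
    D.Nor g⁻¹ c⁻¹ where
  Q₁ := fun x hx => by rw [inv_inv]; exact h.Q₂ x hx
  Q₂ := fun x hx => by rw [inv_inv]; exact h.Q₁ x hx
  R₁ := fun r hr => by
    rw [inv_inv]
    refine ⟨hR r hr, ?_⟩
    have h1 := (h.R₁ _ (hR r hr)).2
    have h2 : g * (g⁻¹ * r * g) * g⁻¹ = r := by group
    rw [h2] at h1
    rw [h1, inv_mul_cancel_left₀ hc]

variable {D} in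
/-- the `F`-linear map induced by a normalising element -/
def Nor.lin {g : G} {c : F} (h : D.Nor g c) : D.M →ₗ[F] D.M where
  toFun m := ⟨fun z => c * (m : D.Q → F) ⟨g⁻¹ * z * g, h.Q₂ z z.2⟩, by
    obtain ⟨x, hx, rfl⟩ := D.π_surj m
    refine ⟨g * x * g⁻¹, h.Q₁ x hx, ?_⟩
    funext z
    exact h.fn hx z⟩
  map_add' m n := Subtype.ext (funext fun z => mul_add _ _ _)
  map_smul' a m := Subtype.ext (funext fun z => by
    change c * (a * _) = a * (c * _)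
    ring)

variable {D} in
theorem Nor.lin_π {g : G} {c : F} (h : D.Nor g c) {x : G} (hx : x ∈ D.Q) :
    h.lin (D.π x hx) = D.π (g * x * g⁻¹) (h.Q₁ x hx) := by
  refine Subtype.ext ?_
  funext z
  exact (h.fn hx z).symm

variable {D} in
/-- the `F`-linear automorphism induced by a normalising element -/
def Nor.equiv {g : G} {c : F} (h : D.Nor g c) (hc : c ≠ 0) (hR : ∀ r ∈ D.R, g⁻¹ * r * g ∈ D.R) :
    D.M ≃ₗ[F] D.M :=
  LinearEquiv.ofLinearMap h.lin (h.inv hc hR).lin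
    (LinearMap.ext fun m => by
      obtain ⟨x, hx, rfl⟩ := D.π_surj m
      rw [LinearMap.comp_apply, Nor.lin_π, Nor.lin_π, LinearMap.id_apply]
      refine Subtype.ext (congrArg D.fn ?_)
      group)
    (LinearMap.ext fun m => by
      obtain ⟨x, hx, rfl⟩ := D.π_surj m
      rw [LinearMap.comp_apply, Nor.lin_π, Nor.lin_π, LinearMap.id_apply]
      refine Subtype.ext (congrArg D.fn ?_)
      group)

variable {D} in
theorem Nor.equiv_π {g : G} {c : F} (h : D.Nor g c) (hc : c ≠ 0) (hR : ∀ r ∈ D.R, g⁻¹ * r * g ∈ D.R)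
    {x : G} (hx : x ∈ D.Q) : h.equiv hc hR (D.π x hx) = D.π (g * x * g⁻¹) (h.Q₁ x hx) := h.lin_π hx

variable {D} in
/-- a normalising element normalises the image of `K`. -/
theorem Nor.conj_act {g : G} {c : F} (h : D.Nor g c) (hc : c ≠ 0) (hR : ∀ r ∈ D.R, g⁻¹ * r * g ∈ D.R)
    (k : D.K) (hk : g * k * g⁻¹ ∈ D.K) :
    h.equiv hc hR * D.act k * (h.equiv hc hR)⁻¹ = D.act ⟨g * k * g⁻¹, hk⟩ := by
  rw [mul_inv_eq_iff_eq_mul]
  refine LinearEquiv.ext fun m => ?_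
  obtain ⟨x, hx, rfl⟩ := D.π_surj m
  rw [LinearEquiv.mul_apply, LinearEquiv.mul_apply, D.act_π, h.equiv_π, h.equiv_π, D.act_π]
  refine Subtype.ext (congrArg D.fn ?_)
  push_cast
  group

/-- the `K`-conjugates of `E/R` span `M` -/
theorem span (N : Submodule F D.M)
    (h : ∀ k : D.K, ∀ x, ∀ hx : x ∈ D.E, D.act k (D.π x (D.E_le hx)) ∈ N) : N = ⊤ := by
  rw [eq_top_iff]
  intro m _
  obtain ⟨x, hx, rfl⟩ := D.π_surj m
  have key : ∀ x ∈ Subgroup.closure {y | ∃ k ∈ D.K, ∃ x ∈ D.E, y = k * x * k⁻¹},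
      ∃ hx : x ∈ D.Q, D.π x hx ∈ N := by
    intro x hx
    induction hx using Subgroup.closure_induction with
    | mem x hx =>
      obtain ⟨k, hk, e, he, rfl⟩ := hx
      refine ⟨D.norm k hk e (D.E_le he), ?_⟩
      have h3 := D.act_π ⟨k, hk⟩ (D.E_le he)
      change D.act ⟨k, hk⟩ (D.π e (D.E_le he)) = D.π (k * e * k⁻¹) _ at h3
      rw [← h3]
      exact h ⟨k, hk⟩ e he
    | one => exact ⟨D.Q.one_mem, by rw [(D.π_eq_zero D.Q.one_mem).2 D.R.one_mem]; exact zero_mem _⟩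
    | mul x x' _ _ h1 h2 =>
      obtain ⟨h1, h3⟩ := h1
      obtain ⟨h2, h4⟩ := h2
      exact ⟨D.Q.mul_mem h1 h2, by rw [D.π_mul h1 h2]; exact add_mem h3 h4⟩
    | inv x _ h1 =>
      obtain ⟨h1, h3⟩ := h1
      exact ⟨D.Q.inv_mem h1, by rw [D.π_inv h1]; exact h3⟩
  exact (key x (D.gen hx)).2

end Inp

end Cfsg.Agent.Omega.NOne.FStr

end

section


/-!
# Type (gamma), `q ≥ 4`: `Q/R` as an `F`-space, generation `Q = ⟨E^K⟩`

(I2) of bb #15588, first part: from `Gin` to `FStr.Inp`.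
-/

set_option autoImplicit false
set_option linter.unusedVariables false
set_option linter.unusedSectionVars false

open Subgroup
open scoped Pointwise commutatorElement

namespace Cfsg.Agent.Omega.NO1.Gamma

open Cfsg.Agent.Omega.NO1.Beta.Meet (cj mem_cj conj_mem_cj cj_mul cj_inj cj_eq_of_comm
  mem_normalizer_of_cj cj_of_mem_normalizer)
open Cfsg.Agent.Omega.NOne

namespace Gin

variable {F : Type*} [Field F] {G : Type*} [Group G] {I J : Type*} {S : Sylow 2 G} {V : Subgroup G}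
  {R Q : I → J → Subgroup G} {i0 i1 : I} {j0 j1 : J} {v : F → F → F → F → G} {p p' : G → F}
  (D : Gin F S V R Q i0 i1 j0 j1 v p p')

include D

theorem dbl (a : F) : a + a = 0 := by
  rw [← two_mul, D.two, zero_mul]

theorem v_zero : v 0 0 0 0 = 1 := by
  have h := D.v_add 0 0 0 0 0 0 0 0
  simp only [add_zero] at h
  exact left_eq_mul.mp h

theorem v_mul (a b c d a' b' c' d' : F) :
    v a b c d * v a' b' c' d' = v (a + a') (b + b') (c + c') (d + d') := (D.v_add _ _ _ _ _ _ _ _).symm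

theorem v_inv (a b c d : F) : (v a b c d)⁻¹ = v a b c d := by
  rw [inv_eq_iff_mul_eq_one, D.v_mul, D.dbl, D.dbl, D.dbl, D.dbl, D.v_zero]

theorem v_ext {a b c d a' b' c' d' : F} (h : v a b c d = v a' b' c' d') :
    a = a' ∧ b = b' ∧ c = c' ∧ d = d' := by
  have h1 : v (a + a') (b + b') (c + c') (d + d') = 1 := by
    rw [D.v_add, h, D.v_mul, D.dbl, D.dbl, D.dbl, D.dbl, D.v_zero]
  obtain ⟨e1, e2, e3, e4⟩ := D.v_inj _ _ _ _ h1
  refine ⟨?_, ?_, ?_, ?_⟩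
  · linear_combination e1 - a' * D.two
  · linear_combination e2 - b' * D.two
  · linear_combination e3 - c' * D.two
  · linear_combination e4 - d' * D.two

theorem V_comm {x y : G} (hx : x ∈ V) (hy : y ∈ V) : x * y = y * x := D.grid.comm x hx y hy

omit D in
open Classical in
/-- the coordinate on `R` -/
noncomputable def ρ (v : F → F → F → F → G) (g : G) : F := if h : ∃ a, g = v a 0 0 0 then h.choose else 0

theorem ρ_v (a : F) : ρ v (v a 0 0 0) = a := by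
  have h : ∃ a', v a 0 0 0 = v a' 0 0 0 := ⟨a, rfl⟩
  rw [ρ, dif_pos h]
  exact (D.v_ext h.choose_spec).1.symm

theorem R_le_V : R i0 j0 ≤ V := D.grid.R_le _ _

theorem R_le_Q : R i0 j0 ≤ Q i0 j0 := D.grid.row _ _ _

theorem mem_K {k : G} : k ∈ centralizer (R i0 j0 : Set G) ↔ ∀ r ∈ R i0 j0, k * r = r * k := by
  rw [mem_centralizer_iff]
  exact ⟨fun h r hr => (h r hr).symm, fun h r hr => (h r hr).symm⟩

theorem Q_le_K : Q i0 j0 ≤ centralizer (R i0 j0 : Set G) := by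
  intro x hx
  rw [D.mem_K]
  intro r hr
  exact (D.grid.RQ i0 j0 r hr x hx).symm

theorem V_le_K : V ≤ centralizer (R i0 j0 : Set G) := by
  intro x hx
  rw [D.mem_K]
  intro r hr
  exact D.V_comm hx (D.R_le_V hr)

theorem CV_le_K : centralizer (V : Set G) ≤ centralizer (R i0 j0 : Set G) :=
  centralizer_le D.R_le_V

theorem cj_Q {g : G} (h : cj g (R i0 j0) = R i0 j0) : cj g (Q i0 j0) = Q i0 j0 := D.grid.conj g _ _ _ _ h

omit D in
theorem conj_of_cj {g x : G} {H : Subgroup G} (h : cj g H = H) (hx : x ∈ H) : g * x * g⁻¹ ∈ H := by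
  have := conj_mem_cj (c := g) hx
  rwa [h] at this

omit D in
theorem cj_inv_of {g : G} {H : Subgroup G} (h : cj g H = H) : cj g⁻¹ H = H := by
  apply cj_inj (c := g)
  rw [← cj_mul, mul_inv_cancel, h]
  ext x
  rw [mem_cj]
  simp

omit D in
theorem conj_of_cj' {g x : G} {H : Subgroup G} (h : cj g H = H) (hx : x ∈ H) : g⁻¹ * x * g ∈ H := by
  have := conj_of_cj (cj_inv_of h) hx
  rwa [inv_inv] at this

theorem cj_R_of_K {k : G} (hk : k ∈ centralizer (R i0 j0 : Set G)) : cj k (R i0 j0) = R i0 j0 :=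
  cj_eq_of_comm (D.mem_K.1 hk)

theorem K_norm {k : G} (hk : k ∈ centralizer (R i0 j0 : Set G)) {x : G} (hx : x ∈ Q i0 j0) :
    k * x * k⁻¹ ∈ Q i0 j0 := conj_of_cj (D.cj_Q (D.cj_R_of_K hk)) hx

/-- an element `x ∈ Q` acts on `V` by `act`; commutator with `v a b c d` -/
theorem comm_v {x : G} (hx : x ∈ Q i0 j0) (a b c d : F) :
    ⁅v a b c d, x⁆ = v (p' x * b + p x * c + p x * p' x * d) (p x * d) (p' x * d) 0 := by
  rw [commutatorElement_def, show v a b c d * x * (v a b c d)⁻¹ * x⁻¹ =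
    v a b c d * (x * (v a b c d)⁻¹ * x⁻¹) by group, D.v_inv, D.act x hx, D.v_mul]
  congr 1
  · linear_combination a * D.two
  · linear_combination b * D.two
  · linear_combination c * D.two
  · exact D.dbl d

theorem mem_E {x : G} : x ∈ V ⊓ Q i0 j0 ↔ ∃ a b c, x = v a b c 0 := by
  constructor
  · rintro ⟨h1, h2⟩
    obtain ⟨a, b, c, d, rfl⟩ := D.v_surj x h1
    exact ⟨a, b, c, by rw [(D.V_Q a b c d).1 h2]⟩
  · rintro ⟨a, b, c, rfl⟩
    exact ⟨D.v_mem _ _ _ _, (D.V_Q a b c 0).2 rfl⟩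

omit D in
theorem comm_of_eq_one {x y : G} (h : ⁅x, y⁆ = 1) : x * y = y * x :=
  commutatorElement_eq_one_iff_mul_comm.1 h

/-- the data of `FStr.Pre` -/
noncomputable def pre : FStr.Pre F G where
  K := centralizer (R i0 j0 : Set G)
  Q := Q i0 j0
  R := R i0 j0
  E := V ⊓ Q i0 j0
  ρ := ρ v
  two := D.two
  R_le := D.R_le_Q
  Q_le := D.Q_le_K
  E_le := inf_le_right
  norm := fun k hk x hx => D.K_norm hk hx
  cent := fun k hk r hr => D.mem_K.1 hk r hr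
  comm := fun x hx y hy => D.grid.QQ i0 j0 x hx y hy
  sq := fun x hx => D.grid.Qsq i0 j0 x hx
  R_sq := fun r hr => D.grid.V_sq r (D.R_le_V hr)
  center := fun x hx h => D.grid.cen i0 j0 x hx h
  ρ_mul := fun r hr r' hr' => by
    obtain ⟨a, rfl⟩ := (D.R00 r).1 hr
    obtain ⟨a', rfl⟩ := (D.R00 r').1 hr'
    rw [D.v_mul, D.ρ_v, D.ρ_v, add_zero, D.ρ_v]
  ρ_inj := fun r hr h => by
    obtain ⟨a, rfl⟩ := (D.R00 r).1 hr
    rw [D.ρ_v] at h
    rw [h, D.v_zero]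
  E_sq := fun x hx => D.grid.V_sq x hx.1
  sc := fun a x hx => by
    obtain ⟨α, β, γ, rfl⟩ := D.mem_E.1 hx
    refine ⟨v (a * α) (a * β) (a * γ) 0, D.mem_E.2 ⟨_, _, _, rfl⟩, fun z hz => ?_⟩
    rw [D.comm_v hz, D.comm_v hz, mul_zero, mul_zero, mul_zero, D.ρ_v, D.ρ_v]
    ring

@[simp] theorem pre_K : D.pre.K = centralizer (R i0 j0 : Set G) := rfl
@[simp] theorem pre_Q : D.pre.Q = Q i0 j0 := rfl
@[simp] theorem pre_R : D.pre.R = R i0 j0 := rfl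
@[simp] theorem pre_E : D.pre.E = V ⊓ Q i0 j0 := rfl

/-! ### `p`, `p'` as commutators -/

theorem fn_v {y : G} (hy : y ∈ Q i0 j0) (a b c : F) :
    D.pre.ρ ⁅y, v a b c 0⁆ = p' y * b + p y * c := by
  have hE : v a b c 0 ∈ Q i0 j0 := (D.V_Q a b c 0).2 rfl
  rw [D.pre.comm_symm hy hE, D.comm_v hy, mul_zero, mul_zero, mul_zero, add_zero]
  exact D.ρ_v _

theorem p'_eq {y : G} (hy : y ∈ Q i0 j0) : p' y = D.pre.ρ ⁅y, v 0 1 0 0⁆ := by
  rw [D.fn_v hy]; ring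

theorem p_eq {y : G} (hy : y ∈ Q i0 j0) : p y = D.pre.ρ ⁅y, v 0 0 1 0⁆ := by
  rw [D.fn_v hy]; ring

theorem v_Q (a b c : F) : v a b c 0 ∈ Q i0 j0 := (D.V_Q a b c 0).2 rfl

theorem p_mul {x y : G} (hx : x ∈ Q i0 j0) (hy : y ∈ Q i0 j0) : p (x * y) = p x + p y := by
  have h := congrFun (D.pre.fn_mul hx hy) ⟨v 0 0 1 0, D.v_Q 0 0 1⟩
  rw [D.p_eq (mul_mem hx hy), D.p_eq hx, D.p_eq hy]
  exact h

theorem p'_mul {x y : G} (hx : x ∈ Q i0 j0) (hy : y ∈ Q i0 j0) : p' (x * y) = p' x + p' y := by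
  have h := congrFun (D.pre.fn_mul hx hy) ⟨v 0 1 0 0, D.v_Q 0 1 0⟩
  rw [D.p'_eq (mul_mem hx hy), D.p'_eq hx, D.p'_eq hy]
  exact h

theorem p_inv {x : G} (hx : x ∈ Q i0 j0) : p x⁻¹ = p x := by
  have h := congrFun (D.pre.fn_inv hx) ⟨v 0 0 1 0, D.v_Q 0 0 1⟩
  rw [D.p_eq (inv_mem hx), D.p_eq hx]
  exact h

theorem p'_inv {x : G} (hx : x ∈ Q i0 j0) : p' x⁻¹ = p' x := by
  have h := congrFun (D.pre.fn_inv hx) ⟨v 0 1 0 0, D.v_Q 0 1 0⟩
  rw [D.p'_eq (inv_mem hx), D.p'_eq hx]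
  exact h

/-- `C_Q(V) = C_Q(E) = ker (p, p')` -/
theorem mem_CV {x : G} (hx : x ∈ Q i0 j0) : x ∈ centralizer (V : Set G) ↔ p x = 0 ∧ p' x = 0 := by
  constructor
  · intro h
    rw [mem_centralizer_iff] at h
    constructor
    · have h1 := h _ (D.v_mem 0 0 1 0)
      rw [D.p_eq hx, commutatorElement_eq_one_iff_mul_comm.2 h1.symm]
      exact D.pre.ρ_one
    · have h1 := h _ (D.v_mem 0 1 0 0)
      rw [D.p'_eq hx, commutatorElement_eq_one_iff_mul_comm.2 h1.symm]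
      exact D.pre.ρ_one
  · rintro ⟨h1, h2⟩
    rw [mem_centralizer_iff]
    intro w hw
    obtain ⟨a, b, c, d, rfl⟩ := D.v_surj w hw
    apply comm_of_eq_one
    rw [D.comm_v hx, h1, h2]
    simp [D.v_zero]

theorem mem_CV_of_E {x : G} (hx : x ∈ Q i0 j0) (h : ∀ e ∈ V ⊓ Q i0 j0, x * e = e * x) :
    x ∈ centralizer (V : Set G) := by
  rw [D.mem_CV hx]
  constructor
  · rw [D.p_eq hx, commutatorElement_eq_one_iff_mul_comm.2 (h _ (D.mem_E.2 ⟨_, _, _, rfl⟩))]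
    exact D.pre.ρ_one
  · rw [D.p'_eq hx, commutatorElement_eq_one_iff_mul_comm.2 (h _ (D.mem_E.2 ⟨_, _, _, rfl⟩))]
    exact D.pre.ρ_one

/-! ### generation -/

/-- `⟨E^K⟩` -/
noncomputable abbrev Y : Subgroup G := D.pre.Y

theorem Y_le : D.Y ≤ Q i0 j0 := D.pre.Y_le

theorem E_le_Y : V ⊓ Q i0 j0 ≤ D.Y := fun e he =>
  subset_closure ⟨1, D.pre.K.one_mem, e, he, by group⟩

/-- the scalars on the values of `(p, p')` on `Y` -/
theorem Y_smul {y : G} (hy : y ∈ D.Y) (a : F) : ∃ z ∈ D.Y, p z = a * p y ∧ p' z = a * p' y := by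
  obtain ⟨z, hz, h⟩ := D.pre.fn_smul_Y a hy
  refine ⟨z, hz, ?_, ?_⟩
  · have := congrFun h ⟨v 0 0 1 0, D.v_Q 0 0 1⟩
    rw [D.p_eq (D.Y_le hz), D.p_eq (D.Y_le hy)]
    exact this
  · have := congrFun h ⟨v 0 1 0 0, D.v_Q 0 1 0⟩
    rw [D.p'_eq (D.Y_le hz), D.p'_eq (D.Y_le hy)]
    exact this

/-- the torus acts on the values of `(p, p')` -/
theorem tor_p {t : F} (ht : t ≠ 0) {h : G} (hV : h ∈ normalizer (V : Set G))
    (hv : ∀ a b c d, h * v a b c d * h⁻¹ = v a (t ^ 2 * b) ((t ^ 2)⁻¹ * c) d) {y : G}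
    (hy : y ∈ Q i0 j0) : ∃ hQ : h * y * h⁻¹ ∈ Q i0 j0, p (h * y * h⁻¹) = t ^ 2 * p y ∧
      p' (h * y * h⁻¹) = (t ^ 2)⁻¹ * p' y := by
  have hK : h ∈ centralizer (R i0 j0 : Set G) := by
    rw [D.mem_K]
    intro r hr
    obtain ⟨a, rfl⟩ := (D.R00 r).1 hr
    have h1 := hv a 0 0 0
    rw [mul_zero, mul_zero] at h1
    rw [mul_inv_eq_iff_eq_mul] at h1
    exact h1
  have hQ := D.K_norm hK hy
  refine ⟨hQ, ?_⟩
  have h1 := D.act _ hQ 0 0 0 1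
  have h2 : h * y * h⁻¹ * v 0 0 0 1 * (h * y * h⁻¹)⁻¹ = h * (y * (h⁻¹ * v 0 0 0 1 * h) * y⁻¹) * h⁻¹ := by
    group
  have h3 : h⁻¹ * v 0 0 0 1 * h = v 0 0 0 1 := by
    have h4 := hv 0 0 0 1
    rw [mul_zero, mul_zero] at h4
    have h5 : v 0 0 0 1 = h⁻¹ * (h * v 0 0 0 1 * h⁻¹) * h := by group
    rw [h4] at h5
    exact h5.symm
  rw [h2, h3, D.act y hy, hv] at h1
  have h4 := D.v_ext h1
  constructor
  · have := h4.2.1
    simp only [zero_add, mul_one] at this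
    exact this.symm
  · have := h4.2.2.1
    simp only [zero_add, mul_one] at this
    exact this.symm

/-- some conjugate of `E` does not commute with `E` -/
theorem exists_noncomm [Finite G] : ∃ y ∈ D.Y, ¬ (p y = 0 ∧ p' y = 0) := by
  by_contra hcon
  push Not at hcon
  -- `Y` centralises `V`
  have hYV : D.Y ≤ centralizer (V : Set G) := fun y hy => (D.mem_CV (D.Y_le hy)).2 (hcon y hy)
  set K := centralizer (R i0 j0 : Set G) with hK
  -- `[c v c⁻¹, x] ∈ Y` for `x ∈ Q`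
  have hcomm : ∀ c ∈ K, ∀ w ∈ V, ∀ x ∈ Q i0 j0, ∃ y ∈ D.Y, c * w * c⁻¹ * x = y * x * (c * w * c⁻¹) := by
    intro c hc w hw x hx
    have hx' : c⁻¹ * x * c ∈ Q i0 j0 := by
      have := D.K_norm (K.inv_mem hc) hx
      rwa [inv_inv] at this
    obtain ⟨a, b, c', d, rfl⟩ := D.v_surj w hw
    have h1 := D.comm_v hx' a b c' d
    refine ⟨c * ⁅v a b c' d, c⁻¹ * x * c⁆ * c⁻¹, D.pre.conj_mem_Y hc ?_, ?_⟩
    · rw [h1]
      exact D.E_le_Y (D.mem_E.2 ⟨_, _, _, rfl⟩)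
    · simp only [commutatorElement_def]
      group
  -- elements of different conjugates of `V` commute modulo `C(Q)`
  have hcc : ∀ c ∈ K, ∀ w ∈ V, ∀ c' ∈ K, ∀ w' ∈ V,
      ⁅c * w * c⁻¹, c' * w' * c'⁻¹⁆ ∈ Q i0 j0 := by
    intro c hc w hw c' hc' w' hw'
    apply D.char2
    rw [mem_centralizer_iff]
    intro x hx
    obtain ⟨y, hy, h1⟩ := hcomm c hc w hw x hx
    obtain ⟨y', hy', h2⟩ := hcomm c' hc' w' hw' x hx
    have hcy : ∀ c ∈ K, ∀ w ∈ V, ∀ y ∈ D.Y, c * w * c⁻¹ * y = y * (c * w * c⁻¹) := by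
      intro c hc w hw y hy
      have h3 := hYV (D.pre.conj_mem_Y (K.inv_mem hc) hy)
      rw [mem_centralizer_iff] at h3
      have h4 := h3 w hw
      calc c * w * c⁻¹ * y = c * (w * (c⁻¹ * y * c⁻¹⁻¹)) * c⁻¹ := by group
        _ = c * ((c⁻¹ * y * c⁻¹⁻¹) * w) * c⁻¹ := by rw [h4]
        _ = y * (c * w * c⁻¹) := by group
    have hyy : y * y' = y' * y := by
      have h3 : y' * x ∈ Q i0 j0 := mul_mem (D.Y_le hy') hx
      have h4 : y' ∈ Q i0 j0 := D.Y_le hy'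
      -- both commute: `Y` is generated by elements of conjugates of `V`
      have h5 : ∀ z ∈ D.Y, ∀ y ∈ D.Y, z * y = y * z := by
        intro z hz
        induction hz using closure_induction with
        | mem z hz =>
          obtain ⟨k, hk, e, he, rfl⟩ := hz
          intro y hy
          exact hcy k hk e he.1 y hy
        | one => intro y _; rw [one_mul, mul_one]
        | mul z z' _ _ a1 a2 =>
          intro y hy
          rw [mul_assoc, a2 y hy, ← mul_assoc, a1 y hy, mul_assoc]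
        | inv z _ a1 =>
          intro y hy
          have := a1 y hy
          rw [inv_mul_eq_iff_eq_mul, ← mul_assoc, this, mul_assoc, mul_inv_cancel, mul_one]
      exact h5 y hy y' hy'
    set A := c * w * c⁻¹
    set B := c' * w' * c'⁻¹
    have e1 : A * B * x = y * y' * x * (A * B) := by
      calc A * B * x = A * (B * x) := by group
        _ = A * (y' * x * B) := by rw [h2]
        _ = (A * y') * (x * B) := by group
        _ = (y' * A) * (x * B) := by rw [hcy c hc w hw y' hy']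
        _ = y' * (A * x) * B := by group
        _ = y' * (y * x * A) * B := by rw [h1]
        _ = (y' * y) * x * (A * B) := by group
        _ = y * y' * x * (A * B) := by rw [hyy]
    have e2 : B * A * x = y * y' * x * (B * A) := by
      calc B * A * x = B * (A * x) := by group
        _ = B * (y * x * A) := by rw [h1]
        _ = (B * y) * (x * A) := by group
        _ = (y * B) * (x * A) := by rw [hcy c' hc' w' hw' y hy]
        _ = y * (B * x) * A := by group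
        _ = y * (y' * x * B) * A := by rw [h2]
        _ = y * y' * x * (B * A) := by group
    have e3 : x * (B * A)⁻¹ = (B * A)⁻¹ * (y * y' * x) := by
      rw [mul_inv_eq_iff_eq_mul, mul_assoc, eq_inv_mul_iff_mul_eq]
      exact e2
    calc x * ⁅A, B⁆ = (y * y')⁻¹ * (y * y' * x * (A * B)) * (B * A)⁻¹ := by
          simp only [commutatorElement_def]; group
      _ = (y * y')⁻¹ * (A * B * x) * (B * A)⁻¹ := by rw [e1]
      _ = (y * y')⁻¹ * (A * B) * (x * (B * A)⁻¹) := by group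
      _ = (y * y')⁻¹ * (A * B) * ((B * A)⁻¹ * (y * y' * x)) := by rw [e3]
      _ = (y * y')⁻¹ * (⁅A, B⁆ * (y * y')) * x := by simp only [commutatorElement_def]; group
      _ = (y * y')⁻¹ * ((y * y') * ⁅A, B⁆) * x := by
          have k1 : ∀ z ∈ D.Y, A * z = z * A := hcy c hc w hw
          have k2 : ∀ z ∈ D.Y, B * z = z * B := hcy c' hc' w' hw'
          have k3 : ⁅A, B⁆ ∈ centralizer (D.Y : Set G) := by
            have a1 : A ∈ centralizer (D.Y : Set G) := mem_centralizer_iff.2 fun z hz => (k1 z hz).symm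
            have a2 : B ∈ centralizer (D.Y : Set G) := mem_centralizer_iff.2 fun z hz => (k2 z hz).symm
            exact mul_mem (mul_mem (mul_mem a1 a2) (inv_mem a1)) (inv_mem a2)
          rw [mem_centralizer_iff.1 k3 (y * y') (mul_mem hy hy')]
      _ = ⁅A, B⁆ * x := by group
  -- the group generated by `Q` and the conjugates of `V` is a 2-group
  let T : Set G := {g | (∃ c ∈ K, ∃ w ∈ V, g = c * w * c⁻¹) ∨ g ∈ Q i0 j0}
  let N : Subgroup G := closure T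
  have hNK : N ≤ K := by
    rw [closure_le]
    rintro _ (⟨c, hc, w, hw, rfl⟩ | hx)
    · exact K.mul_mem (K.mul_mem hc (D.V_le_K hw)) (K.inv_mem hc)
    · exact D.Q_le_K hx
  have hnor : ∀ x ∈ N, ∀ q ∈ Q i0 j0, x * q * x⁻¹ ∈ Q i0 j0 := fun x hx q hq => D.K_norm (hNK hx) hq
  have hnor' : ∀ x ∈ N, ∀ q ∈ Q i0 j0, x⁻¹ * q * x ∈ Q i0 j0 := fun x hx q hq => by
    have := D.K_norm (K.inv_mem (hNK hx)) hq
    rwa [inv_inv] at this
  have lA : ∀ x ∈ N, ∀ t ∈ T, ⁅x, t⁆ ∈ Q i0 j0 := by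
    intro x hx t ht
    have htN : t ∈ N := subset_closure ht
    induction hx using closure_induction with
    | mem x hx =>
      rcases hx with ⟨c, hc, w, hw, rfl⟩ | hx
      · rcases ht with ⟨c', hc', w', hw', rfl⟩ | ht
        · exact hcc c hc w hw c' hc' w' hw'
        · have hx' : c * w * c⁻¹ ∈ N := subset_closure (Or.inl ⟨c, hc, w, hw, rfl⟩)
          exact mul_mem (hnor _ hx' t ht) (inv_mem ht)
      · rw [commutatorElement_def, show x * t * x⁻¹ * t⁻¹ = x * (t * x⁻¹ * t⁻¹) by group]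
        exact mul_mem hx (hnor t htN _ (inv_mem hx))
    | one => rw [commutatorElement_one_left]; exact one_mem _
    | mul x y hx hy h1 h2 =>
      rw [show ⁅x * y, t⁆ = (x * ⁅y, t⁆ * x⁻¹) * ⁅x, t⁆ by simp only [commutatorElement_def]; group]
      exact mul_mem (hnor x hx _ h2) h1
    | inv x hx h1 =>
      rw [show ⁅x⁻¹, t⁆ = x⁻¹ * ⁅x, t⁆⁻¹ * x by simp only [commutatorElement_def]; group]
      exact hnor' x hx _ (inv_mem h1)
  have lB : ∀ x ∈ N, ∀ y ∈ N, ⁅x, y⁆ ∈ Q i0 j0 := by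
    intro x hx y hy
    induction hy using closure_induction with
    | mem y hy => exact lA x hx y hy
    | one => rw [commutatorElement_one_right]; exact one_mem _
    | mul y z hy hz h1 h2 =>
      rw [show ⁅x, y * z⁆ = ⁅x, y⁆ * (y * ⁅x, z⁆ * y⁻¹) by simp only [commutatorElement_def]; group]
      exact mul_mem h1 (hnor y hy _ h2)
    | inv y hy h1 =>
      rw [show ⁅x, y⁻¹⁆ = y⁻¹ * ⁅x, y⁆⁻¹ * y by simp only [commutatorElement_def]; group]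
      exact hnor' y hy _ (inv_mem h1)
  have lC : ∀ x ∈ N, x * x ∈ Q i0 j0 := by
    intro x hx
    induction hx using closure_induction with
    | mem x hx =>
      rcases hx with ⟨c, hc, w, hw, rfl⟩ | hx
      · rw [show c * w * c⁻¹ * (c * w * c⁻¹) = c * (w * w) * c⁻¹ by group, D.grid.V_sq w hw]
        simp
      · exact mul_mem hx hx
    | one => rw [mul_one]; exact one_mem _
    | mul x y hx hy h1 h2 =>
      rw [show x * y * (x * y) = x * x * ⁅x⁻¹, y⁆ * (y * y) by simp only [commutatorElement_def]; group]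
      exact mul_mem (mul_mem h1 (lB _ (inv_mem hx) y hy)) h2
    | inv x hx h1 =>
      rw [← mul_inv_rev]
      exact inv_mem h1
  have hN2 : IsPGroup 2 N := by
    intro x
    obtain ⟨k, hk⟩ := D.Q_two ⟨(x : G) * x, lC x x.2⟩
    refine ⟨k + 1, ?_⟩
    have h3 : ((x : G) * x) ^ 2 ^ k = 1 := congrArg Subtype.val hk
    refine Subtype.ext ?_
    rw [Subgroup.coe_pow, pow_succ', pow_mul, pow_two]
    exact h3
  have hNn : ∀ c ∈ K, ∀ x ∈ N, c * x * c⁻¹ ∈ N := by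
    intro c hc
    have h1 : N ≤ N.comap (MulAut.conj c).toMonoidHom := by
      rw [closure_le]
      rintro _ (⟨k, hk, w, hw, rfl⟩ | hx)
      · refine subset_closure (Or.inl ⟨c * k, K.mul_mem hc hk, w, hw, ?_⟩)
        simp only [MulEquiv.coe_toMonoidHom, MulAut.conj_apply]
        group
      · exact subset_closure (Or.inr (D.K_norm hc hx))
    exact fun x hx => h1 hx
  have h1 := D.max N hN2 hNK hNn
  have h2 : v 0 0 0 1 ∈ Q i0 j0 := h1 (subset_closure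
    (Or.inl ⟨1, K.one_mem, v 0 0 0 1, D.v_mem _ _ _ _, by group⟩))
  exact one_ne_zero ((D.V_Q 0 0 0 1).1 h2)

/-- an element `t ≠ 0` with `t⁴ ≠ 1` -/
theorem exists_t : ∃ t : F, t ≠ 0 ∧ (t ^ 2)⁻¹ - t ^ 2 ≠ 0 := by
  obtain ⟨t, ht, ht1⟩ := D.four
  refine ⟨t, ht, ?_⟩
  intro h
  have h2 : (t ^ 2) ≠ 0 := pow_ne_zero 2 ht
  have h3 : t ^ 2 * t ^ 2 = 1 := by
    have h4 : (t ^ 2)⁻¹ = t ^ 2 := sub_eq_zero.1 h
    have h5 := mul_inv_cancel₀ h2
    rwa [h4] at h5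
  have h4 : (t - 1) ^ 4 = 0 := by
    linear_combination h3 - (2 * t ^ 3 - 3 * t ^ 2 + 2 * t - 1) * D.two
  exact ht1 (sub_eq_zero.1 (pow_eq_zero_iff (by norm_num) |>.1 h4))

/-- conjugation by the swap -/
theorem swap_Y {s : G} (hR : cj s (R i0 j0) = R i0 j0) (hV : cj s V = V) {y : G} (hy : y ∈ D.Y) :
    s * y * s⁻¹ ∈ D.Y := by
  have hQ := D.cj_Q hR
  have hK : ∀ k ∈ centralizer (R i0 j0 : Set G), s * k * s⁻¹ ∈ centralizer (R i0 j0 : Set G) := by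
    intro k hk
    rw [D.mem_K] at hk ⊢
    intro r hr
    have h1 := hk _ (conj_of_cj' hR hr)
    calc s * k * s⁻¹ * r = s * (k * (s⁻¹ * r * s)) * s⁻¹ := by group
      _ = s * ((s⁻¹ * r * s) * k) * s⁻¹ := by rw [h1]
      _ = r * (s * k * s⁻¹) := by group
  have h1 : D.Y ≤ D.Y.comap (MulAut.conj s).toMonoidHom := by
    change Subgroup.closure _ ≤ _
    rw [closure_le]
    rintro _ ⟨k, hk, e, he, rfl⟩
    refine subset_closure ⟨s * k * s⁻¹, hK k hk, s * e * s⁻¹, ⟨conj_of_cj hV he.1, conj_of_cj hQ he.2⟩, ?_⟩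
    simp only [MulEquiv.coe_toMonoidHom, MulAut.conj_apply]
    group
  exact h1 hy

/-- if `p = 0` on `Y`, then `p' = 0` on `Y` and conversely. -/
theorem p_iff_p' : (∀ y ∈ D.Y, p y = 0) ↔ ∀ y ∈ D.Y, p' y = 0 := by
  obtain ⟨s, hs, hV, hR, hA, hB⟩ := D.swap
  have hinv : ∀ {H H' : Subgroup G}, cj s H = H' → cj s⁻¹ H' = H := by
    rintro H _ rfl
    rw [← cj_mul, inv_mul_cancel]
    ext x
    rw [mem_cj]
    simp
  constructor
  · intro h y hy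
    -- `Y` centralises `v 0 0 c 0`, hence its conjugates
    have h1 := D.swap_Y (hinv hR) (hinv hV) hy
    rw [inv_inv] at h1
    have hyQ := D.Y_le hy
    rw [D.p'_eq hyQ]
    have h2 : s⁻¹ * v 0 1 0 0 * s ∈ colG Q j0 ⊓ V := by
      have e1 : v 0 1 0 0 ∈ rowG Q i0 := (D.row_V _ _ _ _).2 ⟨rfl, rfl⟩
      refine ⟨?_, conj_of_cj' hV (D.v_mem _ _ _ _)⟩
      rw [← hB, mem_cj] at e1
      exact e1
    obtain ⟨a, b, c, d, he⟩ := D.v_surj _ h2.2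
    have h3 : b = 0 ∧ d = 0 := (D.col_V a b c d).1 (by rw [he]; exact h2.1)
    rw [h3.1, h3.2] at he
    have h4 : ⁅s⁻¹ * y * s, v a 0 c 0⁆ = 1 := by
      have h5 := D.Y_le h1
      have h6 := D.pre.comm_symm (D.v_Q a 0 c) h5
      rw [← h6, D.comm_v h5, h _ h1]
      simp [D.v_zero]
    rw [he] at h4
    have h7 : ⁅y, v 0 1 0 0⁆ = 1 := by
      have : ⁅y, v 0 1 0 0⁆ = s * ⁅s⁻¹ * y * s, s⁻¹ * v 0 1 0 0 * s⁆ * s⁻¹ := by
        simp only [commutatorElement_def]; group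
      rw [this, h4]; group
    rw [h7]
    exact D.pre.ρ_one
  · intro h y hy
    have h1 := D.swap_Y hR hV hy
    have hyQ := D.Y_le hy
    rw [D.p_eq hyQ]
    have h2 : s * v 0 0 1 0 * s⁻¹ ∈ rowG Q i0 ⊓ V := by
      have e1 : v 0 0 1 0 ∈ colG Q j0 := (D.col_V _ _ _ _).2 ⟨rfl, rfl⟩
      refine ⟨?_, conj_of_cj hV (D.v_mem _ _ _ _)⟩
      have := conj_mem_cj (c := s) e1
      rwa [hB] at this
    obtain ⟨a, b, c, d, he⟩ := D.v_surj _ h2.2
    have h3 : c = 0 ∧ d = 0 := (D.row_V a b c d).1 (by rw [he]; exact h2.1)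
    rw [h3.1, h3.2] at he
    have h4 : ⁅s * y * s⁻¹, v a b 0 0⁆ = 1 := by
      have h5 := D.Y_le h1
      have h6 := D.pre.comm_symm (D.v_Q a b 0) h5
      rw [← h6, D.comm_v h5, h _ h1]
      simp [D.v_zero]
    rw [he] at h4
    have h7 : ⁅y, v 0 0 1 0⁆ = 1 := by
      have : ⁅y, v 0 0 1 0⁆ = s⁻¹ * ⁅s * y * s⁻¹, s * v 0 0 1 0 * s⁻¹⁆ * s := by
        simp only [commutatorElement_def]; group
      rw [this, h4]; group
    rw [h7]
    exact D.pre.ρ_one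

/-- the torus on `Y` -/
theorem tor_Y {t : F} {h : G} (hV : h ∈ normalizer (V : Set G))
    (hv : ∀ a b c d, h * v a b c d * h⁻¹ = v a (t ^ 2 * b) ((t ^ 2)⁻¹ * c) d) {y : G} (hy : y ∈ D.Y) :
    h * y * h⁻¹ ∈ D.Y := by
  have hK : h ∈ centralizer (R i0 j0 : Set G) := by
    rw [D.mem_K]
    intro r hr
    obtain ⟨a, rfl⟩ := (D.R00 r).1 hr
    have h1 := hv a 0 0 0
    rw [mul_zero, mul_zero] at h1
    rw [mul_inv_eq_iff_eq_mul] at h1
    exact h1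
  exact D.pre.conj_mem_Y hK hy

/-- `(p, p')` maps `Y` onto `F²`. -/
theorem Y_surj [Finite G] (α β : F) : ∃ y ∈ D.Y, p y = α ∧ p' y = β := by
  obtain ⟨t, ht, ht4⟩ := D.exists_t
  obtain ⟨h, hV, hv⟩ := D.tor t ht
  obtain ⟨y₀, hy₀, hne⟩ := D.exists_noncomm
  have hp : ∃ y ∈ D.Y, p y ≠ 0 := by
    by_contra hcon
    push Not at hcon
    exact hne ⟨hcon _ hy₀, D.p_iff_p'.1 hcon _ hy₀⟩
  have hp' : ∃ y ∈ D.Y, p' y ≠ 0 := by
    by_contra hcon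
    push Not at hcon
    exact hne ⟨D.p_iff_p'.2 hcon _ hy₀, hcon _ hy₀⟩
  -- `(1, 0)`
  have h10 : ∃ y ∈ D.Y, p y ≠ 0 ∧ p' y = 0 := by
    obtain ⟨y, hy, h1⟩ := hp
    obtain ⟨hQ, h2, h3⟩ := D.tor_p ht hV hv (D.Y_le hy)
    obtain ⟨z, hz, h4, h5⟩ := D.Y_smul hy ((t ^ 2)⁻¹)
    have h6 := D.tor_Y hV hv hy
    refine ⟨(h * y * h⁻¹) * z, mul_mem h6 hz, ?_, ?_⟩
    · rw [D.p_mul hQ (D.Y_le hz), h2, h4]
      have h7 : t ^ 2 * p y + (t ^ 2)⁻¹ * p y = ((t ^ 2)⁻¹ - t ^ 2) * p y := by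
        linear_combination (t ^ 2 * p y) * D.two
      rw [h7]
      exact mul_ne_zero ht4 h1
    · rw [D.p'_mul hQ (D.Y_le hz), h3, h5, D.dbl]
  have h01 : ∃ y ∈ D.Y, p y = 0 ∧ p' y ≠ 0 := by
    obtain ⟨y, hy, h1⟩ := hp'
    obtain ⟨hQ, h2, h3⟩ := D.tor_p ht hV hv (D.Y_le hy)
    obtain ⟨z, hz, h4, h5⟩ := D.Y_smul hy (t ^ 2)
    have h6 := D.tor_Y hV hv hy
    refine ⟨(h * y * h⁻¹) * z, mul_mem h6 hz, ?_, ?_⟩
    · rw [D.p_mul hQ (D.Y_le hz), h2, h4, D.dbl]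
    · rw [D.p'_mul hQ (D.Y_le hz), h3, h5]
      have h7 : (t ^ 2)⁻¹ * p' y + t ^ 2 * p' y = ((t ^ 2)⁻¹ - t ^ 2) * p' y := by
        linear_combination (t ^ 2 * p' y) * D.two
      rw [h7]
      exact mul_ne_zero ht4 h1
  obtain ⟨y, hy, h1, h2⟩ := h10
  obtain ⟨y', hy', h3, h4⟩ := h01
  obtain ⟨z, hz, h5, h6⟩ := D.Y_smul hy (α * (p y)⁻¹)
  obtain ⟨z', hz', h7, h8⟩ := D.Y_smul hy' (β * (p' y')⁻¹)
  refine ⟨z * z', mul_mem hz hz', ?_, ?_⟩
  · rw [D.p_mul (D.Y_le hz) (D.Y_le hz'), h5, h7, h3, mul_zero, add_zero, inv_mul_cancel_right₀ h1]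
  · rw [D.p'_mul (D.Y_le hz) (D.Y_le hz'), h6, h8, h2, mul_zero, zero_add, inv_mul_cancel_right₀ h4]

/-- `C_Q(Y) = R` -/
theorem cent_Y [Finite G] {z : G} (hz : z ∈ Q i0 j0) (h : ∀ y ∈ D.Y, z * y = y * z) : z ∈ R i0 j0 := by
  have hzV : z ∈ centralizer (V : Set G) := D.mem_CV_of_E hz fun e he => h e (D.E_le_Y he)
  -- commutators with `C_{Q k l}(V)`, opposite points
  have h1 : ∀ k l, k ≠ i0 → l ≠ j0 → ∀ y ∈ Q k l, y ∈ centralizer (V : Set G) → z * y = y * z := by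
    intro k l hk hl y hy hyV
    have hzR : cj z (R k l) = R k l := cj_eq_of_comm fun r hr =>
      (mem_centralizer_iff.1 hzV r (D.grid.R_le _ _ hr)).symm
    have hzQ : cj z (Q k l) = Q k l := D.grid.conj z _ _ _ _ hzR
    have e1 : ⁅z, y⁆ ∈ Q k l := mul_mem (conj_of_cj hzQ hy) (inv_mem hy)
    have hyK := D.CV_le_K hyV
    have e2 : ⁅z, y⁆ ∈ Q i0 j0 := by
      rw [commutatorElement_def, show z * y * z⁻¹ * y⁻¹ = z * (y * z⁻¹ * y⁻¹) by group]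
      exact mul_mem hz (D.K_norm hyK (inv_mem hz))
    have e3 : ⁅z, y⁆ ∈ V := D.grid.meet i0 j0 k l hk hl ⟨e2, e1⟩
    -- `[z, y]` centralises `Y`
    have e4 : ∀ w ∈ D.Y, ⁅z, y⁆ * w = w * ⁅z, y⁆ := by
      intro w hw
      have a1 : z ∈ centralizer (D.Y : Set G) := mem_centralizer_iff.2 fun u hu => (h u hu).symm
      have a2 : y * z⁻¹ * y⁻¹ ∈ centralizer (D.Y : Set G) := by
        rw [mem_centralizer_iff]
        intro u hu
        have a3 := D.pre.conj_mem_Y (D.pre.K.inv_mem hyK) hu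
        rw [inv_inv] at a3
        have a4 := mem_centralizer_iff.1 (inv_mem a1) _ a3
        calc u * (y * z⁻¹ * y⁻¹) = y * ((y⁻¹ * u * y) * z⁻¹) * y⁻¹ := by group
          _ = y * (z⁻¹ * (y⁻¹ * u * y)) * y⁻¹ := by rw [a4]
          _ = y * z⁻¹ * y⁻¹ * u := by group
      have a5 : ⁅z, y⁆ ∈ centralizer (D.Y : Set G) := by
        rw [commutatorElement_def, show z * y * z⁻¹ * y⁻¹ = z * (y * z⁻¹ * y⁻¹) by group]
        exact mul_mem a1 a2
      exact (mem_centralizer_iff.1 a5 w hw).symm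
    obtain ⟨a, b, c, he⟩ := D.mem_E.1 ⟨e3, e2⟩
    have hbc : ∀ w ∈ D.Y, p' w * b + p w * c = 0 := by
      intro w hw
      rw [← D.fn_v (D.Y_le hw) a b c, ← he, commutatorElement_eq_one_iff_mul_comm.2 (e4 w hw).symm]
      exact D.pre.ρ_one
    have hb : b = 0 := by
      obtain ⟨w, hw, h3, h4⟩ := D.Y_surj 0 1
      have := hbc w hw
      rw [h3, h4] at this
      linear_combination this
    have hc : c = 0 := by
      obtain ⟨w, hw, h3, h4⟩ := D.Y_surj 1 0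
      have := hbc w hw
      rw [h3, h4] at this
      linear_combination this
    rw [hb, hc] at he
    have e5 : ⁅z, y⁆ ∈ R i0 j0 ⊓ Q k l := ⟨(D.R00 _).2 ⟨a, he⟩, e1⟩
    rw [D.grid.RQj i0 j0 k l hk hl, mem_bot] at e5
    exact comm_of_eq_one e5
  have h2 := D.rc.opp i0 j0 z hz hzV h1
  refine D.grid.cen i0 j0 z hz fun x hx => ?_
  obtain ⟨y, hy, h3, h4⟩ := D.Y_surj (p x) (p' x)
  have hyQ := D.Y_le hy
  have h5 : y⁻¹ * x ∈ centralizer (V : Set G) := by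
    rw [D.mem_CV (mul_mem (inv_mem hyQ) hx), D.p_mul (inv_mem hyQ) hx, D.p'_mul (inv_mem hyQ) hx,
      D.p_inv hyQ, D.p'_inv hyQ, h3, h4, D.dbl, D.dbl]
    exact ⟨rfl, rfl⟩
  have h6 := h2 _ (mul_mem (inv_mem hyQ) hx) h5
  calc z * x = z * y * (y⁻¹ * x) := by group
    _ = y * (z * (y⁻¹ * x)) := by rw [h y hy, mul_assoc]
    _ = y * (y⁻¹ * x * z) := by rw [h6]
    _ = x * z := by group

/-- **Generation**: `Q = ⟨E^K⟩`. -/
theorem gen [Finite G] [Finite F] : Q i0 j0 ≤ D.Y :=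
  D.pre.gen_of (fun r hr => ⟨D.R_le_V hr, D.R_le_Q hr⟩) fun z hz h => D.cent_Y hz h

/-- `F` is finite -/
theorem finite_F [Finite G] : Finite F :=
  Finite.of_injective (fun a => v a 0 0 0) fun a b h => (D.v_ext h).1

/-- **`FStr.Inp`** -/
noncomputable def inp [Finite G] : FStr.Inp F G where
  toPre := D.pre
  gen := by
    have := D.finite_F
    exact D.gen

end Gin

end Cfsg.Agent.Omega.NO1.Gamma

end

section


/-!
# THEOREM SL (type (gamma), `V = O₄⁺(q)`, `q ≥ 4`), section 0: the input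

`F` a field of characteristic 2 with at least 4 elements, `M` (`= Q/R`) an `F`-space with a nondegenerate
quadratic form `s` (`=` squaring) and polar form `f` (`=` commutator), `H` (`= C_G(R)/Q`) a group of
`F`-linear isometries, `e = ⟨e₁, e₂⟩` (`= E/R`; `eᵢ` spans the `i`-th singular point), `P = e^⊥`,
`(y₁, y₂) : P → Φ₁ × Φ₂` onto with kernel `e` (`P/e = C_Q(V)/E = N' + N''`), `b` a perfect pairing, `J` the
unipotent radical of the stabiliser of `e`: it induces `Hom(N', ⟨e₁⟩) + Hom(N'', ⟨e₂⟩)` on `P/e → e`, with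
kernel the root group `m ↦ m + a (f m e₁ e₂ + f m e₂ e₁)` (`= V Q/Q`).

No torus, no finiteness is needed.

Output (`SL/Main.lean`): `M = M₁ ⊕ M₂`, `eᵢ ∈ Mᵢ`, both totally singular, `H` permutes `{M₁, M₂}`; the conjugates of
`e` under `H` are exactly the `⟨m, φ⟩` with `m ∈ M₁`, `φ ∈ M₂` nonzero and `f m φ = 0`; all their root groups
(the transvections of `SL(M₁)`) are in `H`; `J` is the full unipotent radical.
-/

set_option autoImplicit false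

namespace Cfsg.Agent.Omega.NOne.SL

/-- **The input of THEOREM SL.** -/
structure Spl (F M Φ₁ Φ₂ : Type*) [Field F] [AddCommGroup M] [Module F M] [AddCommGroup Φ₁]
    [Module F Φ₁] [AddCommGroup Φ₂] [Module F Φ₂] where
  /-- characteristic 2 -/
  two : (2 : F) = 0
  /-- `|F| ≥ 4` (only `> 2` is used) -/
  four : ∃ a : F, a ≠ 0 ∧ a ≠ 1
  /-- the polar form (commutator) -/
  f : M →ₗ[F] M →ₗ[F] F
  /-- the quadratic form (squaring) -/
  s : M → F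
  s_add : ∀ x y, s (x + y) = s x + s y + f x y
  s_smul : ∀ (c : F) x, s (c • x) = c ^ 2 * s x
  nondeg : ∀ m, (∀ m', f m m' = 0) → m = 0
  /-- the group -/
  H : Subgroup (M ≃ₗ[F] M)
  isom : ∀ g ∈ H, ∀ m, s (g m) = s m
  /-- the pairing of `N'` and `N''` -/
  b : Φ₁ →ₗ[F] Φ₂ →ₗ[F] F
  b_left : ∀ x, (∀ y, b x y = 0) → x = 0
  b_right : ∀ y, (∀ x, b x y = 0) → y = 0
  /-- the singular line `e` with its two distinguished points -/
  e₁ : M
  e₂ : M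
  e_ind : ∀ a c : F, a • e₁ + c • e₂ = 0 → a = 0 ∧ c = 0
  s₁ : s e₁ = 0
  s₂ : s e₂ = 0
  e_perp : f e₁ e₂ = 0
  /-- `P/e = Φ₁ ⊕ Φ₂`, `P = e^⊥` (the maps are used on `P` only) -/
  y₁ : M →ₗ[F] Φ₁
  y₂ : M →ₗ[F] Φ₂
  y_surj : ∀ x₁ x₂, ∃ m, f e₁ m = 0 ∧ f e₂ m = 0 ∧ y₁ m = x₁ ∧ y₂ m = x₂
  y_e₁ : y₁ e₁ = 0 ∧ y₂ e₁ = 0
  y_e₂ : y₁ e₂ = 0 ∧ y₂ e₂ = 0
  y_ker : ∀ m, f e₁ m = 0 → f e₂ m = 0 → y₁ m = 0 → y₂ m = 0 → ∃ a c : F, m = a • e₁ + c • e₂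
  sy : ∀ m, f e₁ m = 0 → f e₂ m = 0 → s m = b (y₁ m) (y₂ m)
  /-- the unipotent radical of the stabiliser of `e` -/
  J : Subgroup (M ≃ₗ[F] M)
  J_le : J ≤ H
  χ₁ : (M ≃ₗ[F] M) → Φ₁
  χ₂ : (M ≃ₗ[F] M) → Φ₂
  JP : ∀ j ∈ J, ∀ m, f e₁ m = 0 → f e₂ m = 0 →
    j m = m + b (y₁ m) (χ₂ j) • e₁ + b (χ₁ j) (y₂ m) • e₂
  JM : ∀ j ∈ J, ∀ m, f e₁ (j m - m) = 0 ∧ f e₂ (j m - m) = 0
  Jall : ∀ x₁ x₂, ∃ j ∈ J, χ₁ j = x₁ ∧ χ₂ j = x₂
  /-- the root group of `e` -/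
  Jn : ∀ a : F, ∃ j ∈ J, ∀ m, j m = m + a • (f m e₁ • e₂ + f m e₂ • e₁)
  Jmax : ∀ g ∈ H, g e₁ = e₁ → g e₂ = e₂ →
    (∀ m, f e₁ m = 0 → f e₂ m = 0 → ∃ a c : F, g m - m = a • e₁ + c • e₂) →
    (∀ m, f e₁ (g m - m) = 0 ∧ f e₂ (g m - m) = 0) → g ∈ J
  /-- the stabiliser of `e` permutes the two points of `e` -/
  Se : ∀ g ∈ H, (∃ a c : F, g e₁ = a • e₁ + c • e₂) → (∃ a c : F, g e₂ = a • e₁ + c • e₂) →
    ((∃ a : F, g e₁ = a • e₁) ∧ ∃ a : F, g e₂ = a • e₂) ∨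
      ((∃ a : F, g e₁ = a • e₂) ∧ ∃ a : F, g e₂ = a • e₁)
  /-- the conjugates of `e` span `M` -/
  Om : ∀ N : Submodule F M, (∀ g ∈ H, g e₁ ∈ N ∧ g e₂ ∈ N) → N = ⊤

end Cfsg.Agent.Omega.NOne.SL

end

section


/-!
# THEOREM SL, sections 1, 2: positions and opposite conjugates
-/

set_option autoImplicit false

namespace Cfsg.Agent.Omega.NOne.SL

namespace Spl

variable {F M Φ₁ Φ₂ : Type*} [Field F] [AddCommGroup M] [Module F M] [AddCommGroup Φ₁]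
    [Module F Φ₁] [AddCommGroup Φ₂] [Module F Φ₂] (D : Spl F M Φ₁ Φ₂)

include D

theorem dbl (a : F) : a + a = 0 := by
  rw [← two_mul, D.two, zero_mul]

theorem dblM (m : M) : m + m = 0 := by
  rw [← two_smul F m, D.two, zero_smul]

theorem neg_eq (a : F) : -a = a := by
  rw [neg_eq_iff_add_eq_zero, D.dbl]

theorem negM (m : M) : -m = m := by
  rw [neg_eq_iff_add_eq_zero, D.dblM]

theorem subM (m n : M) : m - n = m + n := by
  rw [sub_eq_add_neg, D.negM]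

theorem s_zero : D.s 0 = 0 := by
  have := D.s_smul 0 0
  simpa using this

theorem f_self (m : M) : D.f m m = 0 := by
  have h := D.s_add m m
  rw [D.dblM, D.s_zero, D.dbl, zero_add] at h
  exact h.symm

theorem f_symm (x y : M) : D.f x y = D.f y x := by
  have h := D.s_add x y
  have h' := D.s_add y x
  rw [add_comm y x, h] at h'
  linear_combination h'

theorem isomf {g : M ≃ₗ[F] M} (hg : g ∈ D.H) (x y : M) : D.f (g x) (g y) = D.f x y := by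
  have h := D.s_add (g x) (g y)
  rw [← map_add, D.isom g hg, D.isom g hg, D.isom g hg, D.s_add] at h
  linear_combination -h

theorem e_perp' : D.f D.e₂ D.e₁ = 0 := by rw [D.f_symm, D.e_perp]

/-- swapping the two halves -/
@[simps] def swap : Spl F M Φ₂ Φ₁ where
  two := D.two
  four := D.four
  f := D.f
  s := D.s
  s_add := D.s_add
  s_smul := D.s_smul
  nondeg := D.nondeg
  H := D.H
  isom := D.isom
  b := D.b.flip
  b_left := fun x h => D.b_right x fun y => h y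
  b_right := fun y h => D.b_left y fun x => h x
  e₁ := D.e₂
  e₂ := D.e₁
  e_ind := fun a c h => (D.e_ind c a (by rw [add_comm]; exact h)).symm
  s₁ := D.s₂
  s₂ := D.s₁
  e_perp := D.e_perp'
  y₁ := D.y₂
  y₂ := D.y₁
  y_surj := fun x₁ x₂ => by
    obtain ⟨m, h1, h2, h3, h4⟩ := D.y_surj x₂ x₁
    exact ⟨m, h2, h1, h4, h3⟩
  y_e₁ := D.y_e₂.symm
  y_e₂ := D.y_e₁.symm
  y_ker := fun m h1 h2 h3 h4 => by
    obtain ⟨a, c, h⟩ := D.y_ker m h2 h1 h4 h3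
    exact ⟨c, a, by rw [h, add_comm]⟩
  sy := fun m h1 h2 => D.sy m h2 h1
  J := D.J
  J_le := D.J_le
  χ₁ := D.χ₂
  χ₂ := D.χ₁
  JP := fun j hj m h1 h2 => by
    rw [D.JP j hj m h2 h1, LinearMap.flip_apply, LinearMap.flip_apply]
    abel
  JM := fun j hj m => (D.JM j hj m).symm
  Jall := fun x₁ x₂ => by
    obtain ⟨j, hj, h1, h2⟩ := D.Jall x₂ x₁
    exact ⟨j, hj, h2, h1⟩
  Jn := fun a => by
    obtain ⟨j, hj, h⟩ := D.Jn a
    refine ⟨j, hj, fun m => ?_⟩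
    rw [h m, add_comm (D.f m D.e₁ • D.e₂)]
  Jmax := fun g hg h1 h2 h3 h4 => D.Jmax g hg h2 h1 (fun m h5 h6 => by
    obtain ⟨a, c, h⟩ := h3 m h6 h5
    exact ⟨c, a, by rw [h, add_comm]⟩) fun m => (h4 m).symm
  Se := fun g hg h1 h2 => by
    have h3 : ∃ a c : F, g D.e₁ = a • D.e₁ + c • D.e₂ := by
      obtain ⟨a, c, h⟩ := h2
      exact ⟨c, a, by rw [h, add_comm]⟩
    have h4 : ∃ a c : F, g D.e₂ = a • D.e₁ + c • D.e₂ := by
      obtain ⟨a, c, h⟩ := h1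
      exact ⟨c, a, by rw [h, add_comm]⟩
    rcases D.Se g hg h3 h4 with ⟨h5, h6⟩ | ⟨h5, h6⟩
    · exact Or.inl ⟨h6, h5⟩
    · exact Or.inr ⟨h6, h5⟩
  Om := fun N h => D.Om N fun g hg => (h g hg).symm

/-- the conjugate `g e` -/
def E (g : M ≃ₗ[F] M) : Submodule F M := Submodule.span F {g D.e₁, g D.e₂}

theorem mem_E {g : M ≃ₗ[F] M} {v : M} : v ∈ D.E g ↔ ∃ a c : F, v = a • g D.e₁ + c • g D.e₂ := by
  rw [E, Submodule.mem_span_pair]
  constructor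
  · rintro ⟨a, c, h⟩; exact ⟨a, c, h.symm⟩
  · rintro ⟨a, c, h⟩; exact ⟨a, c, h.symm⟩

theorem mem_E_one {v : M} : v ∈ D.E 1 ↔ ∃ a c : F, v = a • D.e₁ + c • D.e₂ := D.mem_E

theorem E_swap (g : M ≃ₗ[F] M) : D.swap.E g = D.E g := by
  rw [E, E, Set.pair_comm]
  rfl

theorem map_mem_E {g v} {w : M ≃ₗ[F] M} (h : v ∈ D.E g) : w v ∈ D.E (w * g) := by
  obtain ⟨a, c, rfl⟩ := D.mem_E.1 h
  refine D.mem_E.2 ⟨a, c, ?_⟩
  simp

theorem E_perp {g : M ≃ₗ[F] M} (hg : g ∈ D.H) {x y : M} (hx : x ∈ D.E g) (hy : y ∈ D.E g) :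
    D.f x y = 0 := by
  obtain ⟨a, c, rfl⟩ := D.mem_E.1 hx
  obtain ⟨a', c', rfl⟩ := D.mem_E.1 hy
  simp only [map_add, map_smul, LinearMap.add_apply, LinearMap.smul_apply, smul_eq_mul, D.isomf hg,
    D.f_self, D.e_perp, D.e_perp']
  ring

theorem E_sing {g : M ≃ₗ[F] M} (hg : g ∈ D.H) {x : M} (hx : x ∈ D.E g) : D.s x = 0 := by
  obtain ⟨a, c, rfl⟩ := D.mem_E.1 hx
  rw [D.s_add, D.s_smul, D.s_smul, D.isom g hg, D.isom g hg, D.s₁, D.s₂]
  simp only [map_smul, LinearMap.smul_apply, smul_eq_mul, D.isomf hg, D.e_perp]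
  ring

/-- independence of `g e₁`, `g e₂` -/
theorem ind {g : M ≃ₗ[F] M} {a c : F} (h : a • g D.e₁ + c • g D.e₂ = 0) : a = 0 ∧ c = 0 := by
  apply D.e_ind
  apply g.injective
  simpa using h

theorem e₁_ne : D.e₁ ≠ 0 := by
  intro h
  have := (D.e_ind 1 0 (by simp [h])).1
  exact one_ne_zero this

theorem e₂_ne : D.e₂ ≠ 0 := by
  intro h
  have := (D.e_ind 0 1 (by simp [h])).2
  exact one_ne_zero this

/-- `P = e^⊥` -/
def InP (m : M) : Prop := D.f D.e₁ m = 0 ∧ D.f D.e₂ m = 0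

theorem fy {m m' : M} (hm : D.InP m) (hm' : D.InP m') :
    D.f m m' = D.b (D.y₁ m) (D.y₂ m') + D.b (D.y₁ m') (D.y₂ m) := by
  have h := D.sy (m + m') (by rw [map_add, hm.1, hm'.1, add_zero]) (by
    rw [map_add, hm.2, hm'.2, add_zero])
  rw [D.s_add, D.sy m hm.1 hm.2, D.sy m' hm'.1 hm'.2] at h
  simp only [map_add, LinearMap.add_apply] at h
  linear_combination h

/-- the root elements of `g e` -/
theorem root {g : M ≃ₗ[F] M} (hg : g ∈ D.H) {p u : M} (hp : p ∈ D.E g) (hu : u ∈ D.E g) (a : F) :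
    ∃ h ∈ D.H, ∀ m, h m = m + a • (D.f m p • u + D.f m u • p) := by
  obtain ⟨α, β, rfl⟩ := D.mem_E.1 hp
  obtain ⟨γ, δ, rfl⟩ := D.mem_E.1 hu
  obtain ⟨j, hj, hjm⟩ := D.Jn (a * (α * δ + β * γ))
  refine ⟨g * j * g⁻¹, D.H.mul_mem (D.H.mul_mem hg (D.J_le hj)) (D.H.inv_mem hg), fun m => ?_⟩
  have h1 : ∀ v, D.f (g⁻¹ m) v = D.f m (g v) := by
    intro v
    rw [← D.isomf hg (g⁻¹ m) v]
    congr 2
    exact g.apply_symm_apply m
  have h2 : g (g⁻¹ m) = m := g.apply_symm_apply m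
  rw [LinearEquiv.mul_apply, LinearEquiv.mul_apply, hjm, map_add, h2, map_smul, map_add, map_smul, map_smul, h1,
    h1]
  simp only [map_add, map_smul, smul_eq_mul]
  set X := D.f m (g D.e₁)
  set Y := D.f m (g D.e₂)
  set x := g D.e₁
  set y := g D.e₂
  linear_combination (norm := module) (-(a * X * α * γ)) • D.two • x - (a * Y * β * δ) • D.two • y

theorem f_add_left (x y z : M) : D.f (x + y) z = D.f x z + D.f y z := by
  rw [map_add, LinearMap.add_apply]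

theorem f_smul_left (a : F) (x z : M) : D.f (a • x) z = a * D.f x z := by
  rw [map_smul, LinearMap.smul_apply, smul_eq_mul]

/-- `P ⊥ e` -/
theorem perp_e {m p : M} (hm : D.InP m) (hp : p ∈ D.E 1) : D.f m p = 0 := by
  obtain ⟨a, c, rfl⟩ := D.mem_E_one.1 hp
  rw [map_add, map_smul, map_smul, D.f_symm m, D.f_symm m, hm.1, hm.2]
  simp

theorem E_one_le {p : M} (hp : p ∈ D.E 1) : D.InP p :=
  ⟨D.E_perp D.H.one_mem (D.mem_E_one.2 ⟨1, 0, by simp⟩) hp,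
    D.E_perp D.H.one_mem (D.mem_E_one.2 ⟨0, 1, by simp⟩) hp⟩

/-- **(P1)**: a conjugate of `e` meeting `e` is perpendicular to `e`. -/
theorem p1 {g : M ≃ₗ[F] M} (hg : g ∈ D.H) {p u : M} (hp0 : p ≠ 0) (hp1 : p ∈ D.E 1)
    (hp : p ∈ D.E g) (hu : u ∈ D.E g) : D.InP u := by
  obtain ⟨α, β, hpe⟩ := D.mem_E_one.1 hp1
  have hP := D.E_one_le hp1
  have hpu : D.f p u = 0 := D.E_perp hg hp hu
  set l := D.f D.e₁ u with hl
  set k := D.f D.e₂ u with hk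
  have h0 : α * l + β * k = 0 := by
    rw [hpe, D.f_add_left, D.f_smul_left, D.f_smul_left] at hpu
    exact hpu
  have hH : ∀ a : F, ∃ h ∈ D.H, h D.e₁ = (1 + a * l * α) • D.e₁ + (a * l * β) • D.e₂ ∧
      h D.e₂ = (a * k * α) • D.e₁ + (1 + a * k * β) • D.e₂ := by
    intro a
    obtain ⟨h, hh, hm⟩ := D.root hg hp hu a
    refine ⟨h, hh, ?_, ?_⟩
    · rw [hm, hP.1, ← hl, hpe]
      module
    · rw [hm, hP.2, ← hk, hpe]
      module
  have key : ∀ a : F, a ≠ 0 → (l = 0 ∧ k = 0) ∨ 1 + a * l * α = 0 := by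
    intro a ha
    obtain ⟨h, hh, h1, h2⟩ := hH a
    rcases D.Se h hh ⟨_, _, h1⟩ ⟨_, _, h2⟩ with ⟨⟨c, hc⟩, ⟨d, hd⟩⟩ | ⟨⟨c, hc⟩, -⟩
    · left
      have h3 := D.e_ind (1 + a * l * α - c) (a * l * β) (by
        rw [hc] at h1
        linear_combination (norm := module) -h1)
      have h4 := D.e_ind (a * k * α) (1 + a * k * β - d) (by
        rw [hd] at h2
        linear_combination (norm := module) -h2)
      have h5 : l * β = 0 := by
        have := h3.2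
        rw [mul_assoc] at this
        exact (mul_eq_zero.1 this).resolve_left ha
      have h6 : k * α = 0 := by
        have := h4.1
        rw [mul_assoc] at this
        exact (mul_eq_zero.1 this).resolve_left ha
      by_cases hα : α = 0
      · have hβ : β ≠ 0 := by
          rintro rfl
          apply hp0
          rw [hpe, hα]
          simp
        rw [hα, zero_mul, zero_add] at h0
        exact ⟨(mul_eq_zero.1 h5).resolve_right hβ, (mul_eq_zero.1 h0).resolve_left hβ⟩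
      · have hk0 : k = 0 := (mul_eq_zero.1 h6).resolve_right hα
        rw [hk0, mul_zero, add_zero] at h0
        exact ⟨(mul_eq_zero.1 h0).resolve_left hα, hk0⟩
    · right
      exact (D.e_ind (1 + a * l * α) (a * l * β - c) (by
        rw [hc] at h1
        linear_combination (norm := module) -h1)).1
  obtain ⟨a, ha, ha1⟩ := D.four
  rcases key 1 one_ne_zero with h1 | h1
  · exact h1
  rcases key a ha with h2 | h2
  · exact h2
  exfalso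
  have h3 : (a + 1) * (l * α) = 0 := by linear_combination h1 + h2 - D.two
  rcases mul_eq_zero.1 h3 with h4 | h4
  · apply ha1
    rw [← sub_eq_zero, sub_eq_add_neg, D.neg_eq, h4]
  · rw [one_mul, h4, add_zero] at h1
    exact one_ne_zero h1

/-- **(P2)**: if `g e ⊥ e` meets `e` in a point `p`, then `p` is one of the two distinguished points. -/
theorem p2 {g : M ≃ₗ[F] M} (hg : g ∈ D.H) {p u : M} (hp0 : p ≠ 0) (hp1 : p ∈ D.E 1)
    (hp : p ∈ D.E g) (hu : u ∈ D.E g) (hu1 : u ∉ D.E 1) :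
    (∃ a : F, p = a • D.e₁ ∧ D.y₁ u = 0) ∨ (∃ a : F, p = a • D.e₂ ∧ D.y₂ u = 0) := by
  obtain ⟨α, β, hpe⟩ := D.mem_E_one.1 hp1
  have hP := D.E_one_le hp1
  have hU : D.InP u := D.p1 hg hp0 hp1 hp hu
  obtain ⟨h, hh, hm⟩ := D.root hg hp hu 1
  have h1 : D.f D.e₁ p = 0 := hP.1
  have h2 : D.f D.e₂ p = 0 := hP.2
  have hj : h ∈ D.J := by
    refine D.Jmax h hh ?_ ?_ ?_ ?_
    · rw [hm, h1, hU.1]; simp
    · rw [hm, h2, hU.2]; simp
    · intro m h3 h4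
      refine ⟨D.f m u * α, D.f m u * β, ?_⟩
      rw [hm, D.perp_e ⟨h3, h4⟩ hp1, hpe]
      module
    · intro m
      have h3 : h m - m = D.f m p • u + D.f m u • p := by rw [hm]; module
      rw [h3]
      simp only [map_add, map_smul, smul_eq_mul, hP.1, hP.2, hU.1, hU.2]
      simp
  have key : ∀ m, D.InP m → α * D.f m u = D.b (D.y₁ m) (D.χ₂ h) ∧
      β * D.f m u = D.b (D.χ₁ h) (D.y₂ m) := by
    intro m hmP
    have h3 := D.JP h hj m hmP.1 hmP.2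
    rw [hm, D.perp_e hmP hp1, hpe] at h3
    have h4 := D.e_ind (α * D.f m u - D.b (D.y₁ m) (D.χ₂ h)) (β * D.f m u - D.b (D.χ₁ h) (D.y₂ m)) (by
      linear_combination (norm := module) h3)
    exact ⟨sub_eq_zero.1 h4.1, sub_eq_zero.1 h4.2⟩
  have k1 : β = 0 ∨ D.y₂ u = 0 := by
    by_cases hβ : β = 0
    · exact Or.inl hβ
    right
    refine D.b_right _ fun x => ?_
    obtain ⟨m, h3, h4, h5, h6⟩ := D.y_surj x 0
    have h7 := (key m ⟨h3, h4⟩).2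
    rw [D.fy ⟨h3, h4⟩ hU, h5, h6, map_zero, map_zero, add_zero] at h7
    exact (mul_eq_zero.1 h7).resolve_left hβ
  have k2 : α = 0 ∨ D.y₁ u = 0 := by
    by_cases hα : α = 0
    · exact Or.inl hα
    right
    refine D.b_left _ fun x => ?_
    obtain ⟨m, h3, h4, h5, h6⟩ := D.y_surj 0 x
    have h7 := (key m ⟨h3, h4⟩).1
    rw [D.fy ⟨h3, h4⟩ hU, h5, h6] at h7
    simp only [map_zero, LinearMap.zero_apply, zero_add] at h7
    exact (mul_eq_zero.1 h7).resolve_left hα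
  have k3 : ¬ (D.y₁ u = 0 ∧ D.y₂ u = 0) := fun h3 =>
    hu1 (D.mem_E_one.2 (D.y_ker u hU.1 hU.2 h3.1 h3.2))
  rcases k1 with rfl | k1
  · have hα : α ≠ 0 := by
      rintro rfl
      apply hp0
      rw [hpe]
      simp
    exact Or.inl ⟨α, by rw [hpe]; simp, k2.resolve_left hα⟩
  · rcases k2 with rfl | k2
    · exact Or.inr ⟨β, by rw [hpe]; simp, k1⟩
    · exact absurd ⟨k2, k1⟩ k3

end Spl

end Cfsg.Agent.Omega.NOne.SL

end

section


/-!
# THEOREM SL, section 3: opposite conjugates, the decomposition `M = M₁ ⊕ M₂`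
-/

set_option autoImplicit false

namespace Cfsg.Agent.Omega.NOne.SL

namespace Spl

variable {F M Φ₁ Φ₂ : Type*} [Field F] [AddCommGroup M] [Module F M] [AddCommGroup Φ₁]
    [Module F Φ₁] [AddCommGroup Φ₂] [Module F Φ₂] (D : Spl F M Φ₁ Φ₂)

/-- `g e` is opposite to `e`. -/
def Opp (g : M ≃ₗ[F] M) : Prop :=
  ∃ c₁ ∈ D.E g, ∃ c₂ ∈ D.E g, D.f c₁ D.e₁ = 0 ∧ D.f c₁ D.e₂ = 1 ∧ D.f c₂ D.e₁ = 1 ∧ D.f c₂ D.e₂ = 0

theorem Opp.of_swap {g : M ≃ₗ[F] M} (h : D.swap.Opp g) : D.Opp g := by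
  obtain ⟨c₁, h1, c₂, h2, h3, h4, h5, h6⟩ := h
  rw [E_swap] at h1 h2
  exact ⟨c₂, h2, c₁, h1, h6, h5, h4, h3⟩

theorem opp_of_det {g : M ≃ₗ[F] M} {x y u v : M} (hx : x ∈ D.E g) (hy : y ∈ D.E g)
    (hu : u ∈ D.E 1) (hv : v ∈ D.E 1) (h : D.f x u * D.f y v + D.f x v * D.f y u ≠ 0) : D.Opp g := by
  obtain ⟨α, β, rfl⟩ := D.mem_E_one.1 hu
  obtain ⟨γ, δ, rfl⟩ := D.mem_E_one.1 hv
  set d := D.f x D.e₁ * D.f y D.e₂ + D.f x D.e₂ * D.f y D.e₁ with hd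
  have hd0 : d ≠ 0 := by
    intro h0
    apply h
    simp only [map_add, map_smul, smul_eq_mul]
    linear_combination (α * δ + β * γ) * h0 + (α * γ * D.f x D.e₁ * D.f y D.e₁ +
      β * δ * D.f x D.e₂ * D.f y D.e₂) * D.two
  refine ⟨d⁻¹ • (D.f y D.e₁ • x + D.f x D.e₁ • y), ?_, d⁻¹ • (D.f y D.e₂ • x + D.f x D.e₂ • y), ?_, ?_, ?_, ?_, ?_⟩
  · exact Submodule.smul_mem _ _ (add_mem (Submodule.smul_mem _ _ hx) (Submodule.smul_mem _ _ hy))
  · exact Submodule.smul_mem _ _ (add_mem (Submodule.smul_mem _ _ hx) (Submodule.smul_mem _ _ hy))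
  · rw [D.f_smul_left, D.f_add_left, D.f_smul_left, D.f_smul_left]
    rw [mul_comm (D.f y D.e₁), D.dbl, mul_zero]
  · rw [D.f_smul_left, D.f_add_left, D.f_smul_left, D.f_smul_left]
    rw [show D.f y D.e₁ * D.f x D.e₂ + D.f x D.e₁ * D.f y D.e₂ = d by rw [hd]; ring, inv_mul_cancel₀ hd0]
  · rw [D.f_smul_left, D.f_add_left, D.f_smul_left, D.f_smul_left]
    rw [show D.f y D.e₂ * D.f x D.e₁ + D.f x D.e₂ * D.f y D.e₁ = d by rw [hd]; ring, inv_mul_cancel₀ hd0]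
  · rw [D.f_smul_left, D.f_add_left, D.f_smul_left, D.f_smul_left]
    rw [mul_comm (D.f y D.e₂), D.dbl, mul_zero]

theorem j_e₁ {j : M ≃ₗ[F] M} (hj : j ∈ D.J) : j D.e₁ = D.e₁ := by
  have h := D.JP j hj D.e₁ (D.f_self _) D.e_perp'
  rw [D.y_e₁.1, D.y_e₁.2] at h
  simpa using h

theorem j_e₂ {j : M ≃ₗ[F] M} (hj : j ∈ D.J) : j D.e₂ = D.e₂ := by
  have h := D.JP j hj D.e₂ D.e_perp (D.f_self _)
  rw [D.y_e₂.1, D.y_e₂.2] at h
  simpa using h

/-- nonzero elements of `Φ₂` are detected by the pairing -/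
theorem exists_b₁ {y : Φ₂} (hy : y ≠ 0) : ∃ x, D.b x y = 1 := by
  by_contra hcon
  push Not at hcon
  apply hy
  refine D.b_right y fun x => ?_
  by_contra h0
  refine hcon ((D.b x y)⁻¹ • x) ?_
  rw [map_smul, LinearMap.smul_apply, smul_eq_mul, inv_mul_cancel₀ h0]

theorem exists_b₂ {x : Φ₁} (hx : x ≠ 0) : ∃ y, D.b x y = 1 := by
  obtain ⟨y, hy⟩ := D.swap.exists_b₁ hx
  exact ⟨y, hy⟩

theorem opp_aux {g : M ≃ₗ[F] M} (hg : g ∈ D.H) {p u : M} (hp : p ∈ D.E g) (hu : u ∈ D.E g)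
    (hpP : D.InP p) (hp1 : p ∉ D.E 1) (h1 : D.f D.e₂ u ≠ 0) (h2 : D.y₁ p = 0) :
    ∃ g' ∈ D.H, D.Opp g' := by
  have hy : D.y₂ p ≠ 0 := fun h3 => hp1 (D.mem_E_one.2 (D.y_ker p hpP.1 hpP.2 h2 h3))
  obtain ⟨x, hx⟩ := D.exists_b₁ hy
  obtain ⟨j, hj, hj1, hj2⟩ := D.Jall x 0
  have hjH := D.J_le hj
  have hjp : j p = p + D.e₂ := by
    rw [D.JP j hj p hpP.1 hpP.2, h2, hj1, hj2, hx]
    simp
  have hjp' : j (p + D.e₂) = p := by
    rw [map_add, hjp, D.j_e₂ hj, add_assoc, D.dblM, add_zero]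
  have hgi := D.H.inv_mem hg
  have hpu : D.f p u = 0 := D.E_perp hg hp hu
  refine ⟨g⁻¹ * (j * g), D.H.mul_mem hgi (D.H.mul_mem hjH hg), ?_⟩
  have e1 : g⁻¹ p ∈ D.E 1 := by
    have := D.map_mem_E (w := g⁻¹) hp
    rwa [inv_mul_cancel] at this
  have e2 : g⁻¹ u ∈ D.E 1 := by
    have := D.map_mem_E (w := g⁻¹) hu
    rwa [inv_mul_cancel] at this
  have e3 : g⁻¹ (j p) ∈ D.E (g⁻¹ * (j * g)) := D.map_mem_E (D.map_mem_E hp)
  have e4 : g⁻¹ (j u) ∈ D.E (g⁻¹ * (j * g)) := D.map_mem_E (D.map_mem_E hu)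
  refine D.opp_of_det e3 e4 e1 e2 ?_
  rw [D.isomf hgi, D.isomf hgi, D.isomf hgi, D.isomf hgi]
  have h3 : D.f (j p) p = 0 := by
    rw [hjp, D.f_add_left, D.f_self, hpP.2, add_zero]
  have h4 : D.f (j p) u = D.f D.e₂ u := by
    rw [hjp, D.f_add_left, hpu, zero_add]
  have h5 : D.f (j u) p = D.f D.e₂ u := by
    rw [← hjp', D.isomf hjH, map_add, D.f_symm u p, hpu, zero_add, D.f_symm]
  rw [h3, h4, h5, zero_mul, zero_add]
  exact mul_ne_zero h1 h1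

theorem InP_swap {m : M} : D.swap.InP m ↔ D.InP m := and_comm

/-- **Opposite conjugates exist.** -/
theorem exists_opp : ∃ g ∈ D.H, D.Opp g := by
  -- a conjugate not perpendicular to `e`
  obtain ⟨g, hg, w, hw, hwP⟩ : ∃ g ∈ D.H, ∃ w ∈ D.E g, ¬ D.InP w := by
    by_contra hcon
    push Not at hcon
    have h1 := D.Om (LinearMap.ker (D.f D.e₁) ⊓ LinearMap.ker (D.f D.e₂)) (fun g hg => by
      have a1 := hcon g hg _ (D.mem_E.2 ⟨1, 0, by simp⟩ : g D.e₁ ∈ D.E g)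
      have a2 := hcon g hg _ (D.mem_E.2 ⟨0, 1, by simp⟩ : g D.e₂ ∈ D.E g)
      simp only [Submodule.mem_inf, LinearMap.mem_ker]
      exact ⟨⟨a1.1, a1.2⟩, a2.1, a2.2⟩)
    apply D.e₁_ne
    refine D.nondeg _ fun m => ?_
    have h2 : m ∈ LinearMap.ker (D.f D.e₁) ⊓ LinearMap.ker (D.f D.e₂) := h1 ▸ Submodule.mem_top
    exact h2.1
  have hx : g D.e₁ ∈ D.E g := D.mem_E.2 ⟨1, 0, by simp⟩
  have hy : g D.e₂ ∈ D.E g := D.mem_E.2 ⟨0, 1, by simp⟩
  set x := g D.e₁ with hxd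
  set y := g D.e₂ with hyd
  by_cases hd : D.f x D.e₁ * D.f y D.e₂ + D.f x D.e₂ * D.f y D.e₁ = 0
  swap
  · exact ⟨g, hg, D.opp_of_det hx hy (D.mem_E_one.2 ⟨1, 0, by simp⟩) (D.mem_E_one.2 ⟨0, 1, by simp⟩) hd⟩
  -- the point of `g e` perpendicular to `e`
  obtain ⟨p, hp, hp0, hpP⟩ : ∃ p ∈ D.E g, p ≠ 0 ∧ D.InP p := by
    have a1 : D.InP (D.f y D.e₁ • x + D.f x D.e₁ • y) := by
      constructor
      · rw [D.f_symm, D.f_add_left, D.f_smul_left, D.f_smul_left, mul_comm (D.f y D.e₁), D.dbl]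
      · rw [D.f_symm, D.f_add_left, D.f_smul_left, D.f_smul_left]
        linear_combination hd
    have a2 : D.InP (D.f y D.e₂ • x + D.f x D.e₂ • y) := by
      constructor
      · rw [D.f_symm, D.f_add_left, D.f_smul_left, D.f_smul_left]
        linear_combination hd
      · rw [D.f_symm, D.f_add_left, D.f_smul_left, D.f_smul_left, mul_comm (D.f y D.e₂), D.dbl]
    have b1 : D.f y D.e₁ • x + D.f x D.e₁ • y ∈ D.E g :=
      add_mem (Submodule.smul_mem _ _ hx) (Submodule.smul_mem _ _ hy)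
    have b2 : D.f y D.e₂ • x + D.f x D.e₂ • y ∈ D.E g :=
      add_mem (Submodule.smul_mem _ _ hx) (Submodule.smul_mem _ _ hy)
    by_cases h1 : D.f y D.e₁ • x + D.f x D.e₁ • y = 0
    · by_cases h2 : D.f y D.e₂ • x + D.f x D.e₂ • y = 0
      · exfalso
        have c1 := D.ind h1
        have c2 := D.ind h2
        apply hwP
        obtain ⟨a, c, rfl⟩ := D.mem_E.1 hw
        constructor
        · rw [D.f_symm, D.f_add_left, D.f_smul_left, D.f_smul_left, ← hxd, ← hyd, c1.1, c1.2]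
          simp
        · rw [D.f_symm, D.f_add_left, D.f_smul_left, D.f_smul_left, ← hxd, ← hyd, c2.1, c2.2]
          simp
      · exact ⟨_, b2, h2, a2⟩
    · exact ⟨_, b1, h1, a1⟩
  have hp1 : p ∉ D.E 1 := fun h => hwP (D.p1 hg hp0 h hp hw)
  have hpw : D.f p w = 0 := D.E_perp hg hp hw
  set l := D.f D.e₁ w with hl
  set k := D.f D.e₂ w with hk
  have hlk : l ≠ 0 ∨ k ≠ 0 := by
    by_contra hcon
    push Not at hcon
    exact hwP hcon
  obtain ⟨v, hv, hvm⟩ := D.root hg hp hw 1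
  have hv1 : v D.e₁ = D.e₁ + l • p := by
    rw [hvm, hpP.1, ← hl]; simp
  have hv2 : v D.e₂ = D.e₂ + k • p := by
    rw [hvm, hpP.2, ← hk]; simp
  have hq : k • D.e₁ + l • D.e₂ ∈ D.E v := by
    refine D.mem_E.2 ⟨k, l, ?_⟩
    rw [hv1, hv2]
    linear_combination (norm := module) -(k * l) • D.two • p
  have hq1 : k • D.e₁ + l • D.e₂ ∈ D.E 1 := D.mem_E_one.2 ⟨k, l, rfl⟩
  have hq0 : k • D.e₁ + l • D.e₂ ≠ 0 := by
    intro h
    have := D.e_ind _ _ h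
    rcases hlk with h1 | h1
    · exact h1 this.2
    · exact h1 this.1
  have hnot : ∀ a : F, a ≠ 0 → ∀ e ∈ D.E 1, e + a • p ∉ D.E 1 := by
    intro a ha e he h
    apply hp1
    have h1 : a • p ∈ D.E 1 := by
      have := sub_mem h he
      simpa using this
    have := Submodule.smul_mem _ a⁻¹ h1
    rwa [smul_smul, inv_mul_cancel₀ ha, one_smul] at this
  have he1 : D.e₁ ∈ D.E 1 := D.mem_E_one.2 ⟨1, 0, by simp⟩
  have he2 : D.e₂ ∈ D.E 1 := D.mem_E_one.2 ⟨0, 1, by simp⟩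
  have key : ((∃ a : F, k • D.e₁ + l • D.e₂ = a • D.e₁) ∧ D.y₁ p = 0) ∨
      ((∃ a : F, k • D.e₁ + l • D.e₂ = a • D.e₂) ∧ D.y₂ p = 0) := by
    by_cases h1 : l = 0
    · have h2 : k ≠ 0 := hlk.resolve_left (not_not.2 h1)
      rcases D.p2 hv hq0 hq1 hq (D.mem_E.2 ⟨0, 1, by simp⟩ : v D.e₂ ∈ D.E v)
        (by rw [hv2]; exact hnot k h2 _ he2) with ⟨a, ha, hb⟩ | ⟨a, ha, hb⟩
      · left
        rw [hv2, map_add, D.y_e₂.1, zero_add, map_smul, smul_eq_zero] at hb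
        exact ⟨⟨a, ha⟩, hb.resolve_left h2⟩
      · right
        rw [hv2, map_add, D.y_e₂.2, zero_add, map_smul, smul_eq_zero] at hb
        exact ⟨⟨a, ha⟩, hb.resolve_left h2⟩
    · rcases D.p2 hv hq0 hq1 hq (D.mem_E.2 ⟨1, 0, by simp⟩ : v D.e₁ ∈ D.E v)
        (by rw [hv1]; exact hnot l h1 _ he1) with ⟨a, ha, hb⟩ | ⟨a, ha, hb⟩
      · left
        rw [hv1, map_add, D.y_e₁.1, zero_add, map_smul, smul_eq_zero] at hb
        exact ⟨⟨a, ha⟩, hb.resolve_left h1⟩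
      · right
        rw [hv1, map_add, D.y_e₁.2, zero_add, map_smul, smul_eq_zero] at hb
        exact ⟨⟨a, ha⟩, hb.resolve_left h1⟩
  rcases key with ⟨⟨a, ha⟩, hb⟩ | ⟨⟨a, ha⟩, hb⟩
  · have h1 := D.e_ind (k - a) l (by linear_combination (norm := module) ha)
    exact D.opp_aux hg hp hw hpP hp1 (hlk.resolve_left (not_not.2 h1.2)) hb
  · have h1 := D.e_ind k (l - a) (by linear_combination (norm := module) ha)
    obtain ⟨g', hg', ho⟩ := D.swap.opp_aux (g := g) hg (p := p) (u := w) (by rw [E_swap]; exact hp)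
      (by rw [E_swap]; exact hw) (D.InP_swap.2 hpP) (by rw [E_swap]; exact hp1)
      (hlk.resolve_right (not_not.2 h1.1)) hb
    exact ⟨g', hg', Opp.of_swap D ho⟩

end Spl

end Cfsg.Agent.Omega.NOne.SL

end

section


/-!
# THEOREM SL, section 3: the decomposition `M = M₁ ⊕ M₂`
-/

set_option autoImplicit false
set_option linter.unusedSimpArgs false

namespace Cfsg.Agent.Omega.NOne.SL

namespace Spl

variable {F M Φ₁ Φ₂ : Type*} [Field F] [AddCommGroup M] [Module F M] [AddCommGroup Φ₁]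
    [Module F Φ₁] [AddCommGroup Φ₂] [Module F Φ₂] (D : Spl F M Φ₁ Φ₂)

/-- An opposite conjugate `e' = ⟨c₁, c₂⟩` with dual basis. -/
structure Fr where
  c₁ : M
  c₂ : M
  f11 : D.f c₁ D.e₁ = 0
  f12 : D.f c₁ D.e₂ = 1
  f21 : D.f c₂ D.e₁ = 1
  f22 : D.f c₂ D.e₂ = 0
  t₁ : D.s c₁ = 0
  t₂ : D.s c₂ = 0
  fc : D.f c₁ c₂ = 0
  root : ∀ a : F, ∃ h ∈ D.H, ∀ m, h m = m + a • (D.f m c₁ • c₂ + D.f m c₂ • c₁)

theorem exists_fr : Nonempty D.Fr := by
  obtain ⟨g, hg, c₁, h1, c₂, h2, h3, h4, h5, h6⟩ := D.exists_opp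
  exact ⟨c₁, c₂, h3, h4, h5, h6, D.E_sing hg h1, D.E_sing hg h2, D.E_perp hg h1 h2, D.root hg h1 h2⟩

namespace Fr

variable {D} (A : D.Fr)

/-- swapping the two halves -/
@[simps] def swap : D.swap.Fr where
  c₁ := A.c₂
  c₂ := A.c₁
  f11 := A.f22
  f12 := A.f21
  f21 := A.f12
  f22 := A.f11
  t₁ := A.t₂
  t₂ := A.t₁
  fc := by
    have := A.fc
    rw [D.f_symm] at this
    exact this
  root := fun a => by
    obtain ⟨h, hh, hm⟩ := A.root a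
    refine ⟨h, hh, fun m => ?_⟩
    rw [hm]
    simp only [Spl.swap]
    module

theorem fe₁ : D.f D.e₁ A.c₁ = 0 := by rw [D.f_symm, A.f11]
theorem fe₂ : D.f D.e₂ A.c₁ = 1 := by rw [D.f_symm, A.f12]
theorem fe₁' : D.f D.e₁ A.c₂ = 1 := by rw [D.f_symm, A.f21]
theorem fe₂' : D.f D.e₂ A.c₂ = 0 := by rw [D.f_symm, A.f22]
theorem fc' : D.f A.c₂ A.c₁ = 0 := by rw [D.f_symm, A.fc]

/-- the projection onto `U = e^⊥ ∩ e'^⊥` -/
def pr : M →ₗ[F] M :=
  LinearMap.id + (D.f.flip A.c₂).smulRight D.e₁ + (D.f.flip A.c₁).smulRight D.e₂ +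
    (D.f.flip D.e₂).smulRight A.c₁ + (D.f.flip D.e₁).smulRight A.c₂

theorem pr_apply (m : M) : A.pr m = m + D.f m A.c₂ • D.e₁ + D.f m A.c₁ • D.e₂ + D.f m D.e₂ • A.c₁ +
    D.f m D.e₁ • A.c₂ := rfl

/-- membership in `U` -/
def InU (m : M) : Prop := D.f m D.e₁ = 0 ∧ D.f m D.e₂ = 0 ∧ D.f m A.c₁ = 0 ∧ D.f m A.c₂ = 0

theorem inU_pr (m : M) : A.InU (A.pr m) := by
  refine ⟨?_, ?_, ?_, ?_⟩ <;>
  · rw [A.pr_apply]
    simp only [D.f_add_left, D.f_smul_left, D.f_self, D.e_perp, D.e_perp', A.f11, A.f12, A.f21, A.f22,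
      A.fe₁, A.fe₂, A.fe₁', A.fe₂', A.fc, A.fc', mul_zero, mul_one, add_zero, D.dbl]

theorem InU.inP {m : M} (h : A.InU m) : D.InP m :=
  ⟨by rw [D.f_symm]; exact h.1, by rw [D.f_symm]; exact h.2.1⟩

theorem InU.pr_eq {m : M} (h : A.InU m) : A.pr m = m := by
  rw [A.pr_apply, h.1, h.2.1, h.2.2.1, h.2.2.2]
  simp

theorem eq_add (m : M) : m = D.f m A.c₂ • D.e₁ + D.f m D.e₁ • A.c₂ + (D.f m A.c₁ • D.e₂ +
    D.f m D.e₂ • A.c₁) + A.pr m := by
  rw [A.pr_apply]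
  linear_combination (norm := module) -(D.f m A.c₂) • D.two • D.e₁ - (D.f m D.e₁) • D.two • A.c₂ -
    (D.f m A.c₁) • D.two • D.e₂ - (D.f m D.e₂) • D.two • A.c₁

theorem s_eq (m : M) : D.s m = D.f m A.c₂ * D.f m D.e₁ + D.f m A.c₁ * D.f m D.e₂ +
    D.b (D.y₁ (A.pr m)) (D.y₂ (A.pr m)) := by
  have hU := A.inU_pr m
  have hP := InU.inP A hU
  conv_lhs => rw [A.eq_add m]
  set u := A.pr m
  rw [D.s_add, D.s_add, D.s_add, D.s_add, D.s_smul, D.s_smul, D.s_smul, D.s_smul, D.s₁, D.s₂, A.t₁, A.t₂,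
    D.sy u hP.1 hP.2]
  simp only [map_add, map_smul, LinearMap.add_apply, LinearMap.smul_apply, smul_eq_mul, D.f_self, D.e_perp,
    D.e_perp', A.f11, A.f12, A.f21, A.f22, A.fe₁, A.fe₂, A.fe₁', A.fe₂', A.fc, A.fc', D.f_symm D.e₁ u,
    D.f_symm D.e₂ u, D.f_symm A.c₁ u, D.f_symm A.c₂ u, hU.1, hU.2.1, hU.2.2.1, hU.2.2.2]
  ring

theorem U_eq_zero {u : M} (h : A.InU u) (h1 : D.y₁ u = 0) (h2 : D.y₂ u = 0) : u = 0 := by
  have hP := InU.inP A h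
  obtain ⟨a, c, hu⟩ := D.y_ker u hP.1 hP.2 h1 h2
  have e1 := h.2.2.1
  have e2 := h.2.2.2
  rw [hu, D.f_add_left, D.f_smul_left, D.f_smul_left, A.fe₁, A.fe₂] at e1
  rw [hu, D.f_add_left, D.f_smul_left, D.f_smul_left, A.fe₁', A.fe₂'] at e2
  have hc : c = 0 := by linear_combination e1
  have ha : a = 0 := by linear_combination e2
  rw [hu, ha, hc]
  simp

theorem lift (x₁ : Φ₁) (x₂ : Φ₂) : ∃ u, A.InU u ∧ D.y₁ u = x₁ ∧ D.y₂ u = x₂ := by
  obtain ⟨m, h1, h2, h3, h4⟩ := D.y_surj x₁ x₂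
  refine ⟨A.pr m, A.inU_pr m, ?_, ?_⟩
  · rw [A.pr_apply, D.f_symm m D.e₁, D.f_symm m D.e₂, h1, h2]
    simp [D.y_e₁.1, D.y_e₂.1, h3]
  · rw [A.pr_apply, D.f_symm m D.e₁, D.f_symm m D.e₂, h1, h2]
    simp [D.y_e₁.2, D.y_e₂.2, h4]

/-- **`M₁`** -/
def M₁ : Submodule F M :=
  LinearMap.ker (D.f.flip A.c₁) ⊓ LinearMap.ker (D.f.flip D.e₁) ⊓ LinearMap.ker (D.y₂ ∘ₗ A.pr)

theorem mem_M₁ {m : M} : m ∈ A.M₁ ↔ D.f m A.c₁ = 0 ∧ D.f m D.e₁ = 0 ∧ D.y₂ (A.pr m) = 0 := by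
  rw [M₁, Submodule.mem_inf, Submodule.mem_inf, LinearMap.mem_ker, LinearMap.mem_ker, LinearMap.mem_ker,
    and_assoc]
  rfl

/-- **`M₂`** -/
def M₂ : Submodule F M := A.swap.M₁

theorem pr_swap (m : M) : A.swap.pr m = A.pr m := by
  rw [A.swap.pr_apply, A.pr_apply]
  simp only [Spl.swap, Fr.swap]
  abel

theorem mem_M₂ {m : M} : m ∈ A.M₂ ↔ D.f m A.c₂ = 0 ∧ D.f m D.e₂ = 0 ∧ D.y₁ (A.pr m) = 0 := by
  rw [M₂, A.swap.mem_M₁, A.pr_swap]
  rfl

theorem M₂_swap : A.swap.M₂ = A.M₁ := by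
  ext m
  rw [A.swap.mem_M₂, A.pr_swap, A.mem_M₁]
  rfl

theorem s_M₁ {m : M} (hm : m ∈ A.M₁) : D.s m = 0 := by
  have h := A.mem_M₁.1 hm
  rw [A.s_eq m, h.1, h.2.1, h.2.2, map_zero]
  ring

theorem s_M₂ {m : M} (hm : m ∈ A.M₂) : D.s m = 0 := A.swap.s_M₁ hm

theorem f_M₁ {m n : M} (hm : m ∈ A.M₁) (hn : n ∈ A.M₁) : D.f m n = 0 := by
  have h := D.s_add m n
  rw [A.s_M₁ (add_mem hm hn), A.s_M₁ hm, A.s_M₁ hn] at h
  linear_combination -h

theorem f_M₂ {m n : M} (hm : m ∈ A.M₂) (hn : n ∈ A.M₂) : D.f m n = 0 := A.swap.f_M₁ hm hn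

theorem e₁_mem : D.e₁ ∈ A.M₁ := by
  rw [A.mem_M₁]
  refine ⟨A.fe₁, D.f_self _, ?_⟩
  rw [A.pr_apply, D.f_self, A.fe₁, A.fe₁', D.e_perp]
  simp [D.y_e₁.2]

theorem c₁_mem : A.c₁ ∈ A.M₁ := by
  rw [A.mem_M₁]
  refine ⟨D.f_self _, A.f11, ?_⟩
  rw [A.pr_apply, D.f_self, A.f11, A.fc, A.f12]
  simp [D.dblM]

theorem e₂_mem : D.e₂ ∈ A.M₂ := A.swap.e₁_mem

theorem c₂_mem : A.c₂ ∈ A.M₂ := A.swap.c₁_mem

theorem inU_mem_M₁ {u : M} (h : A.InU u) (h2 : D.y₂ u = 0) : u ∈ A.M₁ := by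
  rw [A.mem_M₁, InU.pr_eq A h]
  exact ⟨h.2.2.1, h.1, h2⟩

theorem InU.swap {u : M} (h : A.InU u) : A.swap.InU u := ⟨h.2.1, h.1, h.2.2.2, h.2.2.1⟩

theorem inU_mem_M₂ {u : M} (h : A.InU u) (h1 : D.y₁ u = 0) : u ∈ A.M₂ :=
  A.swap.inU_mem_M₁ (InU.swap A h) h1

theorem M₁_eq {m : M} (hm : m ∈ A.M₁) : m = D.f m A.c₂ • D.e₁ + D.f m D.e₂ • A.c₁ + A.pr m := by
  have h := A.mem_M₁.1 hm
  conv_lhs => rw [A.eq_add m, h.1, h.2.1]
  simp

theorem isCompl : IsCompl A.M₁ A.M₂ := by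
  constructor
  · rw [Submodule.disjoint_def]
    intro m h1 h2
    have a1 := A.mem_M₁.1 h1
    have a2 := A.mem_M₂.1 h2
    have hU : A.InU m := ⟨a1.2.1, a2.2.1, a1.1, a2.1⟩
    have hp := InU.pr_eq A hU
    rw [hp] at a1 a2
    exact A.U_eq_zero hU a2.2.2 a1.2.2
  · rw [codisjoint_iff, eq_top_iff]
    intro m _
    obtain ⟨u, hu, h1, h2⟩ := A.lift (D.y₁ (A.pr m)) 0
    have hU := A.inU_pr m
    have hv : A.InU (A.pr m + u) := by
      refine ⟨?_, ?_, ?_, ?_⟩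
      · rw [D.f_add_left, hU.1, hu.1, add_zero]
      · rw [D.f_add_left, hU.2.1, hu.2.1, add_zero]
      · rw [D.f_add_left, hU.2.2.1, hu.2.2.1, add_zero]
      · rw [D.f_add_left, hU.2.2.2, hu.2.2.2, add_zero]
    have hv1 : D.y₁ (A.pr m + u) = 0 := by
      rw [map_add, h1, ← two_smul F, D.two, zero_smul]
    have e : m = (D.f m A.c₂ • D.e₁ + D.f m D.e₂ • A.c₁ + u) +
        (D.f m A.c₁ • D.e₂ + D.f m D.e₁ • A.c₂ + (A.pr m + u)) := by
      conv_lhs => rw [A.eq_add m]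
      linear_combination (norm := module) -D.two • u
    rw [e]
    refine Submodule.add_mem_sup ?_ ?_
    · exact add_mem (add_mem (Submodule.smul_mem _ _ A.e₁_mem) (Submodule.smul_mem _ _ A.c₁_mem))
        (A.inU_mem_M₁ hu h2)
    · exact add_mem (add_mem (Submodule.smul_mem _ _ A.e₂_mem) (Submodule.smul_mem _ _ A.c₂_mem))
        (A.inU_mem_M₂ hv hv1)

/-- `M₁` and `M₂` are dual to each other. -/
theorem dual₁ {m : M} (hm : m ∈ A.M₁) (h : ∀ φ ∈ A.M₂, D.f m φ = 0) : m = 0 := by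
  refine D.nondeg m fun m' => ?_
  have h1 : m' ∈ A.M₁ ⊔ A.M₂ := by rw [A.isCompl.sup_eq_top]; trivial
  obtain ⟨x, hx, y, hy, rfl⟩ := Submodule.mem_sup.1 h1
  rw [map_add, A.f_M₁ hm hx, h y hy, add_zero]

theorem dual₂ {m : M} (hm : m ∈ A.M₂) (h : ∀ φ ∈ A.M₁, D.f m φ = 0) : m = 0 := by
  refine A.swap.dual₁ hm ?_
  rw [A.M₂_swap]
  exact h

/-! ### `J` and the root groups preserve `M₁` -/

theorem fy_U {u v : M} (hu : A.InU u) (hv : A.InU v) :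
    D.f u v = D.b (D.y₁ u) (D.y₂ v) + D.b (D.y₁ v) (D.y₂ u) := D.fy (InU.inP A hu) (InU.inP A hv)

/-- `f m u = f (pr m) u` for `u ∈ U` -/
theorem f_pr {m u : M} (hu : A.InU u) : D.f (A.pr m) u = D.f m u := by
  rw [A.pr_apply]
  simp only [D.f_add_left, D.f_smul_left, D.f_symm D.e₁ u, D.f_symm D.e₂ u, D.f_symm A.c₁ u,
    D.f_symm A.c₂ u, hu.1, hu.2.1, hu.2.2.1, hu.2.2.2, mul_zero, add_zero]

theorem J_c₁ {j : M ≃ₗ[F] M} (hj : j ∈ D.J) : j A.c₁ ∈ A.M₁ ∧ D.y₁ (A.pr (j A.c₁)) = D.χ₁ j ∧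
    D.f (j A.c₁) D.e₂ = 1 := by
  have hjH := D.J_le hj
  have h1 : D.f (j A.c₁) D.e₁ = 0 := by
    conv_lhs => rw [← D.j_e₁ hj]
    rw [D.isomf hjH, A.f11]
  have h2 : D.f (j A.c₁) D.e₂ = 1 := by
    conv_lhs => rw [← D.j_e₂ hj]
    rw [D.isomf hjH, A.f12]
  have hU := A.inU_pr (j A.c₁)
  have h3 : D.y₂ (A.pr (j A.c₁)) = 0 := by
    refine D.b_right _ fun x => ?_
    obtain ⟨u, hu, hu1, hu2⟩ := A.lift x 0
    have hP := InU.inP A hu
    have h4 := D.isomf hjH A.c₁ u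
    rw [D.f_symm A.c₁ u, hu.2.2.1, D.JP j hj u hP.1 hP.2, hu1, hu2, map_zero, zero_smul, add_zero, map_add,
      map_smul, h1, smul_zero, add_zero, ← A.f_pr hu, A.fy_U hU hu, hu1, hu2, map_zero, zero_add] at h4
    exact h4
  have h5 : D.y₁ (A.pr (j A.c₁)) = D.χ₁ j := by
    rw [← sub_eq_zero]
    refine D.b_left _ fun y => ?_
    obtain ⟨u, hu, hu1, hu2⟩ := A.lift 0 y
    have hP := InU.inP A hu
    have h4 := D.isomf hjH A.c₁ u
    rw [D.f_symm A.c₁ u, hu.2.2.1, D.JP j hj u hP.1 hP.2, hu1, hu2, map_zero, LinearMap.zero_apply,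
      zero_smul, add_zero, map_add, map_smul, h2, ← A.f_pr hu, A.fy_U hU hu, hu1, hu2, map_zero,
      LinearMap.zero_apply, add_zero, smul_eq_mul, mul_one] at h4
    rw [map_sub, LinearMap.sub_apply, sub_eq_add_neg, D.neg_eq, h4]
  refine ⟨?_, h5, h2⟩
  rw [A.mem_M₁]
  refine ⟨?_, h1, h3⟩
  have h6 := A.s_eq (j A.c₁)
  rw [D.isom j hjH, A.t₁, h1, h2, h3, map_zero] at h6
  linear_combination -h6

theorem J_c₂ {j : M ≃ₗ[F] M} (hj : j ∈ D.J) : j A.c₂ ∈ A.M₂ ∧ D.y₂ (A.pr (j A.c₂)) = D.χ₂ j ∧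
    D.f (j A.c₂) D.e₁ = 1 := by
  have h := A.swap.J_c₁ (j := j) hj
  rw [A.pr_swap] at h
  exact h

theorem J_M₁ {j : M ≃ₗ[F] M} (hj : j ∈ D.J) {m : M} (hm : m ∈ A.M₁) : j m ∈ A.M₁ := by
  have hU := A.inU_pr m
  have hP := InU.inP A hU
  rw [A.M₁_eq hm, map_add, map_add, map_smul, map_smul, D.j_e₁ hj, D.JP j hj _ hP.1 hP.2,
    (A.mem_M₁.1 hm).2.2, map_zero, zero_smul, add_zero]
  refine add_mem (add_mem (Submodule.smul_mem _ _ A.e₁_mem) (Submodule.smul_mem _ _ (A.J_c₁ hj).1)) ?_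
  exact add_mem (A.inU_mem_M₁ hU (A.mem_M₁.1 hm).2.2) (Submodule.smul_mem _ _ A.e₁_mem)

theorem J_M₂ {j : M ≃ₗ[F] M} (hj : j ∈ D.J) {m : M} (hm : m ∈ A.M₂) : j m ∈ A.M₂ :=
  A.swap.J_M₁ (j := j) hj hm

theorem isCompl_map {g : M ≃ₗ[F] M} (h1 : ∀ m ∈ A.M₁, g m ∈ A.M₁) (h2 : ∀ m ∈ A.M₂, g m ∈ A.M₂) :
    ∀ m, g m ∈ A.M₁ → m ∈ A.M₁ := by
  intro m hm
  have h3 : m ∈ A.M₁ ⊔ A.M₂ := by rw [A.isCompl.sup_eq_top]; trivial
  obtain ⟨x, hx, y, hy, rfl⟩ := Submodule.mem_sup.1 h3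
  have h4 : g y ∈ A.M₁ := by
    have := sub_mem hm (h1 x hx)
    rwa [map_add, add_sub_cancel_left] at this
  have h5 : g y = 0 := (Submodule.disjoint_def.1 A.isCompl.disjoint) _ h4 (h2 y hy)
  have h6 : y = 0 := by simpa using h5
  rw [h6, add_zero]
  exact hx

/-- The subgroup of `H` preserving `M₁` and `M₂`. -/
def H0 : Subgroup (M ≃ₗ[F] M) where
  carrier := {g | g ∈ D.H ∧ (∀ m ∈ A.M₁, g m ∈ A.M₁) ∧ ∀ m ∈ A.M₂, g m ∈ A.M₂}
  mul_mem' := by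
    rintro g h ⟨g1, g2, g3⟩ ⟨h1, h2, h3⟩
    exact ⟨D.H.mul_mem g1 h1, fun m hm => g2 _ (h2 m hm), fun m hm => g3 _ (h3 m hm)⟩
  one_mem' := ⟨D.H.one_mem, fun _ h => h, fun _ h => h⟩
  inv_mem' := by
    rintro g ⟨g1, g2, g3⟩
    refine ⟨D.H.inv_mem g1, fun m hm => ?_, fun m hm => ?_⟩
    · apply A.isCompl_map g2 g3
      rwa [show g (g⁻¹ m) = m from g.apply_symm_apply m]
    · have := A.swap.isCompl_map (g := g) g3 (by rw [A.M₂_swap]; exact g2) (g⁻¹ m)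
      apply this
      rw [show g (g⁻¹ m) = m from g.apply_symm_apply m]
      exact hm

theorem mem_H0 {g : M ≃ₗ[F] M} : g ∈ A.H0 ↔ g ∈ D.H ∧ (∀ m ∈ A.M₁, g m ∈ A.M₁) ∧
    ∀ m ∈ A.M₂, g m ∈ A.M₂ := Iff.rfl

theorem J_le_H0 : D.J ≤ A.H0 := fun _ hj => ⟨D.J_le hj, fun _ => A.J_M₁ hj, fun _ => A.J_M₂ hj⟩

theorem H0_swap : A.swap.H0 = A.H0 := by
  ext g
  rw [A.mem_H0, A.swap.mem_H0, A.M₂_swap]
  exact ⟨fun h => ⟨h.1, h.2.2, h.2.1⟩, fun h => ⟨h.1, h.2.2, h.2.1⟩⟩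

/-- the root elements of `e'` are in `H0`. -/
theorem root0 (a : F) : ∃ h ∈ A.H0, ∀ m, h m = m + a • (D.f m A.c₁ • A.c₂ + D.f m A.c₂ • A.c₁) := by
  obtain ⟨h, hh, hm⟩ := A.root a
  refine ⟨h, ⟨hh, fun m h1 => ?_, fun m h1 => ?_⟩, hm⟩
  · rw [hm, (A.mem_M₁.1 h1).1, zero_smul, zero_add]
    exact add_mem h1 (Submodule.smul_mem _ _ (Submodule.smul_mem _ _ A.c₁_mem))
  · rw [hm, (A.mem_M₂.1 h1).1, zero_smul, add_zero]
    exact add_mem h1 (Submodule.smul_mem _ _ (Submodule.smul_mem _ _ A.c₂_mem))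

/-- **The element `σ`** interchanging `eᵢ` and `cᵢ`. -/
theorem exists_sigma : ∃ σ ∈ A.H0, σ D.e₁ = A.c₁ ∧ σ D.e₂ = A.c₂ ∧ σ A.c₁ = D.e₁ ∧ σ A.c₂ = D.e₂ := by
  obtain ⟨h, hh, hm⟩ := A.root0 1
  obtain ⟨j, hj, hjm⟩ := D.Jn 1
  have hj' := A.J_le_H0 hj
  refine ⟨j * (h * j), A.H0.mul_mem hj' (A.H0.mul_mem hh hj'), ?_, ?_, ?_, ?_⟩ <;>
  · simp only [LinearEquiv.mul_apply, hm, hjm, map_add, map_smul, LinearMap.add_apply, LinearMap.smul_apply, D.f_self,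
      D.e_perp, D.e_perp', A.f11, A.f12, A.f21, A.f22, A.fe₁, A.fe₂, A.fe₁', A.fe₂', A.fc, A.fc', one_smul,
      zero_smul, add_zero, zero_add, smul_eq_mul, mul_one, mul_zero, D.dblM, D.dbl, smul_zero]
    first
      | linear_combination (norm := module) D.two • D.e₁
      | linear_combination (norm := module) D.two • D.e₂
      | linear_combination (norm := module) D.two • A.c₁
      | linear_combination (norm := module) D.two • A.c₂

end Fr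

end Spl

end Cfsg.Agent.Omega.NOne.SL

end

section


/-!
# THEOREM SL, sections 4, 5: the orbit of `e`
-/

set_option autoImplicit false
set_option linter.unusedSimpArgs false

namespace Cfsg.Agent.Omega.NOne.SL

namespace Spl

variable {F M Φ₁ Φ₂ : Type*} [Field F] [AddCommGroup M] [Module F M] [AddCommGroup Φ₁]
    [Module F Φ₁] [AddCommGroup Φ₂] [Module F Φ₂] {D : Spl F M Φ₁ Φ₂}

theorem avoid_two {K : Submodule F M} {l k : M →ₗ[F] F} (hl : ∃ x ∈ K, l x ≠ 0) (hk : ∃ x ∈ K, k x ≠ 0) :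
    ∃ x ∈ K, l x ≠ 0 ∧ k x ≠ 0 := by
  obtain ⟨x, hx, h1⟩ := hl
  obtain ⟨y, hy, h2⟩ := hk
  by_cases h3 : k x = 0
  · by_cases h4 : l y = 0
    · refine ⟨x + y, add_mem hx hy, ?_, ?_⟩
      · rwa [map_add, h4, add_zero]
      · rwa [map_add, h3, zero_add]
    · exact ⟨y, hy, h4, h2⟩
  · exact ⟨x, hx, h1, h3⟩

namespace Fr

variable (A : D.Fr)

/-- two nonproportional elements of `M₁` are separated by `M₂`. -/
theorem sep₁ {x m : M} (hx : x ∈ A.M₁) (hm : m ∈ A.M₁) (h : ∀ c : F, x ≠ c • m) :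
    ∃ φ ∈ A.M₂, D.f m φ = 0 ∧ D.f x φ ≠ 0 := by
  by_contra hcon
  push Not at hcon
  by_cases hm0 : m = 0
  · apply h 0
    rw [zero_smul]
    refine A.dual₁ hx fun φ hφ => hcon φ hφ ?_
    rw [hm0, map_zero, LinearMap.zero_apply]
  · obtain ⟨φ₁, h1, h2⟩ : ∃ φ ∈ A.M₂, D.f m φ ≠ 0 := by
      by_contra hc
      push Not at hc
      exact hm0 (A.dual₁ hm hc)
    apply h (D.f x φ₁ * (D.f m φ₁)⁻¹)
    rw [← sub_eq_zero]
    refine A.dual₁ (sub_mem hx (Submodule.smul_mem _ _ hm)) fun ψ hψ => ?_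
    have h3 := hcon (ψ - (D.f m ψ * (D.f m φ₁)⁻¹) • φ₁) (sub_mem hψ (Submodule.smul_mem _ _ h1)) (by
      rw [map_sub, map_smul, smul_eq_mul, mul_assoc, inv_mul_cancel₀ h2, mul_one, sub_self])
    rw [map_sub, map_smul, smul_eq_mul] at h3
    rw [map_sub, LinearMap.sub_apply, map_smul, LinearMap.smul_apply, smul_eq_mul]
    linear_combination h3

theorem sep₂ {x m : M} (hx : x ∈ A.M₂) (hm : m ∈ A.M₂) (h : ∀ c : F, x ≠ c • m) :
    ∃ φ ∈ A.M₁, D.f m φ = 0 ∧ D.f x φ ≠ 0 := by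
  have := A.swap.sep₁ hx hm h
  rw [A.M₂_swap] at this
  exact this

/-- **Section 4 (a)**: `J` is transitive on the pairs opposite to `e`. -/
theorem orbit_opp {m φ : M} (hm : m ∈ A.M₁) (hφ : φ ∈ A.M₂) (h0 : D.f m φ = 0) (h1 : D.f m D.e₂ = 1)
    (h2 : D.f φ D.e₁ = 1) : ∃ g ∈ D.J, g A.c₁ = m ∧ g A.c₂ = φ := by
  obtain ⟨j, hj, hj1, hj2⟩ := D.Jall (D.y₁ (A.pr m)) (D.y₂ (A.pr φ))
  obtain ⟨a1, a2, a3⟩ := A.J_c₁ hj
  obtain ⟨b1, b2, b3⟩ := A.J_c₂ hj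
  have hjH := D.J_le hj
  obtain ⟨a, ha⟩ : ∃ a : F, m = j A.c₁ + a • D.e₁ := by
    have hd : m - j A.c₁ ∈ A.M₁ := sub_mem hm a1
    have h3 := A.M₁_eq hd
    have h4 : A.pr (m - j A.c₁) = 0 := by
      refine A.U_eq_zero (A.inU_pr _) ?_ (A.mem_M₁.1 hd).2.2
      rw [map_sub, map_sub, a2, hj1, sub_self]
    have h5 : D.f (m - j A.c₁) D.e₂ = 0 := by
      rw [map_sub, LinearMap.sub_apply, h1, a3, sub_self]
    rw [h4, h5, zero_smul, add_zero, add_zero] at h3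
    exact ⟨_, by rw [← h3]; abel⟩
  obtain ⟨c, hc⟩ : ∃ c : F, φ = j A.c₂ + c • D.e₂ := by
    have hd : φ - j A.c₂ ∈ A.M₂ := sub_mem hφ b1
    have h3 := A.swap.M₁_eq hd
    rw [A.pr_swap] at h3
    have h4 : A.pr (φ - j A.c₂) = 0 := by
      refine A.U_eq_zero (A.inU_pr _) (A.mem_M₂.1 hd).2.2 ?_
      rw [map_sub, map_sub, b2, hj2, sub_self]
    have h5 : D.f (φ - j A.c₂) D.e₁ = 0 := by
      rw [map_sub, LinearMap.sub_apply, h2, b3, sub_self]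
    have h6 : D.swap.f (φ - j A.c₂) D.swap.e₂ = 0 := h5
    rw [h4, h6, zero_smul, add_zero, add_zero] at h3
    exact ⟨_, by rw [sub_eq_iff_eq_add'] at h3; exact h3⟩
  have hac : a = c := by
    have h3 : D.f m φ = D.f (j A.c₁) (j A.c₂) + c * D.f (j A.c₁) D.e₂ + a * D.f D.e₁ (j A.c₂) +
        a * c * D.f D.e₁ D.e₂ := by
      rw [ha, hc]
      simp only [map_add, map_smul, LinearMap.add_apply, LinearMap.smul_apply, smul_eq_mul]
      ring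
    rw [h0, D.isomf hjH, A.fc, a3, D.f_symm D.e₁, b3, D.e_perp] at h3
    linear_combination -h3 - c * D.two
  obtain ⟨x, hx, hxm⟩ := D.Jn a
  refine ⟨j * x, D.J.mul_mem hj hx, ?_, ?_⟩
  · rw [LinearEquiv.mul_apply, hxm, A.f11, A.f12, ha, zero_smul, zero_add, one_smul, map_add, map_smul,
      D.j_e₁ hj]
  · rw [LinearEquiv.mul_apply, hxm, A.f21, A.f22, hc, ← hac, zero_smul, add_zero, one_smul, map_add, map_smul,
      D.j_e₂ hj]

/-- **Section 4 (a)** for `e` itself. -/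
theorem orbit_opp' {m φ : M} (hm : m ∈ A.M₁) (hφ : φ ∈ A.M₂) (h0 : D.f m φ = 0) (h1 : D.f m D.e₂ ≠ 0)
    (h2 : D.f φ D.e₁ ≠ 0) : ∃ g ∈ A.H0, ∃ a c : F, a ≠ 0 ∧ c ≠ 0 ∧ g D.e₁ = a • m ∧ g D.e₂ = c • φ := by
  obtain ⟨g, hg, hg1, hg2⟩ := A.orbit_opp (m := (D.f m D.e₂)⁻¹ • m) (φ := (D.f φ D.e₁)⁻¹ • φ)
    (Submodule.smul_mem _ _ hm) (Submodule.smul_mem _ _ hφ) (by
      simp only [map_smul, LinearMap.smul_apply, smul_eq_mul, h0, mul_zero]) (by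
      simp only [map_smul, LinearMap.smul_apply, smul_eq_mul, inv_mul_cancel₀ h1]) (by
      simp only [map_smul, LinearMap.smul_apply, smul_eq_mul, inv_mul_cancel₀ h2])
  obtain ⟨σ, hσ, s1, s2, -, -⟩ := A.exists_sigma
  refine ⟨g * σ, A.H0.mul_mem (A.J_le_H0 hg) hσ, _, _, inv_ne_zero h1, inv_ne_zero h2, ?_, ?_⟩
  · rw [LinearEquiv.mul_apply, s1, hg1]
  · rw [LinearEquiv.mul_apply, s2, hg2]

/-- **Section 4**: `H0` is transitive on the pairs `(⟨m⟩, ⟨φ⟩)` with `f m φ = 0`. -/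
theorem orbit {m φ : M} (hm : m ∈ A.M₁) (hφ : φ ∈ A.M₂) (hm0 : m ≠ 0) (hφ0 : φ ≠ 0) (h0 : D.f m φ = 0) :
    ∃ g ∈ A.H0, ∃ a c : F, a ≠ 0 ∧ c ≠ 0 ∧ g D.e₁ = a • m ∧ g D.e₂ = c • φ := by
  obtain ⟨m', hm', k1, k2⟩ : ∃ m' ∈ A.M₁, D.f φ m' ≠ 0 ∧ D.f D.e₂ m' ≠ 0 := by
    refine avoid_two ?_ ?_
    · by_contra hc
      push Not at hc
      exact hφ0 (A.dual₂ hφ hc)
    · by_contra hc
      push Not at hc
      exact D.e₂_ne (A.dual₂ A.e₂_mem hc)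
  have k3 : D.f m' φ ≠ 0 := by rwa [D.f_symm]
  have k4 : D.f m' D.e₂ ≠ 0 := by rwa [D.f_symm]
  obtain ⟨φ', hφ', l1, l2⟩ : ∃ φ' ∈ A.M₂ ⊓ LinearMap.ker (D.f m'), D.f m φ' ≠ 0 ∧ D.f D.e₁ φ' ≠ 0 := by
    refine avoid_two ?_ ?_
    · obtain ⟨ψ, h1, h2, h3⟩ := A.sep₁ hm hm' (fun c hc => by
        have h4 : c * D.f m' φ = 0 := by rw [← smul_eq_mul, ← LinearMap.smul_apply, ← map_smul, ← hc, h0]
        have h5 : c = 0 := (mul_eq_zero.1 h4).resolve_right k3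
        exact hm0 (by rw [hc, h5, zero_smul]))
      exact ⟨ψ, ⟨h1, h2⟩, h3⟩
    · obtain ⟨ψ, h1, h2, h3⟩ := A.sep₁ A.e₁_mem hm' (fun c hc => by
        have h4 : c * D.f m' D.e₂ = 0 := by
          rw [← smul_eq_mul, ← LinearMap.smul_apply, ← map_smul, ← hc, D.e_perp]
        have h5 : c = 0 := (mul_eq_zero.1 h4).resolve_right k4
        exact D.e₁_ne (by rw [hc, h5, zero_smul]))
      exact ⟨ψ, ⟨h1, h2⟩, h3⟩
  obtain ⟨g, hg, a, c, ha, hc, hg1, hg2⟩ := A.orbit_opp' hm' hφ'.1 hφ'.2 k4 (by rwa [D.f_symm])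
  have hgi := A.H0.inv_mem hg
  have hinv : ∀ v, g (g⁻¹ v) = v := fun v => g.apply_symm_apply v
  obtain ⟨g', hg', a', c', ha', hc', h1, h2⟩ := A.orbit_opp' (m := g⁻¹ m) (φ := g⁻¹ φ)
    (hgi.2.1 m hm) (hgi.2.2 φ hφ) (by rw [D.isomf hgi.1, h0]) (by
      rw [← D.isomf hg.1, hinv, hg2, map_smul, smul_eq_mul]
      exact mul_ne_zero hc l1) (by
      rw [← D.isomf hg.1, hinv, hg1, map_smul, smul_eq_mul]
      exact mul_ne_zero ha k1)
  refine ⟨g * g', A.H0.mul_mem hg hg', a', c', ha', hc', ?_, ?_⟩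
  · rw [LinearEquiv.mul_apply, h1, map_smul, hinv]
  · rw [LinearEquiv.mul_apply, h2, map_smul, hinv]

end Fr

/-! ### Positions relative to an arbitrary conjugate -/

theorem p1' {k g : M ≃ₗ[F] M} (hk : k ∈ D.H) (hg : g ∈ D.H) {p u v : M} (hp0 : p ≠ 0)
    (hp1 : p ∈ D.E k) (hp : p ∈ D.E g) (hu : u ∈ D.E g) (hv : v ∈ D.E k) : D.f u v = 0 := by
  have hki := D.H.inv_mem hk
  have h1 : k⁻¹ p ∈ D.E 1 := by
    have := D.map_mem_E (w := k⁻¹) hp1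
    rwa [inv_mul_cancel] at this
  have h2 : k⁻¹ v ∈ D.E 1 := by
    have := D.map_mem_E (w := k⁻¹) hv
    rwa [inv_mul_cancel] at this
  have h3 := D.p1 (D.H.mul_mem hki hg) (p := k⁻¹ p) (u := k⁻¹ u) (by simpa using hp0) h1
    (D.map_mem_E hp) (D.map_mem_E hu)
  rw [← D.isomf hki]
  exact D.perp_e h3 h2

theorem p2' {k g : M ≃ₗ[F] M} (hk : k ∈ D.H) (hg : g ∈ D.H) {p u : M} (hp0 : p ≠ 0)
    (hp1 : p ∈ D.E k) (hp : p ∈ D.E g) (hu : u ∈ D.E g) (hu1 : u ∉ D.E k) :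
    (∃ a : F, p = a • k D.e₁) ∨ ∃ a : F, p = a • k D.e₂ := by
  have hki := D.H.inv_mem hk
  have h1 : k⁻¹ p ∈ D.E 1 := by
    have := D.map_mem_E (w := k⁻¹) hp1
    rwa [inv_mul_cancel] at this
  have hinv : ∀ v, k (k⁻¹ v) = v := fun v => k.apply_symm_apply v
  rcases D.p2 (D.H.mul_mem hki hg) (p := k⁻¹ p) (u := k⁻¹ u) (by simpa using hp0) h1
    (D.map_mem_E hp) (D.map_mem_E hu) (fun h => hu1 (by
      have := D.map_mem_E (w := k) h
      rwa [mul_one, hinv] at this)) with ⟨a, ha, -⟩ | ⟨a, ha, -⟩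
  · left
    exact ⟨a, by rw [← map_smul, ← ha, hinv]⟩
  · right
    exact ⟨a, by rw [← map_smul, ← ha, hinv]⟩

theorem E_le_iff {g : M ≃ₗ[F] M} {N : Submodule F M} : D.E g ≤ N ↔ g D.e₁ ∈ N ∧ g D.e₂ ∈ N := by
  rw [E, Submodule.span_le, Set.insert_subset_iff, Set.singleton_subset_iff]
  rfl

theorem left_mem_E (g : M ≃ₗ[F] M) : g D.e₁ ∈ D.E g := D.mem_E.2 ⟨1, 0, by simp⟩

theorem right_mem_E (g : M ≃ₗ[F] M) : g D.e₂ ∈ D.E g := D.mem_E.2 ⟨0, 1, by simp⟩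

/-- two conjugates with `g e ≤ k e` are equal. -/
theorem E_eq_of_le {k g : M ≃ₗ[F] M} (h : D.E g ≤ D.E k) : D.E g = D.E k := by
  refine le_antisymm h ?_
  obtain ⟨α, β, h1⟩ := D.mem_E.1 (E_le_iff.1 h).1
  obtain ⟨γ, δ, h2⟩ := D.mem_E.1 (E_le_iff.1 h).2
  set x := k D.e₁ with hx
  set y := k D.e₂ with hy
  have hd : α * δ - β * γ ≠ 0 := by
    intro hd
    have e1 : δ • g D.e₁ + (-β) • g D.e₂ = 0 := by
      rw [h1, h2]
      linear_combination (norm := module) hd • x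
    have e2 : (-γ) • g D.e₁ + α • g D.e₂ = 0 := by
      rw [h1, h2]
      linear_combination (norm := module) hd • y
    have f1 := D.ind e1
    have f2 := D.ind e2
    have hα : α = 0 := f2.2
    have hβ : β = 0 := neg_eq_zero.1 f1.2
    have h3 : g D.e₁ = 0 := by rw [h1, hα, hβ]; simp
    exact D.e₁_ne (by simpa using h3)
  rw [E_le_iff]
  refine ⟨?_, ?_⟩
  · have e1 : x = (α * δ - β * γ)⁻¹ • (δ • g D.e₁ + (-β) • g D.e₂) := by
      rw [eq_inv_smul_iff₀ hd, h1, h2]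
      module
    rw [← hx, e1]
    exact Submodule.smul_mem _ _ (add_mem (Submodule.smul_mem _ _ (left_mem_E g))
      (Submodule.smul_mem _ _ (right_mem_E g)))
  · have e1 : y = (α * δ - β * γ)⁻¹ • ((-γ) • g D.e₁ + α • g D.e₂) := by
      rw [eq_inv_smul_iff₀ hd, h1, h2]
      module
    rw [← hy, e1]
    exact Submodule.smul_mem _ _ (add_mem (Submodule.smul_mem _ _ (left_mem_E g))
      (Submodule.smul_mem _ _ (right_mem_E g)))

namespace Fr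

variable (A : D.Fr)

theorem not_le_M₁ {g : M ≃ₗ[F] M} (hg : g ∈ D.H) : ¬ D.E g ≤ A.M₁ := by
  intro h
  have hx := (E_le_iff.1 h).1
  have hy := (E_le_iff.1 h).2
  have hx0 : g D.e₁ ≠ 0 := by simpa using D.e₁_ne
  obtain ⟨φ, hφ, h1, h2⟩ := A.sep₁ hy hx (fun c hc => by
    have h3 := D.ind (g := g) (a := c) (c := -1) (by rw [← hc]; module)
    have h4 := h3.2
    rw [neg_eq_zero] at h4
    exact one_ne_zero h4)
  have hφ0 : φ ≠ 0 := by
    rintro rfl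
    exact h2 (map_zero _)
  obtain ⟨k, hk, a, c, ha, hc, k1, k2⟩ := A.orbit hx hφ hx0 hφ0 h1
  apply h2
  refine p1' hk.1 hg hx0 ?_ (left_mem_E g) (right_mem_E g) ?_
  · rw [← inv_smul_smul₀ ha (g D.e₁), ← k1]
    exact Submodule.smul_mem _ _ (left_mem_E k)
  · rw [← inv_smul_smul₀ hc φ, ← k2]
    exact Submodule.smul_mem _ _ (right_mem_E k)

theorem not_le_M₂ {g : M ≃ₗ[F] M} (hg : g ∈ D.H) : ¬ D.E g ≤ A.M₂ := by
  have := A.swap.not_le_M₁ (g := g) hg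
  rwa [E_swap] at this

/-- **Section 5**: every conjugate of `e` is an incident pair. -/
theorem conj {g : M ≃ₗ[F] M} (hg : g ∈ D.H) : ∃ k ∈ A.H0, D.E g = D.E k := by
  by_cases hc : ∃ x ∈ D.E g, ∃ x₁ ∈ A.M₁, ∃ x₂ ∈ A.M₂, x₁ ≠ 0 ∧ x₂ ≠ 0 ∧ x = x₁ + x₂
  · obtain ⟨x, hx, x₁, h1, x₂, h2, h3, h4, rfl⟩ := hc
    have h5 : D.f x₁ x₂ = 0 := by
      have := D.E_sing hg hx
      rw [D.s_add, A.s_M₁ h1, A.s_M₂ h2, zero_add, zero_add] at this
      exact this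
    obtain ⟨k, hk, a, c, ha, hc, k1, k2⟩ := A.orbit h1 h2 h3 h4 h5
    refine ⟨k, hk, E_eq_of_le ?_⟩
    intro u hu
    by_contra hu1
    have h6 : x₁ + x₂ ∈ D.E k := by
      refine add_mem ?_ ?_
      · rw [← inv_smul_smul₀ ha x₁, ← k1]
        exact Submodule.smul_mem _ _ (left_mem_E k)
      · rw [← inv_smul_smul₀ hc x₂, ← k2]
        exact Submodule.smul_mem _ _ (right_mem_E k)
    have h7 : x₁ + x₂ ≠ 0 := by
      intro h
      apply h3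
      refine (Submodule.disjoint_def.1 A.isCompl.disjoint) _ h1 ?_
      rw [eq_neg_of_add_eq_zero_left h]
      exact neg_mem h2
    rcases p2' hk.1 hg h7 h6 hx hu hu1 with ⟨b, hb⟩ | ⟨b, hb⟩
    · apply h4
      refine (Submodule.disjoint_def.1 A.isCompl.disjoint) _ ?_ h2
      have : x₂ = b • k D.e₁ - x₁ := by rw [← hb]; abel
      rw [this, k1]
      exact sub_mem (Submodule.smul_mem _ _ (Submodule.smul_mem _ _ h1)) h1
    · apply h3
      refine (Submodule.disjoint_def.1 A.isCompl.disjoint) _ h1 ?_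
      have : x₁ = b • k D.e₂ - x₂ := by rw [← hb]; abel
      rw [this, k2]
      exact sub_mem (Submodule.smul_mem _ _ (Submodule.smul_mem _ _ h2)) h2
  · exfalso
    push Not at hc
    have key : ∀ x ∈ D.E g, x ∈ A.M₁ ∨ x ∈ A.M₂ := by
      intro x hx
      have h1 : x ∈ A.M₁ ⊔ A.M₂ := by rw [A.isCompl.sup_eq_top]; trivial
      obtain ⟨x₁, h2, x₂, h3, h4⟩ := Submodule.mem_sup.1 h1
      by_cases h5 : x₁ = 0
      · right
        rw [← h4, h5, zero_add]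
        exact h3
      · left
        have h6 : x₂ = 0 := by
          by_contra h6
          exact hc x hx x₁ h2 x₂ h3 h5 h6 h4.symm
        rw [← h4, h6, add_zero]
        exact h2
    by_cases h1 : D.E g ≤ A.M₁
    · exact A.not_le_M₁ hg h1
    · refine A.not_le_M₂ hg ?_
      obtain ⟨x, hx, hx1⟩ := Set.not_subset.1 h1
      have hx2 := (key x hx).resolve_left hx1
      intro y hy
      by_contra hy2
      have hy1 := (key y hy).resolve_right hy2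
      rcases key (x + y) (add_mem hx hy) with h | h
      · exact hx1 (by
          have := sub_mem h hy1
          rwa [add_sub_cancel_right] at this)
      · exact hy2 (by
          have := sub_mem h hx2
          rwa [add_sub_cancel_left] at this)

end Fr

end Spl

end Cfsg.Agent.Omega.NOne.SL

end

section


/-!
# THEOREM SL: the output
-/

set_option autoImplicit false
set_option linter.unusedSimpArgs false

namespace Cfsg.Agent.Omega.NOne.SL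

namespace Spl

variable {F M Φ₁ Φ₂ : Type*} [Field F] [AddCommGroup M] [Module F M] [AddCommGroup Φ₁]
    [Module F Φ₁] [AddCommGroup Φ₂] [Module F Φ₂] {D : Spl F M Φ₁ Φ₂}

namespace Fr

variable (A : D.Fr)

/-- every vector of `M₁` belongs to an incident pair -/
theorem exists_inc {m : M} (hm : m ∈ A.M₁) : ∃ φ ∈ A.M₂, φ ≠ 0 ∧ D.f m φ = 0 := by
  have hx : ∃ x ∈ A.M₁, ∀ c : F, x ≠ c • m := by
    by_contra hcon
    push Not at hcon
    obtain ⟨a, ha⟩ := hcon _ A.e₁_mem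
    obtain ⟨c, hc⟩ := hcon _ A.c₁_mem
    have h1 : D.f m D.e₂ = 0 := by
      have h2 := D.e_perp
      rw [ha, map_smul, LinearMap.smul_apply, smul_eq_mul] at h2
      refine (mul_eq_zero.1 h2).resolve_left ?_
      rintro rfl
      exact D.e₁_ne (by rw [ha, zero_smul])
    have h2 := A.f12
    rw [hc, map_smul, LinearMap.smul_apply, h1, smul_zero] at h2
    exact zero_ne_one h2
  obtain ⟨x, hx, h1⟩ := hx
  obtain ⟨φ, hφ, h2, h3⟩ := A.sep₁ hx hm h1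
  refine ⟨φ, hφ, ?_, h2⟩
  rintro rfl
  exact h3 (map_zero _)

theorem point_mem {g : M ≃ₗ[F] M} (hg : g ∈ D.H) {m : M} (hm : m ∈ A.M₁) : g m ∈ A.M₁ ∨ g m ∈ A.M₂ := by
  by_cases hm0 : m = 0
  · left; rw [hm0, map_zero]; exact zero_mem _
  obtain ⟨φ, hφ, hφ0, h1⟩ := A.exists_inc hm
  obtain ⟨k, hk, a, c, ha, hc, k1, k2⟩ := A.orbit hm hφ hm0 hφ0 h1
  obtain ⟨l, hl, hE⟩ := A.conj (D.H.mul_mem hg hk.1)
  have hli := D.H.inv_mem hl.1
  have hst : ∀ v ∈ D.E 1, (l⁻¹ * (g * k)) v ∈ D.E 1 := by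
    intro v hv
    have h2 : (g * k) v ∈ D.E l := by
      rw [← hE]
      have := D.map_mem_E (w := g * k) hv
      rwa [mul_one] at this
    have := D.map_mem_E (w := l⁻¹) h2
    rwa [inv_mul_cancel] at this
  have h1' := D.mem_E_one.1 (hst _ (left_mem_E 1))
  have h2' := D.mem_E_one.1 (hst _ (right_mem_E 1))
  have hinv : ∀ v, l (l⁻¹ v) = v := fun v => l.apply_symm_apply v
  have hgm : g m = a⁻¹ • (g * k) D.e₁ := by
    rw [LinearEquiv.mul_apply, k1, map_smul, inv_smul_smul₀ ha]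
  rcases D.Se _ (D.H.mul_mem hli (D.H.mul_mem hg hk.1)) h1' h2' with ⟨⟨b, hb⟩, -⟩ | ⟨⟨b, hb⟩, -⟩
  · left
    have h3 : (g * k) D.e₁ = b • l D.e₁ := by
      rw [← map_smul, ← hb, LinearEquiv.mul_apply l⁻¹, hinv]
    rw [hgm, h3]
    exact Submodule.smul_mem _ _ (Submodule.smul_mem _ _ (hl.2.1 _ A.e₁_mem))
  · right
    have h3 : (g * k) D.e₁ = b • l D.e₂ := by
      rw [← map_smul, ← hb, LinearEquiv.mul_apply l⁻¹, hinv]
    rw [hgm, h3]
    exact Submodule.smul_mem _ _ (Submodule.smul_mem _ _ (hl.2.2 _ A.e₂_mem))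

theorem map_M₁ {g : M ≃ₗ[F] M} (hg : g ∈ D.H) : (∀ m ∈ A.M₁, g m ∈ A.M₁) ∨ ∀ m ∈ A.M₁, g m ∈ A.M₂ := by
  by_cases h1 : ∀ m ∈ A.M₁, g m ∈ A.M₁
  · exact Or.inl h1
  right
  push Not at h1
  obtain ⟨x, hx, hx1⟩ := h1
  have hx2 := (A.point_mem hg hx).resolve_left hx1
  intro y hy
  by_contra hy2
  have hy1 := (A.point_mem hg hy).resolve_right hy2
  rcases A.point_mem hg (add_mem hx hy) with h | h
  · rw [map_add] at h
    exact hx1 (by
      have := sub_mem h hy1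
      rwa [add_sub_cancel_right] at this)
  · rw [map_add] at h
    exact hy2 (by
      have := sub_mem h hx2
      rwa [add_sub_cancel_left] at this)

theorem map_M₂ {g : M ≃ₗ[F] M} (hg : g ∈ D.H) : (∀ m ∈ A.M₂, g m ∈ A.M₂) ∨ ∀ m ∈ A.M₂, g m ∈ A.M₁ := by
  have := A.swap.map_M₁ (g := g) hg
  rw [A.M₂_swap] at this
  exact this

/-- **`H` permutes `{M₁, M₂}`.** -/
theorem perm {g : M ≃ₗ[F] M} (hg : g ∈ D.H) :
    g ∈ A.H0 ∨ ((∀ m ∈ A.M₁, g m ∈ A.M₂) ∧ ∀ m ∈ A.M₂, g m ∈ A.M₁) := by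
  have hsurj : ∀ v, ∃ x ∈ A.M₁, ∃ y ∈ A.M₂, v = g x + g y := by
    intro v
    have h1 : g⁻¹ v ∈ A.M₁ ⊔ A.M₂ := by rw [A.isCompl.sup_eq_top]; trivial
    obtain ⟨x, hx, y, hy, h⟩ := Submodule.mem_sup.1 h1
    exact ⟨x, hx, y, hy, by rw [← map_add, h]; exact (g.apply_symm_apply v).symm⟩
  rcases A.map_M₁ hg with h1 | h1 <;> rcases A.map_M₂ hg with h2 | h2
  · exact Or.inl ⟨hg, h1, h2⟩
  · exfalso
    obtain ⟨x, hx, y, hy, h⟩ := hsurj D.e₂
    apply D.e₂_ne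
    refine (Submodule.disjoint_def.1 A.isCompl.disjoint) _ ?_ A.e₂_mem
    rw [h]
    exact add_mem (h1 x hx) (h2 y hy)
  · exfalso
    obtain ⟨x, hx, y, hy, h⟩ := hsurj D.e₁
    apply D.e₁_ne
    refine (Submodule.disjoint_def.1 A.isCompl.disjoint) _ A.e₁_mem ?_
    rw [h]
    exact add_mem (h1 x hx) (h2 y hy)
  · exact Or.inr ⟨h1, h2⟩

/-- **The transvections.** -/
theorem trans {m φ : M} (hm : m ∈ A.M₁) (hφ : φ ∈ A.M₂) (h0 : D.f m φ = 0) (a : F) :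
    ∃ h ∈ A.H0, ∀ x, h x = x + a • (D.f x m • φ + D.f x φ • m) := by
  by_cases hm0 : m = 0
  · exact ⟨1, A.H0.one_mem, fun x => by simp [hm0]⟩
  by_cases hφ0 : φ = 0
  · exact ⟨1, A.H0.one_mem, fun x => by simp [hφ0]⟩
  obtain ⟨k, hk, b, c, hb, hc, k1, k2⟩ := A.orbit hm hφ hm0 hφ0 h0
  have h1 : m ∈ D.E k := by
    rw [← inv_smul_smul₀ hb m, ← k1]
    exact Submodule.smul_mem _ _ (left_mem_E k)
  have h2 : φ ∈ D.E k := by
    rw [← inv_smul_smul₀ hc φ, ← k2]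
    exact Submodule.smul_mem _ _ (right_mem_E k)
  obtain ⟨h, hh, hx⟩ := D.root hk.1 h1 h2 a
  refine ⟨h, ⟨hh, fun x hx1 => ?_, fun x hx1 => ?_⟩, hx⟩
  · rw [hx, A.f_M₁ hx1 hm, zero_smul, zero_add]
    exact add_mem hx1 (Submodule.smul_mem _ _ (Submodule.smul_mem _ _ hm))
  · rw [hx, A.f_M₂ hx1 hφ, zero_smul, add_zero]
    exact add_mem hx1 (Submodule.smul_mem _ _ (Submodule.smul_mem _ _ hφ))

/-- **`J` is the full unipotent radical** of the stabiliser of `e` in the group of all isometries preserving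
`M₁` and `M₂`. -/
theorem J_full {g : M ≃ₗ[F] M} (hs : ∀ m, D.s (g m) = D.s m) (h₁ : ∀ m ∈ A.M₁, g m ∈ A.M₁)
    (h₂ : ∀ m ∈ A.M₂, g m ∈ A.M₂) (he₁ : g D.e₁ = D.e₁) (he₂ : g D.e₂ = D.e₂)
    (hP : ∀ m, D.f D.e₁ m = 0 → D.f D.e₂ m = 0 → g m - m ∈ D.E 1) : g ∈ D.J := by
  have hf : ∀ x y, D.f (g x) (g y) = D.f x y := by
    intro x y
    have h := D.s_add (g x) (g y)
    rw [← map_add, hs, hs, hs, D.s_add] at h
    linear_combination -h
  obtain ⟨j, hj, hj1, hj2⟩ := D.Jall (D.y₁ (A.pr (g A.c₁))) (D.y₂ (A.pr (g A.c₂)))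
  have hjH := D.J_le hj
  obtain ⟨a1, a2, a3⟩ := A.J_c₁ hj
  obtain ⟨b1, b2, b3⟩ := A.J_c₂ hj
  have g1 : D.f (g A.c₁) D.e₂ = 1 := by
    conv_lhs => rw [← he₂]
    rw [hf, A.f12]
  have g2 : D.f (g A.c₂) D.e₁ = 1 := by
    conv_lhs => rw [← he₁]
    rw [hf, A.f21]
  have g3 : D.f (g A.c₁) (g A.c₂) = 0 := by rw [hf, A.fc]
  obtain ⟨a, ha⟩ : ∃ a : F, g A.c₁ = j A.c₁ + a • D.e₁ := by
    have hd : g A.c₁ - j A.c₁ ∈ A.M₁ := sub_mem (h₁ _ A.c₁_mem) a1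
    have h3 := A.M₁_eq hd
    have h4 : A.pr (g A.c₁ - j A.c₁) = 0 := by
      refine A.U_eq_zero (A.inU_pr _) ?_ (A.mem_M₁.1 hd).2.2
      rw [map_sub, map_sub, a2, hj1, sub_self]
    have h5 : D.f (g A.c₁ - j A.c₁) D.e₂ = 0 := by
      rw [map_sub, LinearMap.sub_apply, g1, a3, sub_self]
    rw [h4, h5, zero_smul, add_zero, add_zero] at h3
    exact ⟨_, by rw [← h3]; abel⟩
  obtain ⟨c, hc⟩ : ∃ c : F, g A.c₂ = j A.c₂ + c • D.e₂ := by
    have hd : g A.c₂ - j A.c₂ ∈ A.M₂ := sub_mem (h₂ _ A.c₂_mem) b1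
    have h3 := A.swap.M₁_eq hd
    rw [A.pr_swap] at h3
    have h4 : A.pr (g A.c₂ - j A.c₂) = 0 := by
      refine A.U_eq_zero (A.inU_pr _) (A.mem_M₂.1 hd).2.2 ?_
      rw [map_sub, map_sub, b2, hj2, sub_self]
    have h5 : D.f (g A.c₂ - j A.c₂) D.e₁ = 0 := by
      rw [map_sub, LinearMap.sub_apply, g2, b3, sub_self]
    have h6 : D.swap.f (g A.c₂ - j A.c₂) D.swap.e₂ = 0 := h5
    rw [h4, h6, zero_smul, add_zero, add_zero] at h3
    exact ⟨_, by rw [sub_eq_iff_eq_add'] at h3; exact h3⟩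
  have hac : a = c := by
    have h3 : D.f (g A.c₁) (g A.c₂) = D.f (j A.c₁) (j A.c₂) + c * D.f (j A.c₁) D.e₂ +
        a * D.f D.e₁ (j A.c₂) + a * c * D.f D.e₁ D.e₂ := by
      rw [ha, hc]
      simp only [map_add, map_smul, LinearMap.add_apply, LinearMap.smul_apply, smul_eq_mul]
      ring
    rw [g3, D.isomf hjH, A.fc, a3, D.f_symm D.e₁, b3, D.e_perp] at h3
    linear_combination -h3 - c * D.two
  obtain ⟨x, hx, hxm⟩ := D.Jn a
  have hc₁ : g A.c₁ = (j * x) A.c₁ := by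
    rw [LinearEquiv.mul_apply, hxm, A.f11, A.f12, ha, zero_smul, zero_add, one_smul, map_add, map_smul,
      D.j_e₁ hj]
  have hc₂ : g A.c₂ = (j * x) A.c₂ := by
    rw [LinearEquiv.mul_apply, hxm, A.f21, A.f22, hc, ← hac, zero_smul, add_zero, one_smul, map_add, map_smul,
      D.j_e₂ hj]
  -- on `U`
  have hU : ∀ u, A.InU u → g u = (j * x) u := by
    intro u hu
    have hPu := InU.inP A hu
    obtain ⟨p, q, hpq⟩ := D.mem_E_one.1 (hP u hPu.1 hPu.2)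
    have h3 : g u = u + p • D.e₁ + q • D.e₂ := by rw [add_assoc, ← hpq]; abel
    have hq : q = D.b (D.χ₁ j) (D.y₂ u) := by
      have h4 := hf A.c₁ u
      have h5 : D.f (g A.c₁) D.e₁ = 0 := by
        conv_lhs => rw [← he₁]
        rw [hf, A.f11]
      rw [D.f_symm A.c₁ u, hu.2.2.1, h3] at h4
      simp only [map_add, map_smul, smul_eq_mul, g1, h5, mul_zero, add_zero, mul_one] at h4
      rw [← A.f_pr hu, A.fy_U (A.inU_pr _) hu, (A.mem_M₁.1 (h₁ _ A.c₁_mem)).2.2, map_zero, add_zero, ← hj1] at h4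
      linear_combination h4 - D.b (D.χ₁ j) (D.y₂ u) * D.two
    have hp : p = D.b (D.y₁ u) (D.χ₂ j) := by
      have h4 := hf A.c₂ u
      have h5 : D.f (g A.c₂) D.e₂ = 0 := by
        conv_lhs => rw [← he₂]
        rw [hf, A.f22]
      rw [D.f_symm A.c₂ u, hu.2.2.2, h3] at h4
      simp only [map_add, map_smul, smul_eq_mul, g2, h5, mul_zero, add_zero, mul_one] at h4
      rw [← A.f_pr hu, A.fy_U (A.inU_pr _) hu, (A.mem_M₂.1 (h₂ _ A.c₂_mem)).2.2, map_zero,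
        LinearMap.zero_apply, zero_add, ← hj2] at h4
      linear_combination h4 - D.b (D.y₁ u) (D.χ₂ j) * D.two
    rw [LinearEquiv.mul_apply, hxm, hu.1, hu.2.1, zero_smul, zero_smul, add_zero, smul_zero, add_zero,
      D.JP j hj u hPu.1 hPu.2, h3, hp, hq]
  have hgj : g = j * x := by
    ext m
    rw [A.eq_add m]
    have h5 : (j * x) D.e₁ = D.e₁ := D.j_e₁ (D.J.mul_mem hj hx)
    have h6 : (j * x) D.e₂ = D.e₂ := D.j_e₂ (D.J.mul_mem hj hx)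
    simp only [map_add, map_smul, he₁, he₂, hc₁, hc₂, hU _ (A.inU_pr m), h5, h6]
  rw [hgj]
  exact D.J.mul_mem hj hx

end Fr

/-- **The output of THEOREM SL.** -/
structure Out (D : Spl F M Φ₁ Φ₂) (M₁ M₂ : Submodule F M) : Prop where
  isCompl : IsCompl M₁ M₂
  sing₁ : ∀ m ∈ M₁, D.s m = 0
  sing₂ : ∀ m ∈ M₂, D.s m = 0
  e₁_mem : D.e₁ ∈ M₁
  e₂_mem : D.e₂ ∈ M₂
  dual₁ : ∀ m ∈ M₁, (∀ φ ∈ M₂, D.f m φ = 0) → m = 0
  dual₂ : ∀ φ ∈ M₂, (∀ m ∈ M₁, D.f φ m = 0) → φ = 0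
  /-- `H` permutes `{M₁, M₂}` -/
  perm : ∀ g ∈ D.H, ((∀ m ∈ M₁, g m ∈ M₁) ∧ ∀ m ∈ M₂, g m ∈ M₂) ∨
    ((∀ m ∈ M₁, g m ∈ M₂) ∧ ∀ m ∈ M₂, g m ∈ M₁)
  /-- all transvections of `SL(M₁)` are in `H` -/
  trans : ∀ m ∈ M₁, ∀ φ ∈ M₂, D.f m φ = 0 → ∀ a : F, ∃ h ∈ D.H, ∀ x,
    h x = x + a • (D.f x m • φ + D.f x φ • m)
  /-- the conjugates of `e` are the incident pairs -/
  conj : ∀ g ∈ D.H, ∃ m ∈ M₁, ∃ φ ∈ M₂, m ≠ 0 ∧ φ ≠ 0 ∧ D.f m φ = 0 ∧
    D.E g = Submodule.span F {m, φ}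
  /-- the subgroup of `H` preserving `M₁` and `M₂` is transitive on the incident pairs -/
  orbit : ∀ m ∈ M₁, ∀ φ ∈ M₂, m ≠ 0 → φ ≠ 0 → D.f m φ = 0 → ∃ g ∈ D.H,
    ((∀ m ∈ M₁, g m ∈ M₁) ∧ ∀ m ∈ M₂, g m ∈ M₂) ∧
      ∃ a c : F, a ≠ 0 ∧ c ≠ 0 ∧ g D.e₁ = a • m ∧ g D.e₂ = c • φ
  /-- `J` is the full unipotent radical of the stabiliser of `e` -/
  J_full : ∀ g : M ≃ₗ[F] M, (∀ m, D.s (g m) = D.s m) → (∀ m ∈ M₁, g m ∈ M₁) → (∀ m ∈ M₂, g m ∈ M₂) →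
    g D.e₁ = D.e₁ → g D.e₂ = D.e₂ → (∀ m, D.f D.e₁ m = 0 → D.f D.e₂ m = 0 → g m - m ∈ D.E 1) → g ∈ D.J

theorem E_eq_span {k : M ≃ₗ[F] M} : D.E k = Submodule.span F {k D.e₁, k D.e₂} := rfl

variable (D)

/-- **THEOREM SL** (bb #14483): `M = M₁ ⊕ M₂`, both totally singular, `H` permutes `{M₁, M₂}` and contains `SL(M₁)`. -/
theorem main : ∃ M₁ M₂ : Submodule F M, Out D M₁ M₂ := by
  obtain ⟨A⟩ := D.exists_fr
  refine ⟨A.M₁, A.M₂, A.isCompl, fun m => A.s_M₁, fun m => A.s_M₂, A.e₁_mem, A.e₂_mem,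
    fun m => A.dual₁, fun m => A.dual₂, fun g hg => ?_, fun m hm φ hφ h0 a => ?_, fun g hg => ?_,
    fun m hm φ hφ h1 h2 h3 => ?_, fun g hs h1 h2 h3 h4 h5 => A.J_full hs h1 h2 h3 h4 h5⟩
  · rcases A.perm hg with h | h
    · exact Or.inl h.2
    · exact Or.inr h
  · obtain ⟨h, hh, hx⟩ := A.trans hm hφ h0 a
    exact ⟨h, hh.1, hx⟩
  · obtain ⟨k, hk, hE⟩ := A.conj hg
    refine ⟨k D.e₁, hk.2.1 _ A.e₁_mem, k D.e₂, hk.2.2 _ A.e₂_mem, ?_, ?_, ?_, hE⟩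
    · simpa using D.e₁_ne
    · simpa using D.e₂_ne
    · rw [D.isomf hk.1, D.e_perp]
  · obtain ⟨g, hg, a, c, h4⟩ := A.orbit hm hφ h1 h2 h3
    exact ⟨g, hg.1, hg.2, a, c, h4⟩

end Spl

end Cfsg.Agent.Omega.NOne.SL

end
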