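import Cfsg.Agent.Mrg.Omega.NOne.SL.FStr
import Cfsg.Agent.Mrg.Omega.NO1.Gamma.Grid

section


/-!
# THEOREM SL: the input from a decomposition `M = N₁ ⊕ N₂`, and `M₁ = N₁`
-/

set_option autoImplicit false
set_option linter.unusedSimpArgs false

namespace Cfsg.Agent.Omega.NOne.SL

/-- An input of THEOREM SL in which `M` is already decomposed; `e₁ ∈ N₁`, `e₂ ∈ N₂`. -/
structure Dec (F M : Type*) [Field F] [AddCommGroup M] [Module F M] where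
  two : (2 : F) = 0
  four : ∃ a : F, a ≠ 0 ∧ a ≠ 1
  f : M →ₗ[F] M →ₗ[F] F
  s : M → F
  s_add : ∀ x y, s (x + y) = s x + s y + f x y
  s_smul : ∀ (c : F) x, s (c • x) = c ^ 2 * s x
  nondeg : ∀ m, (∀ m', f m m' = 0) → m = 0
  H : Subgroup (M ≃ₗ[F] M)
  isom : ∀ g ∈ H, ∀ m, s (g m) = s m
  N₁ : Submodule F M
  N₂ : Submodule F M
  isCompl : IsCompl N₁ N₂
  sing₁ : ∀ m ∈ N₁, s m = 0
  sing₂ : ∀ m ∈ N₂, s m = 0
  e₁ : M
  e₂ : M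
  e₁_mem : e₁ ∈ N₁
  e₂_mem : e₂ ∈ N₂
  e₁_ne : e₁ ≠ 0
  e₂_ne : e₂ ≠ 0
  perp : f e₁ e₂ = 0
  /-- elements of `H` which are trivial on `e`, `P/e`, `M/P` preserve `N₁` and `N₂` -/
  Jpres : ∀ g ∈ H, g e₁ = e₁ → g e₂ = e₂ →
    (∀ m, f e₁ m = 0 → f e₂ m = 0 → ∃ a c : F, g m - m = a • e₁ + c • e₂) →
    (∀ m, f e₁ (g m - m) = 0 ∧ f e₂ (g m - m) = 0) → (∀ m ∈ N₁, g m ∈ N₁) ∧ ∀ m ∈ N₂, g m ∈ N₂
  J0 : ∀ a : F, ∃ j ∈ H, ∀ m, j m = m + a • (f m e₁ • e₂ + f m e₂ • e₁)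
  J1 : ∀ φ ∈ N₂, f e₁ φ = 0 → ∃ j ∈ H, (∀ m, f e₁ m = 0 → f e₂ m = 0 → j m = m + f m φ • e₁) ∧
    ∀ m, f e₁ (j m - m) = 0 ∧ f e₂ (j m - m) = 0
  J2 : ∀ φ ∈ N₁, f e₂ φ = 0 → ∃ j ∈ H, (∀ m, f e₁ m = 0 → f e₂ m = 0 → j m = m + f m φ • e₂) ∧
    ∀ m, f e₁ (j m - m) = 0 ∧ f e₂ (j m - m) = 0
  Se : ∀ g ∈ H, (∃ a c : F, g e₁ = a • e₁ + c • e₂) → (∃ a c : F, g e₂ = a • e₁ + c • e₂) →
    ((∃ a : F, g e₁ = a • e₁) ∧ ∃ a : F, g e₂ = a • e₂) ∨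
      ((∃ a : F, g e₁ = a • e₂) ∧ ∃ a : F, g e₂ = a • e₁)
  Om : ∀ N : Submodule F M, (∀ g ∈ H, g e₁ ∈ N ∧ g e₂ ∈ N) → N = ⊤

namespace Dec

variable {F M : Type*} [Field F] [AddCommGroup M] [Module F M] (D : Dec F M)

/-- `P = e^⊥` -/
def P : Submodule F M := LinearMap.ker (D.f D.e₁) ⊓ LinearMap.ker (D.f D.e₂)

theorem mem_P {m : M} : m ∈ D.P ↔ D.f D.e₁ m = 0 ∧ D.f D.e₂ m = 0 := Iff.rfl

include D in
theorem dbl (a : F) : a + a = 0 := by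
  rw [← two_mul, D.two, zero_mul]

include D in
theorem dblM (m : M) : m + m = 0 := by
  rw [← two_smul F m, D.two, zero_smul]

theorem s_zero : D.s 0 = 0 := by
  have := D.s_smul 0 0
  simpa using this

theorem f_self (m : M) : D.f m m = 0 := by
  have h := D.s_add m m
  rw [D.dblM, D.s_zero, D.dbl, zero_add] at h
  exact h.symm

theorem f_symm (x y : M) : D.f x y = D.f y x := by
  have h := D.s_add x y
  have h' := D.s_add y x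
  rw [add_comm y x, h] at h'
  linear_combination h'

theorem isomf {g : M ≃ₗ[F] M} (hg : g ∈ D.H) (x y : M) : D.f (g x) (g y) = D.f x y := by
  have h := D.s_add (g x) (g y)
  rw [← map_add, D.isom g hg, D.isom g hg, D.isom g hg, D.s_add] at h
  linear_combination -h

theorem f_N₁ {m n : M} (hm : m ∈ D.N₁) (hn : n ∈ D.N₁) : D.f m n = 0 := by
  have h := D.s_add m n
  rw [D.sing₁ _ (add_mem hm hn), D.sing₁ _ hm, D.sing₁ _ hn] at h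
  linear_combination -h

theorem f_N₂ {m n : M} (hm : m ∈ D.N₂) (hn : n ∈ D.N₂) : D.f m n = 0 := by
  have h := D.s_add m n
  rw [D.sing₂ _ (add_mem hm hn), D.sing₂ _ hm, D.sing₂ _ hn] at h
  linear_combination -h

/-- the projections -/
noncomputable def p₁ : M →ₗ[F] M := D.N₁.projection D.N₂ D.isCompl

noncomputable def p₂ : M →ₗ[F] M := D.N₂.projection D.N₁ D.isCompl.symm

theorem p₁_mem (m : M) : D.p₁ m ∈ D.N₁ := by
  rw [p₁, Submodule.projection_apply]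
  exact SetLike.coe_mem _

theorem p₂_mem (m : M) : D.p₂ m ∈ D.N₂ := by
  rw [p₂, Submodule.projection_apply]
  exact SetLike.coe_mem _

theorem p₁_of_mem {m : M} (h : m ∈ D.N₁) : D.p₁ m = m := by
  rw [p₁, Submodule.projection_apply, Submodule.projectionOnto_apply_of_mem_left _ h]

theorem p₂_of_mem {m : M} (h : m ∈ D.N₂) : D.p₂ m = m := by
  rw [p₂, Submodule.projection_apply, Submodule.projectionOnto_apply_of_mem_left _ h]

theorem p₁_zero {m : M} (h : m ∈ D.N₂) : D.p₁ m = 0 := by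
  rw [p₁, Submodule.projection_apply, (Submodule.projectionOnto_apply_eq_zero_iff _).2 h]
  rfl

theorem p₂_zero {m : M} (h : m ∈ D.N₁) : D.p₂ m = 0 := by
  rw [p₂, Submodule.projection_apply, (Submodule.projectionOnto_apply_eq_zero_iff _).2 h]
  rfl

theorem p_add (m : M) : m = D.p₁ m + D.p₂ m := by
  have h1 : m ∈ D.N₁ ⊔ D.N₂ := by rw [D.isCompl.sup_eq_top]; trivial
  obtain ⟨x, hx, y, hy, rfl⟩ := Submodule.mem_sup.1 h1
  rw [map_add, map_add, D.p₁_of_mem hx, D.p₁_zero hy, D.p₂_zero hx, D.p₂_of_mem hy, add_zero, zero_add]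

theorem p₁_P {m : M} (h : m ∈ D.P) : D.p₁ m ∈ D.P := by
  rw [mem_P]
  refine ⟨D.f_N₁ D.e₁_mem (D.p₁_mem m), ?_⟩
  have h1 := (D.mem_P.1 h).2
  rw [D.p_add m, map_add, D.f_N₂ D.e₂_mem (D.p₂_mem m), add_zero] at h1
  exact h1

theorem p₂_P {m : M} (h : m ∈ D.P) : D.p₂ m ∈ D.P := by
  rw [mem_P]
  refine ⟨?_, D.f_N₂ D.e₂_mem (D.p₂_mem m)⟩
  have h1 := (D.mem_P.1 h).1
  rw [D.p_add m, map_add, D.f_N₁ D.e₁_mem (D.p₁_mem m), zero_add] at h1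
  exact h1

theorem e₁_P : D.e₁ ∈ D.P := ⟨D.f_self _, by
  change D.f D.e₂ D.e₁ = 0
  rw [D.f_symm, D.perp]⟩

theorem e₂_P : D.e₂ ∈ D.P := ⟨D.perp, D.f_self _⟩

theorem disj {x : M} (h1 : x ∈ D.N₁) (h2 : x ∈ D.N₂) : x = 0 :=
  (Submodule.disjoint_def.1 D.isCompl.disjoint) x h1 h2

theorem e_ind {a c : F} (h : a • D.e₁ + c • D.e₂ = 0) : a = 0 ∧ c = 0 := by
  have h1 : a • D.e₁ = 0 := by
    refine D.disj (Submodule.smul_mem _ _ D.e₁_mem) ?_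
    rw [eq_neg_of_add_eq_zero_left h]
    exact neg_mem (Submodule.smul_mem _ _ D.e₂_mem)
  have h2 : c • D.e₂ = 0 := by rw [h1, zero_add] at h; exact h
  exact ⟨(smul_eq_zero.1 h1).resolve_right D.e₁_ne, (smul_eq_zero.1 h2).resolve_right D.e₂_ne⟩

theorem exists_c₂ : ∃ c ∈ D.N₂, D.f D.e₁ c = 1 := by
  have h : ∃ m, D.f D.e₁ m ≠ 0 := by
    by_contra hc
    push Not at hc
    exact D.e₁_ne (D.nondeg _ hc)
  obtain ⟨m, hm⟩ := h
  refine ⟨(D.f D.e₁ m)⁻¹ • D.p₂ m, Submodule.smul_mem _ _ (D.p₂_mem m), ?_⟩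
  have h1 : D.f D.e₁ (D.p₂ m) = D.f D.e₁ m := by
    conv_rhs => rw [D.p_add m, map_add, D.f_N₁ D.e₁_mem (D.p₁_mem m), zero_add]
  rw [map_smul, h1, smul_eq_mul, inv_mul_cancel₀ hm]

theorem exists_c₁ : ∃ c ∈ D.N₁, D.f D.e₂ c = 1 := by
  have h : ∃ m, D.f D.e₂ m ≠ 0 := by
    by_contra hc
    push Not at hc
    exact D.e₂_ne (D.nondeg _ hc)
  obtain ⟨m, hm⟩ := h
  refine ⟨(D.f D.e₂ m)⁻¹ • D.p₁ m, Submodule.smul_mem _ _ (D.p₁_mem m), ?_⟩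
  have h1 : D.f D.e₂ (D.p₁ m) = D.f D.e₂ m := by
    conv_rhs => rw [D.p_add m, map_add, D.f_N₂ D.e₂_mem (D.p₂_mem m), add_zero]
  rw [map_smul, h1, smul_eq_mul, inv_mul_cancel₀ hm]

/-- the kernel of `y₁` on `P` -/
def K₁ : Submodule F D.P := (D.N₂ ⊔ Submodule.span F {D.e₁}).comap D.P.subtype

def K₂ : Submodule F D.P := (D.N₁ ⊔ Submodule.span F {D.e₂}).comap D.P.subtype

abbrev Φ₁ : Type _ := D.P ⧸ D.K₁

abbrev Φ₂ : Type _ := D.P ⧸ D.K₂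

theorem mem_K₁ {m : D.P} : m ∈ D.K₁ ↔ ∃ a : F, D.p₁ m = a • D.e₁ := by
  change (m : M) ∈ D.N₂ ⊔ Submodule.span F {D.e₁} ↔ _
  rw [Submodule.mem_sup]
  constructor
  · rintro ⟨y, hy, z, hz, h⟩
    obtain ⟨a, rfl⟩ := Submodule.mem_span_singleton.1 hz
    exact ⟨a, by rw [← h, map_add, D.p₁_zero hy, zero_add, D.p₁_of_mem (Submodule.smul_mem _ _ D.e₁_mem)]⟩
  · rintro ⟨a, h⟩
    exact ⟨D.p₂ m, D.p₂_mem _, a • D.e₁, Submodule.mem_span_singleton.2 ⟨a, rfl⟩, by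
      rw [← h, add_comm]; exact (D.p_add m).symm⟩

theorem mem_K₂ {m : D.P} : m ∈ D.K₂ ↔ ∃ a : F, D.p₂ m = a • D.e₂ := by
  change (m : M) ∈ D.N₁ ⊔ Submodule.span F {D.e₂} ↔ _
  rw [Submodule.mem_sup]
  constructor
  · rintro ⟨y, hy, z, hz, h⟩
    obtain ⟨a, rfl⟩ := Submodule.mem_span_singleton.1 hz
    exact ⟨a, by rw [← h, map_add, D.p₂_zero hy, zero_add, D.p₂_of_mem (Submodule.smul_mem _ _ D.e₂_mem)]⟩
  · rintro ⟨a, h⟩
    exact ⟨D.p₁ m, D.p₁_mem _, a • D.e₂, Submodule.mem_span_singleton.2 ⟨a, rfl⟩, by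
      rw [← h]; exact (D.p_add m).symm⟩

noncomputable def y₁ : M →ₗ[F] D.Φ₁ := (LinearMap.exists_extend D.K₁.mkQ).choose

noncomputable def y₂ : M →ₗ[F] D.Φ₂ := (LinearMap.exists_extend D.K₂.mkQ).choose

theorem y₁_eq {m : M} (h : m ∈ D.P) : D.y₁ m = D.K₁.mkQ ⟨m, h⟩ :=
  LinearMap.congr_fun (LinearMap.exists_extend D.K₁.mkQ).choose_spec ⟨m, h⟩

theorem y₂_eq {m : M} (h : m ∈ D.P) : D.y₂ m = D.K₂.mkQ ⟨m, h⟩ :=
  LinearMap.congr_fun (LinearMap.exists_extend D.K₂.mkQ).choose_spec ⟨m, h⟩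

theorem y₁_zero {m : M} (h : m ∈ D.P) : D.y₁ m = 0 ↔ ∃ a : F, D.p₁ m = a • D.e₁ := by
  rw [D.y₁_eq h, Submodule.mkQ_apply, Submodule.Quotient.mk_eq_zero, D.mem_K₁]

theorem y₂_zero {m : M} (h : m ∈ D.P) : D.y₂ m = 0 ↔ ∃ a : F, D.p₂ m = a • D.e₂ := by
  rw [D.y₂_eq h, Submodule.mkQ_apply, Submodule.Quotient.mk_eq_zero, D.mem_K₂]

/-- the pairing on `P × P` -/
noncomputable def β : D.P →ₗ[F] D.P →ₗ[F] F := (D.f.compl₁₂ D.p₁ D.p₂).domRestrict₁₂ D.P D.P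

theorem β_apply (m n : D.P) : D.β m n = D.f (D.p₁ m) (D.p₂ n) := rfl

theorem f_e₁_P {n : M} (hn : n ∈ D.P) (a : F) : D.f (a • D.e₁) n = 0 := by
  rw [map_smul, LinearMap.smul_apply, (D.mem_P.1 hn).1, smul_zero]

theorem f_e₂_P {n : M} (hn : n ∈ D.P) (a : F) : D.f n (a • D.e₂) = 0 := by
  rw [map_smul, D.f_symm, (D.mem_P.1 hn).2, smul_zero]

/-- the pairing `Φ₁ × Φ₂ → F` -/
noncomputable def b : D.Φ₁ →ₗ[F] D.Φ₂ →ₗ[F] F :=
  D.K₁.liftQ (((Submodule.liftQ D.K₂ (D.β.flip) (by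
    intro n hn
    obtain ⟨a, ha⟩ := D.mem_K₂.1 hn
    rw [LinearMap.mem_ker]
    ext m
    rw [LinearMap.flip_apply, D.β_apply, ha, D.f_e₂_P (D.p₁_P m.2)]
    rfl)).flip)) (by
    intro m hm
    obtain ⟨a, ha⟩ := D.mem_K₁.1 hm
    rw [LinearMap.mem_ker]
    refine LinearMap.ext fun x => ?_
    obtain ⟨n, rfl⟩ := D.K₂.mkQ_surjective x
    change D.f (D.p₁ m) (D.p₂ n) = 0
    rw [ha, D.f_e₁_P (D.p₂_P n.2)])

theorem b_y {m n : M} (hm : m ∈ D.P) (hn : n ∈ D.P) : D.b (D.y₁ m) (D.y₂ n) = D.f (D.p₁ m) (D.p₂ n) := by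
  rw [D.y₁_eq hm, D.y₂_eq hn]
  rfl

theorem y₁_surj (x : D.Φ₁) : ∃ m ∈ D.P, m ∈ D.N₁ ∧ D.y₁ m = x := by
  obtain ⟨m, rfl⟩ := D.K₁.mkQ_surjective x
  refine ⟨D.p₁ m, D.p₁_P m.2, D.p₁_mem _, ?_⟩
  rw [← sub_eq_zero, D.y₁_eq (D.p₁_P m.2), ← map_sub, Submodule.mkQ_apply, Submodule.Quotient.mk_eq_zero,
    D.mem_K₁]
  refine ⟨0, ?_⟩
  change D.p₁ (D.p₁ m - m) = _
  rw [map_sub, D.p₁_of_mem (D.p₁_mem _), sub_self, zero_smul]

theorem y₂_surj (x : D.Φ₂) : ∃ m ∈ D.P, m ∈ D.N₂ ∧ D.y₂ m = x := by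
  obtain ⟨m, rfl⟩ := D.K₂.mkQ_surjective x
  refine ⟨D.p₂ m, D.p₂_P m.2, D.p₂_mem _, ?_⟩
  rw [← sub_eq_zero, D.y₂_eq (D.p₂_P m.2), ← map_sub, Submodule.mkQ_apply, Submodule.Quotient.mk_eq_zero,
    D.mem_K₂]
  refine ⟨0, ?_⟩
  change D.p₂ (D.p₂ m - m) = _
  rw [map_sub, D.p₂_of_mem (D.p₂_mem _), sub_self, zero_smul]

theorem y₁_N₂ {m : M} (hP : m ∈ D.P) (h : m ∈ D.N₂) : D.y₁ m = 0 :=
  (D.y₁_zero hP).2 ⟨0, by rw [D.p₁_zero h, zero_smul]⟩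

theorem y₂_N₁ {m : M} (hP : m ∈ D.P) (h : m ∈ D.N₁) : D.y₂ m = 0 :=
  (D.y₂_zero hP).2 ⟨0, by rw [D.p₂_zero h, zero_smul]⟩

theorem b_left (x : D.Φ₁) (h : ∀ y, D.b x y = 0) : x = 0 := by
  obtain ⟨m, hm, hm1, rfl⟩ := D.y₁_surj x
  obtain ⟨c, hc, hc1⟩ := D.exists_c₂
  rw [D.y₁_zero hm, D.p₁_of_mem hm1]
  refine ⟨D.f m c, ?_⟩
  rw [← sub_eq_zero]
  refine D.nondeg _ fun n => ?_
  have h1 : m - D.f m c • D.e₁ ∈ D.N₁ := sub_mem hm1 (Submodule.smul_mem _ _ D.e₁_mem)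
  rw [D.p_add n, map_add, D.f_N₁ h1 (D.p₁_mem n), zero_add]
  set z := D.p₂ n
  have hz : z ∈ D.N₂ := D.p₂_mem n
  have h2 : z - D.f D.e₁ z • c ∈ D.N₂ := sub_mem hz (Submodule.smul_mem _ _ hc)
  have h3 : z - D.f D.e₁ z • c ∈ D.P := by
    rw [mem_P]
    refine ⟨?_, D.f_N₂ D.e₂_mem h2⟩
    rw [map_sub, map_smul, hc1, smul_eq_mul, mul_one, sub_self]
  have h4 := h (D.y₂ (z - D.f D.e₁ z • c))
  rw [D.b_y hm h3, D.p₁_of_mem hm1, D.p₂_of_mem h2, map_sub, map_smul, smul_eq_mul] at h4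
  rw [map_sub, LinearMap.sub_apply, map_smul, LinearMap.smul_apply, smul_eq_mul]
  linear_combination h4

theorem b_right (y : D.Φ₂) (h : ∀ x, D.b x y = 0) : y = 0 := by
  obtain ⟨m, hm, hm1, rfl⟩ := D.y₂_surj y
  obtain ⟨c, hc, hc1⟩ := D.exists_c₁
  rw [D.y₂_zero hm, D.p₂_of_mem hm1]
  refine ⟨D.f m c, ?_⟩
  rw [← sub_eq_zero]
  refine D.nondeg _ fun n => ?_
  have h1 : m - D.f m c • D.e₂ ∈ D.N₂ := sub_mem hm1 (Submodule.smul_mem _ _ D.e₂_mem)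
  rw [D.p_add n, map_add, D.f_N₂ h1 (D.p₂_mem n), add_zero]
  set z := D.p₁ n
  have hz : z ∈ D.N₁ := D.p₁_mem n
  have h2 : z - D.f D.e₂ z • c ∈ D.N₁ := sub_mem hz (Submodule.smul_mem _ _ hc)
  have h3 : z - D.f D.e₂ z • c ∈ D.P := by
    rw [mem_P]
    refine ⟨D.f_N₁ D.e₁_mem h2, ?_⟩
    rw [map_sub, map_smul, hc1, smul_eq_mul, mul_one, sub_self]
  have h4 := h (D.y₁ (z - D.f D.e₂ z • c))
  rw [D.b_y h3 hm, D.p₁_of_mem h2, D.p₂_of_mem hm1, D.f_symm, map_sub, map_smul, smul_eq_mul] at h4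
  rw [map_sub, LinearMap.sub_apply, map_smul, LinearMap.smul_apply, smul_eq_mul]
  linear_combination h4

/-- the unipotent radical of the stabiliser of `e` in `H` -/
def J : Subgroup (M ≃ₗ[F] M) where
  carrier := {g | g ∈ D.H ∧ g D.e₁ = D.e₁ ∧ g D.e₂ = D.e₂ ∧
    (∀ m ∈ D.P, ∃ a c : F, g m - m = a • D.e₁ + c • D.e₂) ∧ ∀ m, g m - m ∈ D.P}
  mul_mem' := by
    rintro g h ⟨g1, g2, g3, g4, g5⟩ ⟨h1, h2, h3, h4, h5⟩
    refine ⟨D.H.mul_mem g1 h1, ?_, ?_, ?_, ?_⟩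
    · rw [LinearEquiv.mul_apply, h2, g2]
    · rw [LinearEquiv.mul_apply, h3, g3]
    · intro m hm
      obtain ⟨a, c, h6⟩ := h4 m hm
      obtain ⟨a', c', h7⟩ := g4 m hm
      refine ⟨a + a', c + c', ?_⟩
      have h8 : (g * h) m - m = g (h m - m) + (g m - m) := by
        rw [LinearEquiv.mul_apply, map_sub]; abel
      rw [h8, h6, h7, map_add, map_smul, map_smul, g2, g3]
      module
    · intro m
      have h8 : (g * h) m - m = (g (h m) - h m) + (h m - m) := by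
        rw [LinearEquiv.mul_apply]; abel
      rw [h8]
      exact add_mem (g5 _) (h5 m)
  one_mem' := ⟨D.H.one_mem, rfl, rfl, fun m _ => ⟨0, 0, by simp⟩, fun m => by simp⟩
  inv_mem' := by
    rintro g ⟨g1, g2, g3, g4, g5⟩
    have hinv : ∀ v, g (g⁻¹ v) = v := fun v => g.apply_symm_apply v
    have e1 : g⁻¹ D.e₁ = D.e₁ := by
      apply g.injective; rw [hinv, g2]
    have e2 : g⁻¹ D.e₂ = D.e₂ := by
      apply g.injective; rw [hinv, g3]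
    have hP : ∀ m, g⁻¹ m - m ∈ D.P := by
      intro m
      have h1 := g5 (g⁻¹ m)
      rw [hinv] at h1
      have := neg_mem h1
      rwa [neg_sub] at this
    refine ⟨D.H.inv_mem g1, e1, e2, ?_, hP⟩
    intro m hm
    have h2 : g⁻¹ m ∈ D.P := by
      have := add_mem (hP m) hm
      rwa [sub_add_cancel] at this
    obtain ⟨a, c, h3⟩ := g4 _ h2
    refine ⟨-a, -c, ?_⟩
    rw [hinv] at h3
    rw [← neg_sub, h3]
    module

theorem J_iff {g : M ≃ₗ[F] M} : g ∈ D.J ↔ g ∈ D.H ∧ g D.e₁ = D.e₁ ∧ g D.e₂ = D.e₂ ∧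
    (∀ m ∈ D.P, ∃ a c : F, g m - m = a • D.e₁ + c • D.e₂) ∧ ∀ m, g m - m ∈ D.P := Iff.rfl

noncomputable def c₁ : M := D.exists_c₁.choose
noncomputable def c₂ : M := D.exists_c₂.choose
theorem c₁_mem : D.c₁ ∈ D.N₁ := D.exists_c₁.choose_spec.1
theorem c₂_mem : D.c₂ ∈ D.N₂ := D.exists_c₂.choose_spec.1
theorem f_c₁ : D.f D.e₂ D.c₁ = 1 := D.exists_c₁.choose_spec.2
theorem f_c₂ : D.f D.e₁ D.c₂ = 1 := D.exists_c₂.choose_spec.2

theorem pres {g : M ≃ₗ[F] M} (h : g ∈ D.J) : (∀ m ∈ D.N₁, g m ∈ D.N₁) ∧ ∀ m ∈ D.N₂, g m ∈ D.N₂ :=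
  D.Jpres g h.1 h.2.1 h.2.2.1 (fun m h1 h2 => h.2.2.2.1 m ⟨h1, h2⟩) fun m => D.mem_P.1 (h.2.2.2.2 m)

theorem JP_aux {g : M ≃ₗ[F] M} (h : g ∈ D.J) {m : M} (hm : m ∈ D.P) :
    g m = m + D.b (D.y₁ m) (D.y₂ (g D.c₂ - D.c₂)) • D.e₁ + D.b (D.y₁ (g D.c₁ - D.c₁)) (D.y₂ m) • D.e₂ := by
  obtain ⟨h1, h2⟩ := D.pres h
  have hc₁ : g D.c₁ - D.c₁ ∈ D.N₁ := sub_mem (h1 _ D.c₁_mem) D.c₁_mem
  have hc₂ : g D.c₂ - D.c₂ ∈ D.N₂ := sub_mem (h2 _ D.c₂_mem) D.c₂_mem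
  have hc₁P := h.2.2.2.2 D.c₁
  have hc₂P := h.2.2.2.2 D.c₂
  rw [D.b_y hm hc₂P, D.b_y hc₁P hm, D.p₂_of_mem hc₂, D.p₁_of_mem hc₁]
  have hm₁ := D.p₁_P hm
  have hm₂ := D.p₂_P hm
  have k1 := D.p₁_mem m
  have k2 := D.p₂_mem m
  conv_lhs => rw [D.p_add m, map_add]
  have e1 : g (D.p₁ m) = D.p₁ m + D.f (D.p₁ m) (g D.c₂ - D.c₂) • D.e₁ := by
    obtain ⟨a, c, hac⟩ := h.2.2.2.1 _ hm₁
    have hc0 : c • D.e₂ = 0 := by
      refine D.disj ?_ (Submodule.smul_mem _ _ D.e₂_mem)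
      have : c • D.e₂ = (g (D.p₁ m) - D.p₁ m) - a • D.e₁ := by rw [hac]; abel
      rw [this]
      exact sub_mem (sub_mem (h1 _ k1) k1) (Submodule.smul_mem _ _ D.e₁_mem)
    rw [hc0, add_zero] at hac
    have h3 : g (D.p₁ m) = D.p₁ m + a • D.e₁ := by rw [← hac]; abel
    have h4 := D.isomf h.1 (D.p₁ m) D.c₂
    have h5 : D.f D.e₁ (g D.c₂) = 1 := by
      conv_lhs => rw [← h.2.1]
      rw [D.isomf h.1, D.f_c₂]
    rw [h3, map_add, LinearMap.add_apply, map_smul, LinearMap.smul_apply, h5, smul_eq_mul, mul_one] at h4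
    have h6 : a = D.f (D.p₁ m) (g D.c₂ - D.c₂) := by
      rw [map_sub]
      linear_combination h4 - (D.f (D.p₁ m) (g D.c₂) - D.f (D.p₁ m) D.c₂) * D.two
    rw [h3, ← h6]
  have e2 : g (D.p₂ m) = D.p₂ m + D.f (g D.c₁ - D.c₁) (D.p₂ m) • D.e₂ := by
    obtain ⟨a, c, hac⟩ := h.2.2.2.1 _ hm₂
    have hc0 : a • D.e₁ = 0 := by
      refine D.disj (Submodule.smul_mem _ _ D.e₁_mem) ?_
      have : a • D.e₁ = (g (D.p₂ m) - D.p₂ m) - c • D.e₂ := by rw [hac]; abel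
      rw [this]
      exact sub_mem (sub_mem (h2 _ k2) k2) (Submodule.smul_mem _ _ D.e₂_mem)
    rw [hc0, zero_add] at hac
    have h3 : g (D.p₂ m) = D.p₂ m + c • D.e₂ := by rw [← hac]; abel
    have h4 := D.isomf h.1 (D.p₂ m) D.c₁
    have h5 : D.f D.e₂ (g D.c₁) = 1 := by
      conv_lhs => rw [← h.2.2.1]
      rw [D.isomf h.1, D.f_c₁]
    rw [h3, map_add, LinearMap.add_apply, map_smul, LinearMap.smul_apply, h5, smul_eq_mul, mul_one] at h4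
    have h6 : c = D.f (g D.c₁ - D.c₁) (D.p₂ m) := by
      rw [D.f_symm, map_sub]
      linear_combination h4 - (D.f (D.p₂ m) (g D.c₁) - D.f (D.p₂ m) D.c₁) * D.two
    rw [h3, ← h6]
  rw [e1, e2]
  have e3 : D.f (D.p₁ m) (g D.c₂ - D.c₂) = D.f (D.p₁ m) (g D.c₂ - D.c₂) := rfl
  conv_rhs => rw [D.p_add m]
  have k3 : D.p₁ (D.p₁ m + D.p₂ m) = D.p₁ m := by rw [← D.p_add m]
  have k4 : D.p₂ (D.p₁ m + D.p₂ m) = D.p₂ m := by rw [← D.p_add m]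
  rw [k3, k4]
  module

theorem J1_mem {φ : M} {j : M ≃ₗ[F] M} (hj : j ∈ D.H) (hφ : φ ∈ D.N₂) (hφ1 : D.f D.e₁ φ = 0)
    (h1 : ∀ m, D.f D.e₁ m = 0 → D.f D.e₂ m = 0 → j m = m + D.f m φ • D.e₁)
    (h2 : ∀ m, D.f D.e₁ (j m - m) = 0 ∧ D.f D.e₂ (j m - m) = 0) : j ∈ D.J := by
  refine ⟨hj, ?_, ?_, fun m hm => ⟨D.f m φ, 0, ?_⟩, h2⟩
  · rw [h1 _ D.e₁_P.1 D.e₁_P.2, hφ1, zero_smul, add_zero]
  · rw [h1 _ D.e₂_P.1 D.e₂_P.2, D.f_N₂ D.e₂_mem hφ, zero_smul, add_zero]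
  · rw [h1 m hm.1 hm.2]; module

theorem J2_mem {φ : M} {j : M ≃ₗ[F] M} (hj : j ∈ D.H) (hφ : φ ∈ D.N₁) (hφ1 : D.f D.e₂ φ = 0)
    (h1 : ∀ m, D.f D.e₁ m = 0 → D.f D.e₂ m = 0 → j m = m + D.f m φ • D.e₂)
    (h2 : ∀ m, D.f D.e₁ (j m - m) = 0 ∧ D.f D.e₂ (j m - m) = 0) : j ∈ D.J := by
  refine ⟨hj, ?_, ?_, fun m hm => ⟨0, D.f m φ, ?_⟩, h2⟩
  · rw [h1 _ D.e₁_P.1 D.e₁_P.2, D.f_N₁ D.e₁_mem hφ, zero_smul, add_zero]
  · rw [h1 _ D.e₂_P.1 D.e₂_P.2, hφ1, zero_smul, add_zero]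
  · rw [h1 m hm.1 hm.2]; module

/-- **The input of THEOREM SL.** -/
noncomputable def spl : Spl F M D.Φ₁ D.Φ₂ where
  two := D.two
  four := D.four
  f := D.f
  s := D.s
  s_add := D.s_add
  s_smul := D.s_smul
  nondeg := D.nondeg
  H := D.H
  isom := D.isom
  b := D.b
  b_left := D.b_left
  b_right := D.b_right
  e₁ := D.e₁
  e₂ := D.e₂
  e_ind := fun _ _ h => D.e_ind h
  s₁ := D.sing₁ _ D.e₁_mem
  s₂ := D.sing₂ _ D.e₂_mem
  e_perp := D.perp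
  y₁ := D.y₁
  y₂ := D.y₂
  y_surj := fun x₁ x₂ => by
    obtain ⟨m, hm, hm1, hx⟩ := D.y₁_surj x₁
    obtain ⟨n, hn, hn2, hy⟩ := D.y₂_surj x₂
    have hP := add_mem hm hn
    refine ⟨m + n, hP.1, hP.2, ?_, ?_⟩
    · rw [map_add, D.y₁_N₂ hn hn2, add_zero, hx]
    · rw [map_add, D.y₂_N₁ hm hm1, zero_add, hy]
  y_e₁ := ⟨(D.y₁_zero D.e₁_P).2 ⟨1, by rw [D.p₁_of_mem D.e₁_mem, one_smul]⟩, D.y₂_N₁ D.e₁_P D.e₁_mem⟩
  y_e₂ := ⟨D.y₁_N₂ D.e₂_P D.e₂_mem, (D.y₂_zero D.e₂_P).2 ⟨1, by rw [D.p₂_of_mem D.e₂_mem, one_smul]⟩⟩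
  y_ker := fun m h1 h2 h3 h4 => by
    obtain ⟨a, ha⟩ := (D.y₁_zero ⟨h1, h2⟩).1 h3
    obtain ⟨c, hc⟩ := (D.y₂_zero ⟨h1, h2⟩).1 h4
    exact ⟨a, c, by rw [← ha, ← hc]; exact D.p_add m⟩
  sy := fun m h1 h2 => by
    rw [D.b_y ⟨h1, h2⟩ ⟨h1, h2⟩]
    conv_lhs => rw [D.p_add m]
    rw [D.s_add, D.sing₁ _ (D.p₁_mem m), D.sing₂ _ (D.p₂_mem m), zero_add, zero_add]
  J := D.J
  J_le := fun _ h => h.1
  χ₁ := fun g => D.y₁ (g D.c₁ - D.c₁)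
  χ₂ := fun g => D.y₂ (g D.c₂ - D.c₂)
  JP := fun j hj m h1 h2 => D.JP_aux hj ⟨h1, h2⟩
  JM := fun j hj m => D.mem_P.1 (hj.2.2.2.2 m)
  Jall := fun x₁ x₂ => by
    obtain ⟨m, hm, hm1, hx⟩ := D.y₁_surj x₁
    obtain ⟨n, hn, hn2, hy⟩ := D.y₂_surj x₂
    obtain ⟨j, hj, j1, j2⟩ := D.J1 n hn2 hn.1
    obtain ⟨k, hk, k1, k2⟩ := D.J2 m hm1 hm.2
    have hjJ := D.J1_mem hj hn2 hn.1 j1 j2
    have hkJ := D.J2_mem hk hm1 hm.2 k1 k2
    have hJ := D.J.mul_mem hjJ hkJ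
    have key : ∀ w ∈ D.P, D.b (D.y₁ w) (D.y₂ ((j * k) D.c₂ - D.c₂)) = D.f w n ∧
        D.b (D.y₁ ((j * k) D.c₁ - D.c₁)) (D.y₂ w) = D.f w m := by
      intro w hw
      have h1 := D.JP_aux hJ hw
      have h2 : (j * k) w = w + D.f w n • D.e₁ + D.f w m • D.e₂ := by
        rw [LinearEquiv.mul_apply, k1 w hw.1 hw.2, map_add, map_smul, hjJ.2.2.1, j1 w hw.1 hw.2]
      rw [h2] at h1
      have h3 := D.e_ind (a := D.f w n - D.b (D.y₁ w) (D.y₂ ((j * k) D.c₂ - D.c₂)))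
        (c := D.f w m - D.b (D.y₁ ((j * k) D.c₁ - D.c₁)) (D.y₂ w)) (by
          linear_combination (norm := module) h1)
      exact ⟨(sub_eq_zero.1 h3.1).symm, (sub_eq_zero.1 h3.2).symm⟩
    refine ⟨j * k, hJ, ?_, ?_⟩
    · rw [← hx, ← sub_eq_zero]
      refine D.b_left _ fun y => ?_
      obtain ⟨w, hw, hw2, rfl⟩ := D.y₂_surj y
      rw [map_sub, LinearMap.sub_apply, (key w hw).2, D.b_y hm hw, D.p₁_of_mem hm1, D.p₂_of_mem hw2, D.f_symm,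
        sub_self]
    · rw [← hy, ← sub_eq_zero]
      refine D.b_right _ fun x => ?_
      obtain ⟨w, hw, hw2, rfl⟩ := D.y₁_surj x
      rw [map_sub, (key w hw).1, D.b_y hw hn, D.p₁_of_mem hw2, D.p₂_of_mem hn2, sub_self]
  Jn := fun a => by
    obtain ⟨j, hj, h1⟩ := D.J0 a
    have h2 : ∀ m ∈ D.P, j m = m := by
      intro m hm
      rw [h1, D.f_symm m, D.f_symm m, (D.mem_P.1 hm).1, (D.mem_P.1 hm).2]
      simp
    refine ⟨j, ⟨hj, h2 _ D.e₁_P, h2 _ D.e₂_P, fun m hm => ⟨0, 0, by rw [h2 m hm]; simp⟩, fun m => ?_⟩, h1⟩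
    rw [h1, add_sub_cancel_left]
    exact Submodule.smul_mem _ _ (add_mem (Submodule.smul_mem _ _ D.e₂_P) (Submodule.smul_mem _ _ D.e₁_P))
  Jmax := fun g hg h1 h2 h3 h4 => ⟨hg, h1, h2, fun m hm => h3 m hm.1 hm.2, fun m => h4 m⟩
  Se := D.Se
  Om := D.Om

end Dec

/-! ### `M₁ = N₁` -/

namespace Spl

variable {F M Φ₁ Φ₂ : Type*} [Field F] [AddCommGroup M] [Module F M] [AddCommGroup Φ₁]
    [Module F Φ₁] [AddCommGroup Φ₂] [Module F Φ₂] {D : Spl F M Φ₁ Φ₂}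

/-- a linear map normalising `H` and fixing `⟨e₁⟩`, `⟨e₂⟩` preserves `M₁`. -/
theorem Out.map_of_norm {M₁ M₂ : Submodule F M} (O : Out D M₁ M₂) {h : M ≃ₗ[F] M}
    (hH : ∀ g ∈ D.H, h * g * h⁻¹ ∈ D.H) (h₁ : ∃ l : F, h D.e₁ = l • D.e₁) {m : M} (hm : m ∈ M₁) :
    h m ∈ M₁ := by
  obtain ⟨l, hl⟩ := h₁
  have key : ∀ m ∈ M₁, h m ∈ M₁ ∨ h m ∈ M₂ := by
    intro m hm
    by_cases hm0 : m = 0
    · left; rw [hm0, map_zero]; exact zero_mem _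
    obtain ⟨A⟩ := D.exists_fr
    -- an incident partner
    have hex : ∃ φ ∈ M₂, φ ≠ 0 ∧ D.f m φ = 0 := by
      by_cases h1 : D.f m D.e₂ = 0
      · exact ⟨D.e₂, O.e₂_mem, D.e₂_ne, h1⟩
      · -- another vector of `M₂`
        have hx : ∃ x ∈ M₂, ∀ c : F, x ≠ c • D.e₂ := by
          by_contra hcon
          push Not at hcon
          apply D.e₁_ne
          refine O.dual₁ _ O.e₁_mem fun φ hφ => ?_
          obtain ⟨c, hc⟩ := hcon φ hφ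
          rw [hc, map_smul, D.e_perp, smul_zero]
        obtain ⟨x, hx, hxe⟩ := hx
        refine ⟨x - (D.f m x * (D.f m D.e₂)⁻¹) • D.e₂, sub_mem hx (Submodule.smul_mem _ _ O.e₂_mem), ?_, ?_⟩
        · intro h2
          exact hxe _ (sub_eq_zero.1 h2)
        · rw [map_sub, map_smul, smul_eq_mul, mul_assoc, inv_mul_cancel₀ h1, mul_one, sub_self]
    obtain ⟨φ, hφ, hφ0, h0⟩ := hex
    obtain ⟨g, hg, -, a, c, ha, -, h1, -⟩ := O.orbit m hm φ hφ hm0 hφ0 h0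
    have h2 : h m = (a⁻¹ * l) • (h * g * h⁻¹) D.e₁ := by
      have h3 : (h * g * h⁻¹) (h D.e₁) = h (g D.e₁) := by
        rw [LinearEquiv.mul_apply, LinearEquiv.mul_apply, show h⁻¹ (h D.e₁) = D.e₁ from h.symm_apply_apply _]
      rw [hl, map_smul, h1, map_smul] at h3
      rw [mul_smul, h3, inv_smul_smul₀ ha]
    rcases O.perm _ (hH g hg) with h3 | h3
    · left
      rw [h2]
      exact Submodule.smul_mem _ _ (h3.1 _ O.e₁_mem)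
    · right
      rw [h2]
      exact Submodule.smul_mem _ _ (h3.1 _ O.e₁_mem)
  have hl0 : h D.e₁ ∉ M₂ := by
    intro h1
    have h2 : h D.e₁ ∈ M₁ := by rw [hl]; exact Submodule.smul_mem _ _ O.e₁_mem
    have h3 := (Submodule.disjoint_def.1 O.isCompl.disjoint) _ h2 h1
    exact D.e₁_ne (by simpa using h3)
  by_contra hcon
  have h1 := (key m hm).resolve_left hcon
  have h2 : h D.e₁ ∈ M₁ := by rw [hl]; exact Submodule.smul_mem _ _ O.e₁_mem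
  rcases key _ (add_mem hm O.e₁_mem) with h3 | h3
  · rw [map_add] at h3
    exact hcon (by
      have := sub_mem h3 h2
      rwa [add_sub_cancel_right] at this)
  · rw [map_add] at h3
    exact hl0 (by
      have := sub_mem h3 h1
      rwa [add_sub_cancel_left] at this)

/-- the output for the swapped input -/
theorem Out.swap {M₁ M₂ : Submodule F M} (O : Out D M₁ M₂) : Out D.swap M₂ M₁ where
  isCompl := O.isCompl.symm
  sing₁ := O.sing₂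
  sing₂ := O.sing₁
  e₁_mem := O.e₂_mem
  e₂_mem := O.e₁_mem
  dual₁ := O.dual₂
  dual₂ := O.dual₁
  perm := fun g hg => by
    rcases O.perm g hg with h | h
    · exact Or.inl h.symm
    · exact Or.inr h.symm
  trans := fun m hm φ hφ h0 a => by
    have h0' : D.f φ m = 0 := by rw [D.f_symm]; exact h0
    obtain ⟨h, hh, hx⟩ := O.trans φ hφ m hm h0' a
    exact ⟨h, hh, fun x => by rw [hx, add_comm (D.f x φ • m)]; rfl⟩
  conj := fun g hg => by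
    obtain ⟨m, hm, φ, hφ, h1, h2, h3, h4⟩ := O.conj g hg
    refine ⟨φ, hφ, m, hm, h2, h1, ?_, ?_⟩
    · rw [← h3]; exact D.f_symm _ _
    · rw [E_swap, h4, Set.pair_comm]
  orbit := fun m hm φ hφ h1 h2 h3 => by
    have h3' : D.f φ m = 0 := by rw [D.f_symm]; exact h3
    obtain ⟨g, hg, h4, a, c, ha, hc, h5, h6⟩ := O.orbit φ hφ m hm h2 h1 h3'
    exact ⟨g, hg, h4.symm, c, a, hc, ha, h6, h5⟩
  J_full := fun g hs h1 h2 h3 h4 h5 => O.J_full g hs h2 h1 h4 h3 fun m h6 h7 => by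
    have := h5 m h7 h6
    rwa [E_swap] at this

/-- `y₂ = 0` on `M₁ ∩ P` -/
theorem Out.y₂_zero {M₁ M₂ : Submodule F M} (O : Out D M₁ M₂) {m : M} (hm : m ∈ M₁) (hP : D.InP m) :
    D.y₂ m = 0 := by
  by_contra h0
  obtain ⟨x, hx⟩ := D.exists_b₁ h0
  obtain ⟨j, hj, h1, h2⟩ := D.Jall x 0
  have hj1 : ∀ m ∈ M₁, j m ∈ M₁ := by
    rcases O.perm j (D.J_le hj) with h | h
    · exact h.1
    · exfalso
      have h3 := h.1 _ O.e₁_mem
      rw [D.j_e₁ hj] at h3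
      exact D.e₁_ne ((Submodule.disjoint_def.1 O.isCompl.disjoint) _ O.e₁_mem h3)
  have h3 := hj1 m hm
  rw [D.JP j hj m hP.1 hP.2, h1, h2, hx, map_zero, zero_smul, add_zero, one_smul] at h3
  have h4 : D.e₂ ∈ M₁ := by
    have := sub_mem h3 hm
    rwa [add_sub_cancel_left] at this
  exact D.e₂_ne ((Submodule.disjoint_def.1 O.isCompl.disjoint) _ h4 O.e₂_mem)

/-- comparison of two decompositions which agree on `P` -/
theorem Out.le_of_P {M₁ M₂ : Submodule F M} (O : Out D M₁ M₂) {N₁ N₂ : Submodule F M}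
    (hN : IsCompl N₁ N₂) (hs₁ : ∀ m ∈ N₁, D.s m = 0) (hs₂ : ∀ m ∈ N₂, D.s m = 0)
    (he₁ : D.e₁ ∈ N₁) (he₂ : D.e₂ ∈ N₂) (hx : ∀ x ∈ N₁, D.InP x → x ∈ M₁) : M₁ ≤ N₁ := by
  have fN₁ : ∀ x ∈ N₁, ∀ y ∈ N₁, D.f x y = 0 := by
    intro x hx y hy
    have h1 := D.s_add x y
    rw [hs₁ _ (add_mem hx hy), hs₁ _ hx, hs₁ _ hy] at h1
    linear_combination -h1
  have fN₂ : ∀ x ∈ N₂, ∀ y ∈ N₂, D.f x y = 0 := by
    intro x hx y hy
    have h1 := D.s_add x y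
    rw [hs₂ _ (add_mem hx hy), hs₂ _ hx, hs₂ _ hy] at h1
    linear_combination -h1
  have fM₁ : ∀ x ∈ M₁, ∀ y ∈ M₁, D.f x y = 0 := by
    intro x hx y hy
    have h1 := D.s_add x y
    rw [O.sing₁ _ (add_mem hx hy), O.sing₁ _ hx, O.sing₁ _ hy] at h1
    linear_combination -h1
  intro m hm
  have h1 : m ∈ N₁ ⊔ N₂ := by rw [hN.sup_eq_top]; trivial
  obtain ⟨n, hn, n', hn', hmn⟩ := Submodule.mem_sup.1 h1
  -- `c₁`
  obtain ⟨c₁, hc₁, hc⟩ : ∃ c ∈ N₁, D.f c D.e₂ = 1 := by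
    have h2 : ∃ w, D.f w D.e₂ ≠ 0 := by
      by_contra hcon
      push Not at hcon
      exact D.e₂_ne (D.nondeg _ fun w => by rw [D.f_symm]; exact hcon w)
    obtain ⟨w, hw⟩ := h2
    have h3 : w ∈ N₁ ⊔ N₂ := by rw [hN.sup_eq_top]; trivial
    obtain ⟨x, hx1, y, hy1, rfl⟩ := Submodule.mem_sup.1 h3
    rw [D.f_add_left, fN₂ y hy1 _ he₂, add_zero] at hw
    exact ⟨(D.f x D.e₂)⁻¹ • x, Submodule.smul_mem _ _ hx1, by
      rw [D.f_smul_left, inv_mul_cancel₀ hw]⟩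
  have key : n' - D.f n' c₁ • D.e₂ = 0 := by
    have hk : n' - D.f n' c₁ • D.e₂ ∈ N₂ := sub_mem hn' (Submodule.smul_mem _ _ he₂)
    refine D.nondeg _ fun w => ?_
    have h3 : w ∈ N₁ ⊔ N₂ := by rw [hN.sup_eq_top]; trivial
    obtain ⟨y, hy1, z, hz1, rfl⟩ := Submodule.mem_sup.1 h3
    rw [map_add, fN₂ _ hk z hz1, add_zero]
    have h4 : y - D.f y D.e₂ • c₁ ∈ N₁ := sub_mem hy1 (Submodule.smul_mem _ _ hc₁)
    have h5 : D.InP (y - D.f y D.e₂ • c₁) := by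
      refine ⟨fN₁ _ he₁ _ h4, ?_⟩
      rw [map_sub, map_smul, D.f_symm D.e₂ c₁, hc, D.f_symm D.e₂ y, smul_eq_mul, mul_one, sub_self]
    have h6 := fM₁ m hm _ (hx _ h4 h5)
    rw [← hmn, D.f_add_left, fN₁ n hn _ h4, zero_add, map_sub, map_smul, smul_eq_mul] at h6
    rw [map_sub, LinearMap.sub_apply, map_smul, LinearMap.smul_apply, smul_eq_mul, D.f_symm D.e₂ y]
    linear_combination h6
  have hn'e : n' = D.f n' c₁ • D.e₂ := sub_eq_zero.1 key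
  set c := D.f n' c₁ with hcd
  by_cases hc0 : c = 0
  · rw [← hmn, hn'e, hc0, zero_smul, add_zero]
    exact hn
  exfalso
  have h7 : c * D.f n D.e₂ = 0 := by
    have h8 := O.sing₁ m hm
    rw [← hmn, D.s_add, hs₁ n hn, hs₂ n' hn', hn'e, map_smul, smul_eq_mul] at h8
    linear_combination h8
  have h8 : D.f n D.e₂ = 0 := (mul_eq_zero.1 h7).resolve_left hc0
  have h9 : n ∈ M₁ := hx n hn ⟨fN₁ _ he₁ _ hn, by rw [D.f_symm]; exact h8⟩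
  have h10 : n' ∈ M₁ := by
    have := sub_mem hm h9
    rwa [← hmn, add_sub_cancel_left] at this
  rw [hn'e] at h10
  have h11 : D.e₂ ∈ M₁ := by
    have := Submodule.smul_mem _ c⁻¹ h10
    rwa [inv_smul_smul₀ hc0] at this
  exact D.e₂_ne ((Submodule.disjoint_def.1 O.isCompl.disjoint) _ h11 O.e₂_mem)

/-- **(I3)** of bb #15588: the torus element `h` identifies `M₁` with `N₁`. -/
theorem Out.eq_of_torus {M₁ M₂ : Submodule F M} (O : Out D M₁ M₂) {N₁ N₂ : Submodule F M}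
    (hN : IsCompl N₁ N₂) (hs₁ : ∀ m ∈ N₁, D.s m = 0) (hs₂ : ∀ m ∈ N₂, D.s m = 0) (he₁ : D.e₁ ∈ N₁)
    (he₂ : D.e₂ ∈ N₂) (hy₁ : ∀ m ∈ N₁, D.InP m → D.y₂ m = 0) (hy₂ : ∀ m ∈ N₂, D.InP m → D.y₁ m = 0)
    {h : M ≃ₗ[F] M} (hH : ∀ g ∈ D.H, h * g * h⁻¹ ∈ D.H) {l : F} (hl0 : l ≠ 0) (hl1 : l ≠ 1)
    (h₁ : h D.e₁ = l • D.e₁) (h₂ : h D.e₂ = l⁻¹ • D.e₂)
    (k₁ : ∀ m ∈ N₁, D.InP m → ∃ a : F, h m - l • m = a • D.e₁)
    (k₂ : ∀ m ∈ N₂, D.InP m → ∃ a : F, h m - m = a • D.e₂) : M₁ = N₁ ∧ M₂ = N₂ := by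
  have fN₁ : ∀ x ∈ N₁, ∀ y ∈ N₁, D.f x y = 0 := by
    intro x hx y hy
    have h1 := D.s_add x y
    rw [hs₁ _ (add_mem hx hy), hs₁ _ hx, hs₁ _ hy] at h1
    linear_combination -h1
  have fN₂ : ∀ x ∈ N₂, ∀ y ∈ N₂, D.f x y = 0 := by
    intro x hx y hy
    have h1 := D.s_add x y
    rw [hs₂ _ (add_mem hx hy), hs₂ _ hx, hs₂ _ hy] at h1
    linear_combination -h1
  have fM₁ : ∀ x ∈ M₁, ∀ y ∈ M₁, D.f x y = 0 := by
    intro x hx y hy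
    have h1 := D.s_add x y
    rw [O.sing₁ _ (add_mem hx hy), O.sing₁ _ hx, O.sing₁ _ hy] at h1
    linear_combination -h1
  have fM₂ : ∀ x ∈ M₂, ∀ y ∈ M₂, D.f x y = 0 := by
    intro x hx y hy
    have h1 := D.s_add x y
    rw [O.sing₂ _ (add_mem hx hy), O.sing₂ _ hx, O.sing₂ _ hy] at h1
    linear_combination -h1
  have hh₁ : ∀ m ∈ M₁, h m ∈ M₁ := fun m => O.map_of_norm hH ⟨l, h₁⟩
  have hh₂ : ∀ m ∈ M₂, h m ∈ M₂ := fun m => O.swap.map_of_norm hH ⟨l⁻¹, h₂⟩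
  have hll : l⁻¹ - l ≠ 0 := by
    intro h1
    have h2 : l * l = 1 := by
      have h3 : l⁻¹ = l := sub_eq_zero.1 h1
      have h4 := mul_inv_cancel₀ hl0
      rwa [h3] at h4
    have h3 : (l - 1) * (l - 1) = 0 := by linear_combination h2 - (l - 1) * D.two
    exact hl1 (sub_eq_zero.1 (mul_self_eq_zero.1 h3))
  have ned₁ : D.e₂ ∉ M₁ := fun h1 =>
    D.e₂_ne ((Submodule.disjoint_def.1 O.isCompl.disjoint) _ h1 O.e₂_mem)
  have ned₂ : D.e₁ ∉ M₂ := fun h1 =>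
    D.e₁_ne ((Submodule.disjoint_def.1 O.isCompl.disjoint) _ O.e₁_mem h1)
  -- components of elements of `P`
  have cP : ∀ {x y : M}, x ∈ N₁ → y ∈ N₂ → D.InP (x + y) → D.InP x ∧ D.InP y := by
    intro x y hx hy hP
    have a1 : D.f D.e₁ x = 0 := fN₁ _ he₁ _ hx
    have a2 : D.f D.e₂ y = 0 := fN₂ _ he₂ _ hy
    have a3 : D.f D.e₁ y = 0 := by
      have := hP.1; rwa [map_add, a1, zero_add] at this
    have a4 : D.f D.e₂ x = 0 := by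
      have := hP.2; rwa [map_add, a2, add_zero] at this
    exact ⟨⟨a1, a4⟩, a3, a2⟩
  have cM : ∀ {x y : M}, x ∈ M₁ → y ∈ M₂ → D.InP (x + y) → D.InP x ∧ D.InP y := by
    intro x y hx hy hP
    have a1 : D.f D.e₁ x = 0 := fM₁ _ O.e₁_mem _ hx
    have a2 : D.f D.e₂ y = 0 := fM₂ _ O.e₂_mem _ hy
    have a3 : D.f D.e₁ y = 0 := by
      have := hP.1; rwa [map_add, a1, zero_add] at this
    have a4 : D.f D.e₂ x = 0 := by
      have := hP.2; rwa [map_add, a2, add_zero] at this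
    exact ⟨⟨a1, a4⟩, a3, a2⟩
  -- `M₁ ∩ P ≤ N₁`
  have m₁ : ∀ m ∈ M₁, D.InP m → m ∈ N₁ := by
    intro m hm hP
    have h1 : m ∈ N₁ ⊔ N₂ := by rw [hN.sup_eq_top]; trivial
    obtain ⟨n, hn, n', hn', rfl⟩ := Submodule.mem_sup.1 h1
    obtain ⟨hnP, hn'P⟩ := cP hn hn' hP
    have h2 := O.y₂_zero hm hP
    rw [map_add, hy₁ n hn hnP, zero_add] at h2
    obtain ⟨a, c, h3⟩ := D.y_ker n' hn'P.1 hn'P.2 (hy₂ n' hn' hn'P) h2
    have h4 : a • D.e₁ = 0 := by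
      refine (Submodule.disjoint_def.1 hN.disjoint) _ (Submodule.smul_mem _ _ he₁) ?_
      have : a • D.e₁ = n' - c • D.e₂ := by rw [h3]; abel
      rw [this]
      exact sub_mem hn' (Submodule.smul_mem _ _ he₂)
    rw [h4, zero_add] at h3
    obtain ⟨a', h5⟩ := k₁ n hn hnP
    have h6 : (c * (l⁻¹ - l)) • D.e₂ ∈ M₁ := by
      have h7 := sub_mem (sub_mem (hh₁ _ hm) (Submodule.smul_mem _ l hm)) (Submodule.smul_mem _ a' O.e₁_mem)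
      have h8 : h (n + n') - l • (n + n') - a' • D.e₁ = (c * (l⁻¹ - l)) • D.e₂ := by
        rw [map_add, h3, map_smul, h₂]
        linear_combination (norm := module) h5
      rwa [h8] at h7
    have h7 : c = 0 := by
      by_contra hc
      apply ned₁
      have := Submodule.smul_mem _ (c * (l⁻¹ - l))⁻¹ h6
      rwa [inv_smul_smul₀ (mul_ne_zero hc hll)] at this
    rw [h3, h7, zero_smul, add_zero]
    exact hn
  -- `M₂ ∩ P ≤ N₂`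
  have m₂ : ∀ m ∈ M₂, D.InP m → m ∈ N₂ := by
    intro m hm hP
    have h1 : m ∈ N₁ ⊔ N₂ := by rw [hN.sup_eq_top]; trivial
    obtain ⟨n, hn, n', hn', rfl⟩ := Submodule.mem_sup.1 h1
    obtain ⟨hnP, hn'P⟩ := cP hn hn' hP
    have h2 : D.y₁ (n + n') = 0 := O.swap.y₂_zero hm (D.InP_swap.2 hP)
    rw [map_add, hy₂ n' hn' hn'P, add_zero] at h2
    obtain ⟨a, c, h3⟩ := D.y_ker n hnP.1 hnP.2 h2 (hy₁ n hn hnP)
    have h4 : c • D.e₂ = 0 := by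
      refine (Submodule.disjoint_def.1 hN.disjoint) _ ?_ (Submodule.smul_mem _ _ he₂)
      have : c • D.e₂ = n - a • D.e₁ := by rw [h3]; abel
      rw [this]
      exact sub_mem hn (Submodule.smul_mem _ _ he₁)
    rw [h4, add_zero] at h3
    obtain ⟨a', h5⟩ := k₂ n' hn' hn'P
    have h6 : (a * (l - 1)) • D.e₁ ∈ M₂ := by
      have h7 := sub_mem (sub_mem (hh₂ _ hm) hm) (Submodule.smul_mem _ a' O.e₂_mem)
      have h8 : h (n + n') - (n + n') - a' • D.e₂ = (a * (l - 1)) • D.e₁ := by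
        rw [map_add, h3, map_smul, h₁]
        linear_combination (norm := module) h5
      rwa [h8] at h7
    have h7 : a = 0 := by
      by_contra hc
      apply ned₂
      have := Submodule.smul_mem _ (a * (l - 1))⁻¹ h6
      rwa [inv_smul_smul₀ (mul_ne_zero hc (sub_ne_zero.2 hl1))] at this
    rw [h3, h7, zero_smul, zero_add]
    exact hn'
  -- `N_i ∩ P ≤ M_i`
  have x₁ : ∀ x ∈ N₁, D.InP x → x ∈ M₁ := by
    intro x hx hP
    have h1 : x ∈ M₁ ⊔ M₂ := by rw [O.isCompl.sup_eq_top]; trivial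
    obtain ⟨y, hy, z, hz, rfl⟩ := Submodule.mem_sup.1 h1
    obtain ⟨hyP, hzP⟩ := cM hy hz hP
    have h2 := m₁ y hy hyP
    have h3 : z ∈ N₁ := by
      have := sub_mem hx h2
      rwa [add_sub_cancel_left] at this
    have h4 : z = 0 := (Submodule.disjoint_def.1 hN.disjoint) _ h3 (m₂ z hz hzP)
    rw [h4, add_zero]
    exact hy
  have x₂ : ∀ x ∈ N₂, D.InP x → x ∈ M₂ := by
    intro x hx hP
    have h1 : x ∈ M₁ ⊔ M₂ := by rw [O.isCompl.sup_eq_top]; trivial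
    obtain ⟨y, hy, z, hz, rfl⟩ := Submodule.mem_sup.1 h1
    obtain ⟨hyP, hzP⟩ := cM hy hz hP
    have h2 := m₂ z hz hzP
    have h3 : y ∈ N₂ := by
      have := sub_mem hx h2
      rwa [add_sub_cancel_right] at this
    have h4 : y = 0 := (Submodule.disjoint_def.1 hN.disjoint) _ (m₁ y hy hyP) h3
    rw [h4, zero_add]
    exact hz
  have l₁ := O.le_of_P hN hs₁ hs₂ he₁ he₂ x₁
  have l₂ := O.swap.le_of_P hN.symm hs₂ hs₁ he₂ he₁ fun x hx hP => x₂ x hx (D.InP_swap.1 hP)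
  refine ⟨le_antisymm l₁ fun x hx => ?_, le_antisymm l₂ fun x hx => ?_⟩
  · have h1 : x ∈ M₁ ⊔ M₂ := by rw [O.isCompl.sup_eq_top]; trivial
    obtain ⟨y, hy, z, hz, rfl⟩ := Submodule.mem_sup.1 h1
    have h3 : z ∈ N₁ := by
      have := sub_mem hx (l₁ hy)
      rwa [add_sub_cancel_left] at this
    have h4 : z = 0 := (Submodule.disjoint_def.1 hN.disjoint) _ h3 (l₂ hz)
    rw [h4, add_zero]
    exact hy
  · have h1 : x ∈ M₁ ⊔ M₂ := by rw [O.isCompl.sup_eq_top]; trivial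
    obtain ⟨y, hy, z, hz, rfl⟩ := Submodule.mem_sup.1 h1
    have h3 : y ∈ N₂ := by
      have := sub_mem hx (l₂ hz)
      rwa [add_sub_cancel_right] at this
    have h4 : y = 0 := (Submodule.disjoint_def.1 hN.disjoint) _ (l₁ hy) h3
    rw [h4, zero_add]
    exact hz

end Spl

end Cfsg.Agent.Omega.NOne.SL

end

section


/-!
# Type (gamma), `q ≥ 4`: from `Gin` to the input of THEOREM SL

(I2) of bb #15588, second part.
-/

set_option autoImplicit false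
set_option linter.unusedVariables false
set_option linter.unusedSectionVars false

open Subgroup
open scoped Pointwise commutatorElement

namespace Cfsg.Agent.Omega.NO1.Gamma

open Cfsg.Agent.Omega.NO1.Beta.Meet (cj mem_cj conj_mem_cj cj_mul cj_inj cj_eq_of_comm
  mem_normalizer_of_cj cj_of_mem_normalizer)
open Cfsg.Agent.Omega.NOne

/-! ### the group-theoretic part of (J1), (J2) -/

namespace Grid

variable {G : Type*} [Group G] {I J : Type*} {V : Subgroup G} {R Q : I → J → Subgroup G} (g : Grid V R Q)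
include g

theorem R_inj {i k : I} {j l : J} (h : R i j = R k l) : i = k ∧ j = l := by
  refine g.disj i j k l ?_
  rw [← h, inf_idem]
  exact g.ne i j

/-- an element of `⨆ colG` fixes the rows -/
theorem col_perm (rc : RC V R Q) {c : G} (hc : c ∈ ⨆ l, colG Q l) :
    ∃ τ : J → J, ∀ k l, cj c (R k l) = R k (τ l) := by
  rcases isEmpty_or_nonempty I with hI | ⟨⟨i⟩⟩
  · exact ⟨id, fun k => hI.elim k⟩
  refine Subgroup.iSup_induction (fun l => colG Q l) (C := fun c => ∃ τ : J → J, ∀ k l, cj c (R k l) = R k (τ l))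
    hc ?_ ?_ ?_
  · intro j y hy
    have hyQ : y ∈ Q i j := (mem_iInf.1 hy) i
    obtain ⟨σ, τ, -, -, h⟩ := g.perm i j y hyQ
    refine ⟨τ, fun k l => ?_⟩
    obtain ⟨l', h1⟩ := rc.col_fix j y hy k l
    rw [h k l] at h1
    rw [h k l, (g.R_inj h1).1]
  · refine ⟨id, fun k l => ?_⟩
    exact cj_eq_of_comm fun r hr => by rw [one_mul, mul_one]
  · rintro x y ⟨τ, h1⟩ ⟨τ', h2⟩
    refine ⟨fun l => τ (τ' l), fun k l => ?_⟩
    rw [cj_mul, h2, h1]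

/-- an element `c` of `⨆ colG` centralises `C_{A_i}(V)` modulo `V`. -/
theorem col_mod (rc : RC V R Q) {c : G} (hc : c ∈ ⨆ l, colG Q l) (i : I) :
    c ∈ normalizer (V : Set G) ∧ ∀ a ∈ rowG Q i, a ∈ centralizer (V : Set G) → a⁻¹ * (c * a * c⁻¹) ∈ V := by
  refine Subgroup.iSup_induction (fun l => colG Q l) (C := fun c => c ∈ normalizer (V : Set G) ∧
    ∀ a ∈ rowG Q i, a ∈ centralizer (V : Set G) → a⁻¹ * (c * a * c⁻¹) ∈ V) hc ?_ ?_ ?_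
  · intro j y hy
    have hyQ : y ∈ Q i j := (mem_iInf.1 hy) i
    refine ⟨g.Q_V i j hyQ, fun a ha haV => ?_⟩
    have haQ : a ∈ Q i j := (mem_iInf.1 ha) j
    have h1 := g.QQ i j _ hyQ _ haQ
    have h2 := g.RQ i j _ h1 _ haQ
    have h3 : a⁻¹ * (y * a * y⁻¹) = y * a * y⁻¹ * a⁻¹ := by
      have : a⁻¹ * (y * a * y⁻¹) = a⁻¹ * ((y * a * y⁻¹ * a⁻¹) * a) := by group
      rw [this, h2]
      group
    rw [h3]
    exact g.R_le i j h1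
  · refine ⟨one_mem _, fun a ha haV => ?_⟩
    simp
  · rintro x y ⟨h1, h2⟩ ⟨h3, h4⟩
    refine ⟨mul_mem h1 h3, fun a ha haV => ?_⟩
    have e : a⁻¹ * (x * y * a * (x * y)⁻¹) = (a⁻¹ * (x * a * x⁻¹)) * (x * (a⁻¹ * (y * a * y⁻¹)) * x⁻¹) := by
      group
    rw [e]
    exact mul_mem (h2 a ha haV) ((mem_normalizer_iff.1 h1 _).1 (h4 a ha haV))

/-- **(J1), group-theoretically.** -/
theorem weyl (rc : RC V R Q) {i : I} {j j' : J} (hj : j ≠ j') {w : G} (hw : w ∈ ⨆ l, colG Q l)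
    (hR : cj w (R i j) = R i j') {y : G} (hy : y ∈ colG Q j) (hyV : y ∈ centralizer (V : Set G)) :
    w * y * w⁻¹ ∈ centralizer (V : Set G) ∧ ∀ a ∈ rowG Q i, a ∈ centralizer (V : Set G) → ∀ b ∈ colG Q j,
      b ∈ centralizer (V : Set G) → ⁅w * y * w⁻¹, a * b⁆ = w * ⁅y, a⁆ * w⁻¹ := by
  obtain ⟨τ, hτ⟩ := g.col_perm rc hw
  obtain ⟨hN, -⟩ := g.col_mod rc hw i
  have hτj : τ j = j' := by
    have h1 := hτ i j
    rw [hR] at h1
    exact (g.R_inj h1).2.symm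
  have hz : w * y * w⁻¹ ∈ colG Q j' := by
    refine mem_iInf.2 fun k => ?_
    have h1 := g.conj w k j k (τ j) (hτ k j)
    rw [hτj] at h1
    rw [← h1]
    exact conj_mem_cj ((mem_iInf.1 hy) k)
  have hzV : w * y * w⁻¹ ∈ centralizer (V : Set G) := by
    rw [mem_centralizer_iff]
    intro x hx
    have h1 : w⁻¹ * x * w ∈ V := by
      have := (mem_normalizer_iff.1 (inv_mem hN) x).1 hx
      rwa [inv_inv] at this
    have h2 := mem_centralizer_iff.1 hyV _ h1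
    calc x * (w * y * w⁻¹) = w * ((w⁻¹ * x * w) * y) * w⁻¹ := by group
      _ = w * (y * (w⁻¹ * x * w)) * w⁻¹ := by rw [h2]
      _ = w * y * w⁻¹ * x := by group
  refine ⟨hzV, fun a ha haV b hb hbV => ?_⟩
  have h1 : w * y * w⁻¹ * b = b * (w * y * w⁻¹) := rc.col_col j' j hj.symm _ hz hzV _ hb hbV
  have h2 : ⁅w * y * w⁻¹, a * b⁆ = ⁅w * y * w⁻¹, a⁆ := by
    have h3 : (w * y * w⁻¹)⁻¹ * b⁻¹ = b⁻¹ * (w * y * w⁻¹)⁻¹ := by
      rw [← mul_inv_rev, ← mul_inv_rev, h1]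
    calc ⁅w * y * w⁻¹, a * b⁆ = (w * y * w⁻¹) * a * (b * ((w * y * w⁻¹)⁻¹ * b⁻¹)) * a⁻¹ := by
          simp only [commutatorElement_def]; group
      _ = (w * y * w⁻¹) * a * (b * (b⁻¹ * (w * y * w⁻¹)⁻¹)) * a⁻¹ := by rw [h3]
      _ = ⁅w * y * w⁻¹, a⁆ := by simp only [commutatorElement_def]; group
  rw [h2]
  -- `w⁻¹ a w = a u`
  have h4 := (g.col_mod rc (inv_mem hw) i).2 a ha haV
  rw [inv_inv] at h4
  set u := a⁻¹ * (w⁻¹ * a * w) with hu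
  have h5 : w⁻¹ * a * w = a * u := by rw [hu]; group
  have h6 : u * y = y * u := mem_centralizer_iff.1 hyV u h4
  have h7 : u * a = a * u := mem_centralizer_iff.1 haV u h4
  have h8 : u * y⁻¹ = y⁻¹ * u := by
    calc u * y⁻¹ = y⁻¹ * (y * u) * y⁻¹ := by group
      _ = y⁻¹ * (u * y) * y⁻¹ := by rw [h6]
      _ = y⁻¹ * u := by group
  calc ⁅w * y * w⁻¹, a⁆ = w * (y * (w⁻¹ * a * w) * y⁻¹ * (w⁻¹ * a * w)⁻¹) * w⁻¹ := by
        simp only [commutatorElement_def]; group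
    _ = w * (y * a * (u * y⁻¹) * u⁻¹ * a⁻¹) * w⁻¹ := by rw [h5]; group
    _ = w * (y * a * (y⁻¹ * u) * u⁻¹ * a⁻¹) * w⁻¹ := by rw [h8]
    _ = w * ⁅y, a⁆ * w⁻¹ := by simp only [commutatorElement_def]; group

end Grid

theorem RC.transpose {G : Type*} [Group G] {I J : Type*} {V : Subgroup G} {R Q : I → J → Subgroup G}
    (g : Grid V R Q) (rc : RC V R Q) : RC V (fun j i => R i j) (fun j i => Q i j) where
  row_eq := fun j i k h => rc.col_eq i k j h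
  col_eq := fun j l i h => rc.row_eq i j l h
  sup := fun j i => by rw [rc.sup i j, sup_comm]; rfl
  mul := fun j i x hx => by
    obtain ⟨a, ha, b, hb, h⟩ := rc.mul i j _ (inv_mem hx)
    exact ⟨b⁻¹, inv_mem hb, a⁻¹, inv_mem ha, by rw [← mul_inv_rev, ← h, inv_inv]⟩
  inf := fun j i => by rw [← rc.inf i j, inf_comm]; rfl
  R_row := fun j i => rc.R_col i j
  R_col := fun j i => rc.R_row i j
  row_comm := rc.col_comm
  col_comm := rc.row_comm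
  row_sq := rc.col_sq
  col_sq := rc.row_sq
  row_cent := fun j i x hx h => rc.col_cent i j x hx h
  col_cent := fun j i x hx h => rc.row_cent i j x hx h
  row_fix := fun j x hx k l => rc.col_fix j x hx l k
  col_fix := fun i x hx k l => rc.row_fix i x hx l k
  row_row := rc.col_col
  col_col := rc.row_row
  cenV := fun j i x hx hV => by
    obtain ⟨a, ha, b, hb, h1, h2, h⟩ := rc.cenV i j _ (inv_mem hx) (inv_mem hV)
    exact ⟨b⁻¹, inv_mem hb, a⁻¹, inv_mem ha, inv_mem h2, inv_mem h1, by rw [← mul_inv_rev, ← h, inv_inv]⟩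
  opp := fun j i x hx hV h => rc.opp i j x hx hV fun k l hk hl => h l k hl hk

end Cfsg.Agent.Omega.NO1.Gamma

end

section


/-!
# Type (gamma), `q ≥ 4`: the decomposition `Q/R = N₁ ⊕ N₂` and the input of THEOREM SL

(I2) of bb #15588, third part.
-/

set_option autoImplicit false
set_option linter.unusedVariables false
set_option linter.unusedSectionVars false
set_option linter.unusedSimpArgs false

open Subgroup
open scoped Pointwise commutatorElement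

namespace Cfsg.Agent.Omega.NO1.Gamma

open Cfsg.Agent.Omega.NO1.Beta.Meet (cj mem_cj conj_mem_cj cj_mul cj_inj cj_eq_of_comm
  mem_normalizer_of_cj cj_of_mem_normalizer)
open Cfsg.Agent.Omega.NOne

namespace Gin

variable {F : Type*} [Field F] {G : Type*} [Group G] {I J : Type*} {S : Sylow 2 G} {V : Subgroup G}
  {R Q : I → J → Subgroup G} {i0 i1 : I} {j0 j1 : J} {v : F → F → F → F → G} {p p' : G → F}
  (D : Gin F S V R Q i0 i1 j0 j1 v p p') [Finite G]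

include D

/-- the space `M = Q/R` -/
noncomputable abbrev Mo : Type _ := D.inp.M

/-- the projection -/
noncomputable def pi {x : G} (hx : x ∈ Q i0 j0) : D.Mo := D.inp.π x hx

/-- the forms -/
noncomputable def ff : D.Mo →ₗ[F] D.Mo →ₗ[F] F := D.inp.f

noncomputable def ss (m : D.Mo) : F := D.inp.s m

theorem pi_surj (m : D.Mo) : ∃ x, ∃ hx : x ∈ Q i0 j0, D.pi hx = m := D.inp.π_surj m

theorem pi_congr {x y : G} (hx : x ∈ Q i0 j0) (h : x = y) (hy : y ∈ Q i0 j0) : D.pi hx = D.pi hy := by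
  subst h; rfl

theorem pi_mul {x y : G} (hx : x ∈ Q i0 j0) (hy : y ∈ Q i0 j0) (hxy : x * y ∈ Q i0 j0) :
    D.pi hxy = D.pi hx + D.pi hy := D.inp.π_mul hx hy

theorem pi_eq_zero {x : G} (hx : x ∈ Q i0 j0) : D.pi hx = 0 ↔ x ∈ R i0 j0 := D.inp.π_eq_zero hx

theorem pi_eq_iff {x y : G} (hx : x ∈ Q i0 j0) (hy : y ∈ Q i0 j0) :
    D.pi hx = D.pi hy ↔ x⁻¹ * y ∈ R i0 j0 := D.inp.π_eq_iff hx hy

theorem ff_pi {x y : G} (hx : x ∈ Q i0 j0) (hy : y ∈ Q i0 j0) :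
    D.ff (D.pi hx) (D.pi hy) = ρ v ⁅x, y⁆ := D.inp.f_π hx hy

theorem ss_pi {x : G} (hx : x ∈ Q i0 j0) : D.ss (D.pi hx) = ρ v (x * x) := D.inp.s_π hx

theorem ρ_one : ρ v 1 = 0 := by
  rw [← D.v_zero]; exact D.ρ_v 0

theorem ρ_inj {r : G} (hr : r ∈ R i0 j0) (h : ρ v r = 0) : r = 1 := D.pre.ρ_inj r hr h

theorem ff_pi_iff {x y : G} (hx : x ∈ Q i0 j0) (hy : y ∈ Q i0 j0) :
    D.ff (D.pi hx) (D.pi hy) = 0 ↔ x * y = y * x := by
  rw [D.ff_pi]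
  constructor
  · intro h
    exact comm_of_eq_one (D.ρ_inj (D.grid.QQ i0 j0 x hx y hy) h)
  · intro h
    rw [commutatorElement_eq_one_iff_mul_comm.2 h, D.ρ_one]

theorem ss_pi_iff {x : G} (hx : x ∈ Q i0 j0) : D.ss (D.pi hx) = 0 ↔ x * x = 1 := by
  rw [D.ss_pi]
  constructor
  · intro h
    exact D.ρ_inj (D.grid.Qsq i0 j0 x hx) h
  · intro h
    rw [h, D.ρ_one]

theorem ff_symm (m n : D.Mo) : D.ff m n = D.ff n m := by
  obtain ⟨x, hx, rfl⟩ := D.pi_surj m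
  obtain ⟨y, hy, rfl⟩ := D.pi_surj n
  rw [D.ff_pi, D.ff_pi]
  exact congrArg (ρ v) (D.pre.comm_symm hx hy)

theorem ss_add (m n : D.Mo) : D.ss (m + n) = D.ss m + D.ss n + D.ff m n := D.inp.s_add m n

theorem ss_smul (a : F) (m : D.Mo) : D.ss (a • m) = a ^ 2 * D.ss m := D.inp.s_smul a m

theorem ff_nondeg (m : D.Mo) (h : ∀ n, D.ff m n = 0) : m = 0 := D.inp.nondeg m h

/-- the action of `K = C(R)` -/
noncomputable def ac {k : G} (hk : k ∈ centralizer (R i0 j0 : Set G)) : D.Mo ≃ₗ[F] D.Mo := D.inp.act ⟨k, hk⟩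

theorem ac_pi {k : G} (hk : k ∈ centralizer (R i0 j0 : Set G)) {x : G} (hx : x ∈ Q i0 j0) :
    D.ac hk (D.pi hx) = D.pi (D.K_norm hk hx) := D.inp.act_π ⟨k, hk⟩ hx

theorem ac_mul {k l : G} (hk : k ∈ centralizer (R i0 j0 : Set G)) (hl : l ∈ centralizer (R i0 j0 : Set G)) :
    D.ac (mul_mem hk hl) = D.ac hk * D.ac hl := D.inp.act.map_mul ⟨k, hk⟩ ⟨l, hl⟩

theorem ac_inv {k : G} (hk : k ∈ centralizer (R i0 j0 : Set G)) :
    D.ac (inv_mem hk) = (D.ac hk)⁻¹ := D.inp.act.map_inv ⟨k, hk⟩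

theorem ac_ss {k : G} (hk : k ∈ centralizer (R i0 j0 : Set G)) (m : D.Mo) : D.ss (D.ac hk m) = D.ss m :=
  D.inp.isom ⟨k, hk⟩ m

theorem ac_ff {k : G} (hk : k ∈ centralizer (R i0 j0 : Set G)) (m n : D.Mo) :
    D.ff (D.ac hk m) (D.ac hk n) = D.ff m n := by
  have h := D.ss_add (D.ac hk m) (D.ac hk n)
  rw [← map_add, D.ac_ss, D.ac_ss, D.ac_ss, D.ss_add] at h
  linear_combination -h

theorem ac_eq_one {k : G} (hk : k ∈ centralizer (R i0 j0 : Set G)) :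
    D.ac hk = 1 ↔ ∀ x ∈ Q i0 j0, ⁅k, x⁆ ∈ R i0 j0 := D.inp.act_eq_one

/-- the kernel of the action -/
theorem mem_Q_of_ac {k : G} (hk : k ∈ centralizer (R i0 j0 : Set G)) (h : D.ac hk = 1) : k ∈ Q i0 j0 := by
  let N : Subgroup G := D.inp.act.ker.map (Subgroup.subtype _)
  have hN : ∀ k, k ∈ N ↔ ∃ hk : k ∈ centralizer (R i0 j0 : Set G), D.ac hk = 1 := by
    intro k
    constructor
    · rintro ⟨k, h1, rfl⟩
      exact ⟨k.2, h1⟩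
    · rintro ⟨hk, h1⟩
      exact ⟨⟨k, hk⟩, h1, rfl⟩
  have hsq : ∀ k ∈ N, k * k ∈ Q i0 j0 := by
    intro k hk
    obtain ⟨hk, h1⟩ := (hN k).1 hk
    rw [D.ac_eq_one] at h1
    apply D.char2
    rw [mem_centralizer_iff]
    intro x hx
    have h2 := h1 x hx
    have h3 := D.mem_K.1 hk _ h2
    have h4 : ⁅k, x⁆ * ⁅k, x⁆ = 1 := D.grid.V_sq _ (D.R_le_V h2)
    have h5 : k * x = ⁅k, x⁆ * (x * k) := by simp only [commutatorElement_def]; group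
    calc x * (k * k) = ⁅k, x⁆ * ⁅k, x⁆ * (x * (k * k)) := by rw [h4, one_mul]
      _ = ⁅k, x⁆ * (⁅k, x⁆ * (x * k)) * k := by group
      _ = ⁅k, x⁆ * (k * x) * k := by rw [← h5]
      _ = ⁅k, x⁆ * k * (x * k) := by group
      _ = k * (⁅k, x⁆ * (x * k)) := by rw [← h3]; group
      _ = k * (k * x) := by rw [← h5]
      _ = k * k * x := by group
  have h2 : IsPGroup 2 N := by
    intro k
    have h3 := hsq k k.2
    obtain ⟨n, hn⟩ := D.Q_two ⟨_, h3⟩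
    refine ⟨n + 1, ?_⟩
    have h4 : ((k : G) * k) ^ 2 ^ n = 1 := congrArg Subtype.val hn
    apply Subtype.ext
    rw [Subgroup.coe_pow, pow_succ', pow_mul, sq]
    exact h4
  refine D.max N h2 (fun k hk => ((hN k).1 hk).1) ?_ ((hN k).2 ⟨hk, h⟩)
  intro c hc x hx
  obtain ⟨hxK, h1⟩ := (hN x).1 hx
  refine (hN _).2 ⟨mul_mem (mul_mem hc hxK) (inv_mem hc), ?_⟩
  rw [D.ac_mul (mul_mem hc hxK) (inv_mem hc), D.ac_mul hc hxK, D.ac_inv hc, h1, mul_one, mul_inv_cancel]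

/-- `Q` acts trivially -/
theorem ac_Q {k : G} (hk : k ∈ Q i0 j0) : D.ac (D.Q_le_K hk) = 1 := by
  rw [D.ac_eq_one]
  intro x hx
  exact D.grid.QQ i0 j0 k hk x hx

/-! ### the vectors `e₁`, `e₂` -/

noncomputable def e₁ : D.Mo := D.pi (D.v_Q 0 1 0)

noncomputable def e₂ : D.Mo := D.pi (D.v_Q 0 0 1)

theorem pi_v (a b c : F) : D.pi (D.v_Q a b c) = b • D.e₁ + c • D.e₂ := by
  refine Subtype.ext (funext fun z => ?_)
  have hz : (z : G) ∈ Q i0 j0 := z.2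
  change ρ v ⁅v a b c 0, (z : G)⁆ = b * ρ v ⁅v 0 1 0 0, (z : G)⁆ + c * ρ v ⁅v 0 0 1 0, (z : G)⁆
  rw [D.comm_v hz, D.comm_v hz, D.comm_v hz]
  simp only [mul_zero, mul_one, add_zero, zero_add]
  rw [D.ρ_v, D.ρ_v, D.ρ_v]
  ring

theorem ff_e₁ {x : G} (hx : x ∈ Q i0 j0) : D.ff (D.pi hx) D.e₁ = p' x := by
  rw [e₁, D.ff_pi, D.p'_eq hx]; rfl

theorem ff_e₂ {x : G} (hx : x ∈ Q i0 j0) : D.ff (D.pi hx) D.e₂ = p x := by
  rw [e₂, D.ff_pi, D.p_eq hx]; rfl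

theorem mem_e {m : D.Mo} (b c : F) (h : m = b • D.e₁ + c • D.e₂) {x : G} (hx : x ∈ Q i0 j0)
    (hm : D.pi hx = m) : ∃ a, x = v a b c 0 := by
  rw [h, ← D.pi_v 0 b c, D.pi_eq_iff] at hm
  obtain ⟨a, ha⟩ := (D.R00 _).1 hm
  refine ⟨a, ?_⟩
  have : x = v 0 b c 0 * (x⁻¹ * v 0 b c 0)⁻¹ := by group
  rw [this, ha, D.v_inv, D.v_mul]
  simp

theorem mem_e_E {x : G} (hx : x ∈ Q i0 j0) : (∃ b c : F, D.pi hx = b • D.e₁ + c • D.e₂) ↔ x ∈ V := by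
  constructor
  · rintro ⟨b, c, h⟩
    obtain ⟨a, rfl⟩ := D.mem_e b c rfl hx h
    exact D.v_mem _ _ _ _
  · intro h
    obtain ⟨a, b, c, rfl⟩ := D.mem_E.1 ⟨h, hx⟩
    exact ⟨b, c, D.pi_v a b c⟩

theorem rowG_le : rowG Q i0 ≤ Q i0 j0 := iInf_le _ _

theorem colG_le : colG Q j0 ≤ Q i0 j0 := iInf_le _ _

/-! ### `N₁`, `N₂` -/

/-- the image of the row group -/
noncomputable def N₁ : Submodule F D.Mo where
  carrier := {m | ∀ x, ∀ hx : x ∈ rowG Q i0, D.ff m (D.pi (D.rowG_le hx)) = 0}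
  add_mem' h1 h2 x hx := by rw [map_add, LinearMap.add_apply, h1 x hx, h2 x hx, add_zero]
  zero_mem' x hx := by rw [map_zero, LinearMap.zero_apply]
  smul_mem' a m h x hx := by rw [map_smul, LinearMap.smul_apply, h x hx, smul_zero]

/-- the image of the column group -/
noncomputable def N₂ : Submodule F D.Mo where
  carrier := {m | ∀ x, ∀ hx : x ∈ colG Q j0, D.ff m (D.pi (D.colG_le hx)) = 0}
  add_mem' h1 h2 x hx := by rw [map_add, LinearMap.add_apply, h1 x hx, h2 x hx, add_zero]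
  zero_mem' x hx := by rw [map_zero, LinearMap.zero_apply]
  smul_mem' a m h x hx := by rw [map_smul, LinearMap.smul_apply, h x hx, smul_zero]

theorem mem_N₁ {x : G} (hx : x ∈ Q i0 j0) : D.pi hx ∈ D.N₁ ↔ x ∈ rowG Q i0 := by
  constructor
  · intro h
    exact D.rc.row_cent i0 j0 x hx fun y hy => (D.ff_pi_iff hx (D.rowG_le hy)).1 (h y hy)
  · intro h y hy
    exact (D.ff_pi_iff hx (D.rowG_le hy)).2 (D.rc.row_comm i0 x h y hy)

theorem mem_N₂ {x : G} (hx : x ∈ Q i0 j0) : D.pi hx ∈ D.N₂ ↔ x ∈ colG Q j0 := by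
  constructor
  · intro h
    exact D.rc.col_cent i0 j0 x hx fun y hy => (D.ff_pi_iff hx (D.colG_le hy)).1 (h y hy)
  · intro h y hy
    exact (D.ff_pi_iff hx (D.colG_le hy)).2 (D.rc.col_comm j0 x h y hy)

theorem e₁_N₁ : D.e₁ ∈ D.N₁ := (D.mem_N₁ _).2 ((D.row_V 0 1 0 0).2 ⟨rfl, rfl⟩)

theorem e₂_N₂ : D.e₂ ∈ D.N₂ := (D.mem_N₂ _).2 ((D.col_V 0 0 1 0).2 ⟨rfl, rfl⟩)

theorem isCompl : IsCompl D.N₁ D.N₂ := by
  constructor
  · rw [Submodule.disjoint_def]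
    intro m h1 h2
    obtain ⟨x, hx, rfl⟩ := D.pi_surj m
    rw [D.mem_N₁] at h1
    rw [D.mem_N₂] at h2
    rw [D.pi_eq_zero, ← D.rc.inf i0 j0]
    exact ⟨h1, h2⟩
  · rw [codisjoint_iff, eq_top_iff]
    intro m _
    obtain ⟨x, hx, rfl⟩ := D.pi_surj m
    obtain ⟨a, ha, b, hb, rfl⟩ := D.rc.mul i0 j0 x hx
    rw [D.pi_mul (D.rowG_le ha) (D.colG_le hb)]
    exact Submodule.add_mem_sup ((D.mem_N₁ _).2 ha) ((D.mem_N₂ _).2 hb)

theorem e₁_ne : D.e₁ ≠ 0 := by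
  intro h
  rw [e₁, D.pi_eq_zero, D.R00] at h
  obtain ⟨a, ha⟩ := h
  exact one_ne_zero (D.v_ext ha).2.1

theorem e₂_ne : D.e₂ ≠ 0 := by
  intro h
  rw [e₂, D.pi_eq_zero, D.R00] at h
  obtain ⟨a, ha⟩ := h
  exact one_ne_zero (D.v_ext ha).2.2.1

theorem sing₁ {m : D.Mo} (h : m ∈ D.N₁) : D.ss m = 0 := by
  obtain ⟨x, hx, rfl⟩ := D.pi_surj m
  rw [D.mem_N₁] at h
  exact (D.ss_pi_iff hx).2 (D.rc.row_sq i0 x h)

theorem sing₂ {m : D.Mo} (h : m ∈ D.N₂) : D.ss m = 0 := by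
  obtain ⟨x, hx, rfl⟩ := D.pi_surj m
  rw [D.mem_N₂] at h
  exact (D.ss_pi_iff hx).2 (D.rc.col_sq j0 x h)

theorem ff_N₁ {m n : D.Mo} (hm : m ∈ D.N₁) (hn : n ∈ D.N₁) : D.ff m n = 0 := by
  have h := D.ss_add m n
  rw [D.sing₁ (add_mem hm hn), D.sing₁ hm, D.sing₁ hn] at h
  linear_combination -h

theorem ff_N₂ {m n : D.Mo} (hm : m ∈ D.N₂) (hn : n ∈ D.N₂) : D.ff m n = 0 := by
  have h := D.ss_add m n
  rw [D.sing₂ (add_mem hm hn), D.sing₂ hm, D.sing₂ hn] at h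
  linear_combination -h

theorem perp : D.ff D.e₁ D.e₂ = 0 := by
  rw [e₁, e₂, D.ff_pi_iff]
  exact D.V_comm (D.v_mem _ _ _ _) (D.v_mem _ _ _ _)

theorem exists_c₁ : ∃ c ∈ D.N₁, D.ff c D.e₂ = 1 := by
  obtain ⟨x, hx, h1, h2⟩ := D.p_surj 1 0
  obtain ⟨a, ha, b, hb, rfl⟩ := D.rc.mul i0 j0 x hx
  refine ⟨D.pi (D.rowG_le ha), (D.mem_N₁ _).2 ha, ?_⟩
  rw [D.p_mul (D.rowG_le ha) (D.colG_le hb), D.col_p b hb, add_zero] at h1
  rw [D.ff_e₂, h1]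

theorem exists_c₂ : ∃ c ∈ D.N₂, D.ff c D.e₁ = 1 := by
  obtain ⟨x, hx, h1, h2⟩ := D.p_surj 0 1
  obtain ⟨a, ha, b, hb, rfl⟩ := D.rc.mul i0 j0 x hx
  refine ⟨D.pi (D.colG_le hb), (D.mem_N₂ _).2 hb, ?_⟩
  rw [D.p'_mul (D.rowG_le ha) (D.colG_le hb), D.row_p a ha, zero_add] at h2
  rw [D.ff_e₁, h2]

/-- `C_Q(V)/R = P` -/
theorem mem_P {x : G} (hx : x ∈ Q i0 j0) :
    (D.ff D.e₁ (D.pi hx) = 0 ∧ D.ff D.e₂ (D.pi hx) = 0) ↔ x ∈ centralizer (V : Set G) := by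
  rw [D.ff_symm D.e₁, D.ff_symm D.e₂, D.ff_e₁, D.ff_e₂, D.mem_CV hx, and_comm]

/-- the form of an isometry which is trivial on `P` -/
theorem isom_P {g : D.Mo ≃ₗ[F] D.Mo} (hs : ∀ m, D.ss (g m) = D.ss m)
    (hP : ∀ m, D.ff D.e₁ m = 0 → D.ff D.e₂ m = 0 → g m = m) :
    ∃ a : F, ∀ m, g m = m + a • (D.ff m D.e₁ • D.e₂ + D.ff m D.e₂ • D.e₁) := by
  have hf : ∀ m n, D.ff (g m) (g n) = D.ff m n := by
    intro m n
    have h := D.ss_add (g m) (g n)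
    rw [← map_add, hs, hs, hs, D.ss_add] at h
    linear_combination -h
  obtain ⟨c₁, hc₁, h1⟩ := D.exists_c₁
  obtain ⟨c₂, hc₂, h2⟩ := D.exists_c₂
  have h3 : D.ff c₁ D.e₁ = 0 := D.ff_N₁ hc₁ D.e₁_N₁
  have h4 : D.ff c₂ D.e₂ = 0 := D.ff_N₂ hc₂ D.e₂_N₂
  -- `P^⊥ = e`
  have hdec : ∀ m, ∃ n, D.ff D.e₁ n = 0 ∧ D.ff D.e₂ n = 0 ∧ m = n + D.ff m D.e₂ • c₁ + D.ff m D.e₁ • c₂ := by
    intro m
    refine ⟨m - D.ff m D.e₂ • c₁ - D.ff m D.e₁ • c₂, ?_, ?_, by module⟩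
    · rw [D.ff_symm]
      simp only [map_sub, map_smul, LinearMap.sub_apply, LinearMap.smul_apply, smul_eq_mul, h2, h3]
      ring
    · rw [D.ff_symm]
      simp only [map_sub, map_smul, LinearMap.sub_apply, LinearMap.smul_apply, smul_eq_mul, h1, h4]
      ring
  have hperp : ∀ m, (∀ n, D.ff D.e₁ n = 0 → D.ff D.e₂ n = 0 → D.ff m n = 0) →
      m = D.ff m c₂ • D.e₁ + D.ff m c₁ • D.e₂ := by
    intro m hm
    rw [← sub_eq_zero]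
    refine D.ff_nondeg _ fun n => ?_
    obtain ⟨n', hn1, hn2, h5⟩ := hdec n
    rw [h5]
    have e1 := hm n' hn1 hn2
    have e2 : D.ff D.e₁ c₁ = 0 := by rw [D.ff_symm, h3]
    have e3 : D.ff D.e₂ c₁ = 1 := by rw [D.ff_symm, h1]
    have e4 : D.ff D.e₁ c₂ = 1 := by rw [D.ff_symm, h2]
    have e5 : D.ff D.e₂ c₂ = 0 := by rw [D.ff_symm, h4]
    simp only [map_sub, map_smul, map_add, LinearMap.sub_apply, LinearMap.smul_apply, LinearMap.add_apply,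
      smul_eq_mul, e1, e2, e3, e4, e5, hn1, hn2]
    ring
  have hge : ∀ m, ∃ a c : F, g m = m + a • D.e₁ + c • D.e₂ := by
    intro m
    have h5 := hperp (g m - m) (fun n hn1 hn2 => by
      rw [map_sub, LinearMap.sub_apply]
      have h6 := hf m n
      rw [hP n hn1 hn2] at h6
      rw [h6, sub_self])
    refine ⟨D.ff (g m - m) c₂, D.ff (g m - m) c₁, ?_⟩
    rw [add_assoc, ← h5]
    abel
  obtain ⟨a, c, h5⟩ := hge c₁
  obtain ⟨a', c', h6⟩ := hge c₂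
  have hee : ∀ a c : F, D.ss (a • D.e₁ + c • D.e₂) = 0 := by
    intro a c
    rw [D.ss_add, D.ss_smul, D.ss_smul, D.sing₁ D.e₁_N₁, D.sing₂ D.e₂_N₂, map_smul, map_smul, LinearMap.smul_apply,
      D.perp]
    simp
  have hc : c = 0 := by
    have h7 := hs c₁
    rw [h5, add_assoc, D.ss_add, hee, map_add, map_smul, map_smul, h1, h3] at h7
    simp only [smul_eq_mul] at h7
    linear_combination h7
  have ha' : a' = 0 := by
    have h7 := hs c₂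
    rw [h6, add_assoc, D.ss_add, hee, map_add, map_smul, map_smul, h2, h4] at h7
    simp only [smul_eq_mul] at h7
    linear_combination h7
  have hac : c' = a := by
    have h7 := hf c₁ c₂
    rw [h5, h6, hc, ha'] at h7
    simp only [map_smul, map_add, LinearMap.smul_apply, LinearMap.add_apply, smul_eq_mul, h1, h3,
      D.ff_symm D.e₁ c₂, h2, D.perp, zero_smul, map_zero, LinearMap.zero_apply, D.ff_symm D.e₂ c₂, h4] at h7
    linear_combination h7 - a * D.two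
  refine ⟨a, fun m => ?_⟩
  obtain ⟨n, hn1, hn2, h7⟩ := hdec m
  have h8 : g m = n + D.ff m D.e₂ • (c₁ + a • D.e₁ + c • D.e₂) + D.ff m D.e₁ • (c₂ + a' • D.e₁ + c' • D.e₂) := by
    conv_lhs => rw [h7]
    rw [map_add, map_add, map_smul, map_smul, hP n hn1 hn2, h5, h6]
  rw [h8, hc, ha', hac]
  conv_rhs => rw [h7]
  have k1 : D.ff (n + D.ff m D.e₂ • c₁ + D.ff m D.e₁ • c₂) D.e₁ = D.ff m D.e₁ := by rw [← h7]
  have k2 : D.ff (n + D.ff m D.e₂ • c₁ + D.ff m D.e₁ • c₂) D.e₂ = D.ff m D.e₂ := by rw [← h7]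
  rw [k1, k2]
  module

/-- the elements of `Q` which centralise `C_Q(V)` -/
theorem cent_CV {x : G} (hx : x ∈ Q i0 j0)
    (h : ∀ y ∈ Q i0 j0, y ∈ centralizer (V : Set G) → x * y = y * x) : x ∈ V := by
  rw [← D.mem_e_E hx]
  obtain ⟨c₁, hc₁, h1⟩ := D.exists_c₁
  obtain ⟨c₂, hc₂, h2⟩ := D.exists_c₂
  have h3 : D.ff c₁ D.e₁ = 0 := D.ff_N₁ hc₁ D.e₁_N₁
  have h4 : D.ff c₂ D.e₂ = 0 := D.ff_N₂ hc₂ D.e₂_N₂
  refine ⟨D.ff (D.pi hx) c₂, D.ff (D.pi hx) c₁, ?_⟩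
  rw [← sub_eq_zero]
  refine D.ff_nondeg _ fun n => ?_
  obtain ⟨n', hn1, hn2, h5⟩ : ∃ n', D.ff D.e₁ n' = 0 ∧ D.ff D.e₂ n' = 0 ∧
      n = n' + D.ff n D.e₂ • c₁ + D.ff n D.e₁ • c₂ := by
    refine ⟨n - D.ff n D.e₂ • c₁ - D.ff n D.e₁ • c₂, ?_, ?_, by module⟩
    · rw [D.ff_symm]
      simp only [map_sub, map_smul, LinearMap.sub_apply, LinearMap.smul_apply, smul_eq_mul, h2, h3]
      ring
    · rw [D.ff_symm]
      simp only [map_sub, map_smul, LinearMap.sub_apply, LinearMap.smul_apply, smul_eq_mul, h1, h4]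
      ring
  have e1 : D.ff (D.pi hx) n' = 0 := by
    obtain ⟨y, hy, rfl⟩ := D.pi_surj n'
    exact (D.ff_pi_iff hx hy).2 (h y hy ((D.mem_P hy).1 ⟨hn1, hn2⟩))
  rw [h5]
  have e2 : D.ff D.e₁ c₁ = 0 := by rw [D.ff_symm, h3]
  have e3 : D.ff D.e₂ c₁ = 1 := by rw [D.ff_symm, h1]
  have e4 : D.ff D.e₁ c₂ = 1 := by rw [D.ff_symm, h2]
  have e5 : D.ff D.e₂ c₂ = 0 := by rw [D.ff_symm, h4]
  simp only [map_sub, map_smul, map_add, LinearMap.sub_apply, LinearMap.smul_apply, LinearMap.add_apply,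
    smul_eq_mul, e1, e2, e3, e4, e5, hn1, hn2]
  ring

end Gin

end Cfsg.Agent.Omega.NO1.Gamma

end
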